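import Cfsg.Agent.U62.Semi2
import Cfsg.Agent.R01.FusionMain
import Cfsg.Agent.ClassicalGeometry.PSUAutMain

/-!
The local situation: `L = 2.U_6(2)`, `K = C_G(L)`, `t` the central involution of `L`, and the labelling `p` of the
class of 3-transpositions of `L` by the isotropic vectors.
-/

set_option autoImplicit false
set_option linter.unusedSectionVars false
set_option linter.dupNamespace false

namespace Cfsg.Agent.U62.Sys

open Cfsg Cfsg.Agent.LieClassical.HermBasic Cfsg.Agent.ClassicalGeometry.UnitTransv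
open Cfsg.Agent.SporadicStructure.UnitTwo
open Cfsg.Agent.R01.Lifts Cfsg.Agent.R01.PSUSix Cfsg.Agent.R01.Label Cfsg.Agent.R01.InvForm
open Cfsg.Agent.R01.ComLabel (Iso)
open Cfsg.Agent.ClassicalGeometry.UnitAutBasic (tau pr pr_surjective)
open Cfsg.Agent.ClassicalGeometry.PSUAutCount (toAut toAut_tau exists_r gm herm_semi)
open Cfsg.Agent.U62.Semi
open scoped Matrix

/-- The local situation. -/
structure Sys {G : Type*} [Group G] {F : Type*} [Field F] [Fintype F]
    (hF : Fintype.card F = 2 ^ 2) (t : G) (L K : Subgroup G) (p : (Fin 6 → F) → G) : Prop where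
  tt : t * t = 1
  t1 : t ≠ 1
  tL : t ∈ L
  tK : t ∈ K
  LK : ∀ x ∈ L, x ∈ K → x = 1 ∨ x = t
  comm : ∀ l ∈ L, ∀ k ∈ K, Commute l k
  Lnorm : ∀ n, Commute n t → ∀ l ∈ L, n * l * n⁻¹ ∈ L
  Knorm : ∀ n, Commute n t → ∀ k ∈ K, n * k * n⁻¹ ∈ K
  pL : ∀ v, Iso F v → p v ∈ L
  smul : ∀ v, Iso F v → ∀ c : F, c ≠ 0 → p (c • v) = p v
  sq : ∀ v, Iso F v → p v * p v = 1
  inj : ∀ u v, Iso F u → Iso F v → p u = p v → Pt u v
  comm_iff : ∀ u v, Iso F u → Iso F v → (Commute (p u) (p v) ↔ hermForm 6 F 2 u v = 0)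
  conj : ∀ u v, Iso F u → Iso F v → p u * p v * p u = p (v + hermForm 6 F 2 v u • u)
  three : ∀ u v, Iso F u → Iso F v → hermForm 6 F 2 u v ≠ 0 → (p u * p v) ^ 3 = 1
  line : ∀ a b, Fr2 a b → ∀ ω : F, ω ^ 2 + ω + 1 = 0 →
    p a * p b * p (a + b) * p (ω • a + b) * p (ω ^ 2 • a + b) = t
  ne1 : ∀ u, Iso F u → p u ≠ 1
  net : ∀ u, Iso F u → p u ≠ t
  triple : ∀ u v w, Iso F u → Iso F v → Iso F w → hermForm 6 F 2 u v = 0 →
    hermForm 6 F 2 u w = 0 → hermForm 6 F 2 v w = 0 →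
    p u * p v * p w ≠ 1 ∧ p u * p v * p w ≠ t
  seven : ∃ u v w, Fr3 u v w ∧
    p u * p v * p w * p (u + v) * p (u + w) * p (v + w) * p (u + v + w) = 1
  semi : ∀ n, Commute n t → ∃ e φ, (e = 1 ∨ e = 2) ∧ Sem (F := F) e φ ∧
    ∀ v, Iso F v → n * p v * n⁻¹ = p (φ v)
  lin : ∀ l ∈ L, ∃ g : SU 6 F 2, ∀ v, Iso F v → l * p v * l⁻¹ = p (act g v)
  real : ∀ g : SU 6 F 2, ∃ l ∈ L, ∀ v, Iso F v → l * p v * l⁻¹ = p (act g v)
  ker : ∀ n, (∀ v, Iso F v → Commute n (p v)) → n ∈ K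
  invf : ∀ l ∈ L, l * l = 1 ∨ l * l = t → ∃ c₀ : G, (c₀ = 1 ∨ c₀ = t) ∧ (l = c₀ ∨
    (∃ u, Iso F u ∧ l = c₀ * p u) ∨ (∃ u v, Fr2 u v ∧ l = c₀ * (p u * p v)) ∨
    (∃ u v w, Fr3 u v w ∧ l = c₀ * (p u * p v * p w)))
  nsq : ∀ l ∈ L, l * l ≠ t
  conj3 : ∀ u v w, Fr3 u v w → ∃ g ∈ L, g * (p u * p v * p w) * g⁻¹ = t * (p u * p v * p w)

section construct

variable {G : Type*} [Group G] {F : Type*} [Field F] [Fintype F] {hF : Fintype.card F = 2 ^ 2}
variable {t : G} {L : Subgroup G} (tL : t ∈ L)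
variable {π : L →* PSU 6 F 2} {lift : (Fin 6 → F) → L}

theorem root_cases {ω ω' : F} (hω : ω ^ 2 + ω + 1 = 0) (hω' : ω' ^ 2 + ω' + 1 = 0) :
    ω' = ω ∨ ω' = ω ^ 2 := by
  have h3 := omega_cubed hω
  have : (ω' - ω) * (ω' - ω ^ 2) = 0 := by
    linear_combination hω' - ω' * hω + h3
  rcases mul_eq_zero.1 this with h5 | h5
  · left; linear_combination h5
  · right; linear_combination h5

/-- An element normalizing `L` and commuting with `t` permutes the labels by a semi-isometry. -/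
theorem semi_of_lab (hF : Fintype.card F = 2 ^ 2) (Lb : Lab hF π ⟨t, tL⟩ ⟨t, tL⟩ lift)
    {n : G} (hn : ∀ l ∈ L, n * l * n⁻¹ ∈ L) (hn' : ∀ l ∈ L, n⁻¹ * l * n ∈ L)
    (hnt : Commute n t) :
    ∃ e φ, (e = 1 ∨ e = 2) ∧ Sem (F := F) e φ ∧
      ∀ v, Iso F v → n * (lift v : G) * n⁻¹ = lift (φ v) := by
  -- the automorphism of `L`
  let a : L ≃* L :=
    { toFun := fun l => ⟨n * l * n⁻¹, hn l l.2⟩
      invFun := fun l => ⟨n⁻¹ * l * n, hn' l l.2⟩
      left_inv := fun l => Subtype.ext (by simp only; group)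
      right_inv := fun l => Subtype.ext (by simp only; group)
      map_mul' := fun x y => Subtype.ext (by simp only [Subgroup.coe_mul]; group) }
  have ha : ∀ l : L, (a l : G) = n * l * n⁻¹ := fun l => rfl
  have haz : a ⟨t, tL⟩ = ⟨t, tL⟩ := Subtype.ext (by
    rw [ha]
    show n * t * n⁻¹ = t
    rw [hnt.eq, mul_inv_cancel_right])
  -- the induced automorphism of the quotient
  have hext := Lb.ext
  have hwd : ∀ x y : L, π x = π y → π (a x) = π (a y) := by
    intro x y hxy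
    rcases hext.map_eq.1 hxy with h | h
    · rw [h]
    · rw [h, map_mul a, haz, map_mul π, hext.mapz, mul_one]
  have hwd' : ∀ x y : L, π x = π y → π (a.symm x) = π (a.symm y) := by
    intro x y hxy
    have haz' : a.symm ⟨t, tL⟩ = ⟨t, tL⟩ := by
      conv_lhs => rw [← haz]
      exact a.symm_apply_apply _
    rcases hext.map_eq.1 hxy with h | h
    · rw [h]
    · rw [h, map_mul a.symm, haz', map_mul π, hext.mapz, mul_one]
  let s : PSU 6 F 2 → L := Function.surjInv hext.surj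
  have hs : ∀ x, π (s x) = x := Function.surjInv_eq hext.surj
  let α : MulAut (PSU 6 F 2) :=
    { toFun := fun x => π (a (s x))
      invFun := fun x => π (a.symm (s x))
      left_inv := fun x => by
        show π (a.symm (s (π (a (s x))))) = x
        rw [hwd' _ (a (s x)) (hs _), a.symm_apply_apply, hs]
      right_inv := fun x => by
        show π (a (s (π (a.symm (s x))))) = x
        rw [hwd _ (a.symm (s x)) (hs _), a.apply_symm_apply, hs]
      map_mul' := fun x y => by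
        show π (a (s (x * y))) = π (a (s x)) * π (a (s y))
        rw [← map_mul, ← map_mul]
        exact hwd _ _ (by rw [hs, map_mul, hs, hs]) }
  have hα : ∀ l : L, α (π l) = π (a l) := fun l => hwd _ _ (hs _)
  obtain ⟨A, ρ, hA⟩ := Cfsg.Agent.ClassicalGeometry.PSUAutMain.exists_toAut hF (by norm_num)
    (by norm_num) α
  obtain ⟨r, hr0, hr⟩ := exists_r hF ρ
  let φ : (Fin 6 → F) → (Fin 6 → F) := fun v => gm A *ᵥ fun i => ρ (v i)
  have hφ : IsSemi φ ρ := by
    refine ⟨fun v w => ?_, fun c v => ?_, fun v w => herm_semi A ρ v w⟩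
    · show gm A *ᵥ (fun i => ρ ((v + w) i)) = _
      rw [← Matrix.mulVec_add]
      congr 1
      funext i
      exact map_add ρ _ _
    · show gm A *ᵥ (fun i => ρ ((c • v) i)) = ρ c • _
      rw [← Matrix.mulVec_smul]
      congr 1
      funext i
      exact map_mul ρ _ _
  have hiso : ∀ v, Iso F v → Iso F (φ v) := fun v hv =>
    ⟨hφ.ne_zero hF hv.1, by rw [hφ.herm, hv.2, map_zero]⟩
  have hπ : ∀ v, Iso F v → π (a (lift v)) = π (lift (φ v)) := by
    intro v hv
    rw [← hα, Lb.map v hv.1 hv.2, hA, toAut_tau hF A ρ hr hv.2, tau_smul hF (hiso v hv).2 hr0,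
      Lb.map _ (hiso v hv).1 (hiso v hv).2]
  have hzz := hext.zz
  have hzc := hext.comm
  set z : L := ⟨t, tL⟩ with hz
  -- the sign is constant
  have hcase : ∀ v, Iso F v → a (lift v) = lift (φ v) ∨ a (lift v) = lift (φ v) * z :=
    fun v hv => hext.map_eq.1 (hπ v hv)
  have hDmem : ∀ v, Iso F v → lift v ∈ Dset lift := fun v hv => Lab.mem_D hv.1 hv.2
  have hconst : ∀ v w, Iso F v → Iso F w → a (lift v) = lift (φ v) → a (lift w) = lift (φ w) := by
    intro v w hv hw h1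
    obtain ⟨c, hc⟩ := Lb.trans hv.2 hw.2 hv.1 hw.1
    have h2 : a (lift w) ∈ Dset lift := by
      rw [← hc, map_mul, map_mul, map_inv, h1]
      exact Lb.conj_mem (hDmem _ (hiso v hv)) (a c)
    rcases hcase w hw with h3 | h3
    · exact h3
    · exfalso
      rw [h3] at h2
      exact Lb.mul_z_notMem (hDmem _ (hiso w hw)) h2
  have hall : ∀ v, Iso F v → a (lift v) = lift (φ v) := by
    by_contra hcon
    push Not at hcon
    obtain ⟨v0, hv0, hne⟩ := hcon
    have hbad : ∀ v, Iso F v → a (lift v) = lift (φ v) * z := fun v hv =>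
      (hcase v hv).resolve_left fun h1 => hne (hconst v v0 hv hv0 h1)
    obtain ⟨ω, hω⟩ := exists_omega hF
    have hfr := (fr3_std (F := F) hF).fr2
    set x : Fin 6 → F := ![1, 1, 0, 0, 0, 0] with hx
    set y : Fin 6 → F := ![0, 0, 1, 1, 0, 0] with hy
    clear_value x y
    have hxi : Iso F x := ⟨hfr.u_ne, hfr.uu⟩
    have hyi : Iso F y := ⟨hfr.v_ne, hfr.vv⟩
    have hci : ∀ c : F, Iso F (c • x + y) := by
      intro c
      refine ⟨fun h0 => one_ne_zero (hfr.ind c 1 (by rw [one_smul, h0])).2, ?_⟩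
      rw [herm_add_left, herm_add_right hF, herm_add_right hF, herm_smul_left, herm_smul_left,
        herm_smul_right, herm_smul_right, hfr.uu, hfr.vv, hfr.uv, herm_eq_zero_swap hF hfr.uv]
      ring
    have hxy1 : Iso F (x + y) := by have := hci 1; rwa [one_smul] at this
    have hl := Lb.line x y hxi.1 hyi.1 hxi.2 hyi.2 hfr.uv hfr.not_mul ω hω
    have hω' : (ρ ω) ^ 2 + ρ ω + 1 = 0 := by
      rw [← map_pow, ← map_add, ← map_one ρ, ← map_add, hω, map_zero]
    have hφx := hiso x hxi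
    have hφy := hiso y hyi
    have hl' := Lb.line (φ x) (φ y) hφx.1 hφy.1 hφx.2 hφy.2
      (by rw [hφ.herm, hfr.uv, map_zero]) (by
        rintro ⟨c, hc⟩
        have h5 : φ (y - (ρ.symm c) • x) = 0 := by
          have h6 : y - (ρ.symm c) • x = y + (-(ρ.symm c)) • x := by rw [neg_smul]; abel
          rw [h6, hφ.add, hφ.smul, hc, map_neg, ρ.apply_symm_apply, neg_smul, add_neg_cancel]
        have h7 : y - (ρ.symm c) • x = 0 := by
          by_contra h8
          exact hφ.ne_zero hF h8 h5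
        exact hfr.not_mul ⟨_, sub_eq_zero.1 h7⟩) (ρ ω) hω'
    have h9 := congrArg a hl
    rw [map_mul, map_mul, map_mul, map_mul, haz, hbad x hxi, hbad y hyi, hbad _ hxy1,
      hbad _ (hci ω), hbad _ (hci (ω ^ 2)), hφ.add, hφ.add, hφ.add, hφ.smul, hφ.smul, map_pow] at h9
    have e1 : ∀ u v : L, u * z * (v * z) = u * v := by
      intro u v
      calc u * z * (v * z) = u * (z * v) * z := by group
        _ = u * (v * z) * z := by rw [← hzc v]
        _ = u * v * (z * z) := by group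
        _ = u * v := by rw [hzz, mul_one]
    have e2 : ∀ u v : L, u * (v * z) = u * v * z := fun u v => (mul_assoc u v z).symm
    have e3 : ∀ a₁ a₂ a₃ a₄ a₅ : L, a₁ * z * (a₂ * z) * (a₃ * z) * (a₄ * z) * (a₅ * z) =
        a₁ * a₂ * a₃ * a₄ * a₅ * z := by
      intro a₁ a₂ a₃ a₄ a₅
      rw [e1 a₁ a₂, e2 (a₁ * a₂) a₃, e1 (a₁ * a₂ * a₃) a₄, e2 _ a₅]
    rw [e3, hl'] at h9
    have h10 : z * z = z := h9
    rw [hzz] at h10
    exact hext.zne h10.symm
  rcases sem_of_isSemi hF hφ with h1 | h1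
  · exact ⟨1, φ, Or.inl rfl, h1, fun v hv => congrArg Subtype.val (hall v hv)⟩
  · exact ⟨2, φ, Or.inr rfl, h1, fun v hv => congrArg Subtype.val (hall v hv)⟩

/-- **Construction** of the local situation. -/
theorem exists_sys [Finite G] (hF : Fintype.card F = 2 ^ 2)
    (hperf : commutator L = ⊤) (e : L ⧸ Subgroup.center L ≃* PSU 6 F 2)
    (t1 : t ≠ 1) (tt : t * t = 1) (tL : t ∈ L) (tK : t ∈ Subgroup.centralizer (L : Set G))
    (hLK : ∀ x ∈ L, x ∈ Subgroup.centralizer (L : Set G) → x = 1 ∨ x = t)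
    (hLn : ∀ n, Commute n t → ∀ l ∈ L, n * l * n⁻¹ ∈ L) :
    ∃ p : (Fin 6 → F) → G, Sys hF t L (Subgroup.centralizer (L : Set G)) p := by
  set K := Subgroup.centralizer (L : Set G) with hK
  let π : L →* PSU 6 F 2 := e.toMonoidHom.comp (QuotientGroup.mk' (Subgroup.center L))
  have hcen : ∀ c : L, c ∈ Subgroup.center L ↔ (c : G) ∈ K := by
    intro c
    rw [Subgroup.mem_center_iff, hK, Subgroup.mem_centralizer_iff]
    constructor
    · intro h g hg
      exact congrArg Subtype.val (h ⟨g, hg⟩)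
    · intro h g
      exact Subtype.ext (h g g.2)
  have hext : Ext π ⟨t, tL⟩ := by
    refine ⟨?_, Subtype.ext tt, fun h => t1 (congrArg Subtype.val h), ?_, ?_⟩
    · exact e.surjective.comp (QuotientGroup.mk'_surjective _)
    · intro c
      show e (QuotientGroup.mk' _ c) = 1 ↔ _
      rw [EmbeddingLike.map_eq_one_iff, QuotientGroup.mk'_apply, QuotientGroup.eq_one_iff, hcen]
      constructor
      · intro h
        rcases hLK c c.2 h with h1 | h1
        · exact Or.inl (Subtype.ext h1)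
        · exact Or.inr (Subtype.ext h1)
      · rintro (rfl | rfl)
        · exact K.one_mem
        · exact tK
    · intro c
      exact Subtype.ext (Subgroup.mem_centralizer_iff.1 tK c c.2)
  obtain ⟨lift, Lb⟩ := exists_lab hF hext hperf (Or.inr rfl)
  have hcomm : ∀ l ∈ L, ∀ k ∈ K, Commute l k := fun l hl k hk =>
    Subgroup.mem_centralizer_iff.1 hk l hl
  have hcl := Lb.isThreeTranspositionClass
  have hDmem : ∀ v, Iso F v → lift v ∈ Dset lift := fun v hv => Lab.mem_D hv.1 hv.2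
  have htriple : ∀ u v w, Iso F u → Iso F v → Iso F w → hermForm 6 F 2 u v = 0 →
      hermForm 6 F 2 u w = 0 → hermForm 6 F 2 v w = 0 → π (lift u * lift v * lift w) ≠ 1 := by
    intro u v w hu hv hw huv huw hvw h
    rw [map_mul, map_mul, Lb.map u hu.1 hu.2, Lb.map v hv.1 hv.2, Lb.map w hw.1 hw.2] at h
    exact Cfsg.Agent.R01.Fusion.tau_triple hF hu.1 hv.1 hw.1 hu.2 hv.2 hw.2 huv huw hvw h
  have hpz : π (⟨t, tL⟩ : L) = 1 := hext.mapz
  refine ⟨fun v => (lift v : G), ⟨tt, t1, tL, tK, hLK, hcomm, hLn, ?_, fun v _ => (lift v).2, ?_, ?_,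
    ?_, ?_, ?_, ?_, ?_, ?_, ?_, ?_, ?_, ?_, ?_, ?_, ?_, ?_, ?_, ?_⟩⟩
  · -- Knorm
    intro n hn k hk
    rw [hK, Subgroup.mem_centralizer_iff]
    intro l hl
    have h1 : n⁻¹ * l * n ∈ L := by
      have := hLn n⁻¹ hn.inv_left l hl
      rwa [inv_inv] at this
    have h2 := Subgroup.mem_centralizer_iff.1 hk _ h1
    calc l * (n * k * n⁻¹) = n * ((n⁻¹ * l * n) * k) * n⁻¹ := by group
      _ = n * (k * (n⁻¹ * l * n)) * n⁻¹ := by rw [h2]
      _ = n * k * n⁻¹ * l := by group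
  · intro v hv c hc
    exact congrArg Subtype.val (Lb.smul v c hv.2 hc)
  · intro v hv
    exact congrArg Subtype.val (Lb.sq v hv.1 hv.2)
  · intro u v hu hv h
    exact (Lb.lift_eq_iff hu.2 hv.2 hu.1 hv.1).1 (Subtype.ext h)
  · intro u v hu hv
    rw [← Lb.commute_iff hu.2 hv.2 hu.1 hv.1]
    exact ⟨fun h => Subtype.ext h.eq, fun h => congrArg Subtype.val h.eq⟩
  · intro u v hu hv
    exact congrArg Subtype.val (Lb.conj_lift hu.2 hv.2 hu.1 hv.1)
  · intro u v hu hv huv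
    rcases hcl.1.2 _ (hDmem u hu) _ (hDmem v hv) with h | h
    · exfalso
      apply huv
      rw [← Lb.commute_iff hu.2 hv.2 hu.1 hv.1]
      have e1 : lift u * lift v * (lift u * lift v) = 1 := by rw [← pow_two]; exact h
      have e2 := eq_inv_of_mul_eq_one_left e1
      rw [mul_inv_rev, inv_eq_of_mul_eq_one_left (Lb.sq u hu.1 hu.2),
        inv_eq_of_mul_eq_one_left (Lb.sq v hv.1 hv.2)] at e2
      exact e2
    · exact congrArg Subtype.val h
  · intro a b hab ω hω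
    exact congrArg Subtype.val (Lb.line a b hab.u_ne hab.v_ne hab.uu hab.vv hab.uv hab.not_mul ω hω)
  · intro u hu h
    exact Lb.lift_ne_one hu.1 hu.2 (Subtype.ext h)
  · intro u hu h
    have h1 : lift u = ⟨t, tL⟩ := Subtype.ext h
    exact Lb.z_notMem (h1 ▸ hDmem u hu)
  · intro u v w hu hv hw huv huw hvw
    refine ⟨fun h => htriple u v w hu hv hw huv huw hvw ?_,
      fun h => htriple u v w hu hv hw huv huw hvw ?_⟩
    · have h1 : lift u * lift v * lift w = 1 := Subtype.ext h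
      rw [h1, map_one]
    · have h1 : lift u * lift v * lift w = ⟨t, tL⟩ := Subtype.ext h
      rw [h1, hpz]
  · obtain ⟨u, v, w, hf, h⟩ := Cfsg.Agent.R01.FusionMain.exists_seven Lb
    exact ⟨u, v, w, hf, congrArg Subtype.val h⟩
  · intro n hn
    exact semi_of_lab tL hF Lb (hLn n hn) (fun l hl => by
      have := hLn n⁻¹ hn.inv_left l hl
      rwa [inv_inv] at this) hn
  · intro l hl
    obtain ⟨g, hg⟩ := pr_surjective (π ⟨l, hl⟩)
    exact ⟨g, fun v hv => congrArg Subtype.val (Lb.conj ⟨l, hl⟩ g v hg.symm hv.1 hv.2)⟩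
  · intro g
    obtain ⟨c, hc⟩ := hext.surj (pr 6 F 2 g)
    exact ⟨c, c.2, fun v hv => congrArg Subtype.val (Lb.conj c g v hc hv.1 hv.2)⟩
  · intro n hn
    rw [hK, Subgroup.mem_centralizer_iff]
    intro l hl
    have h1 : (⟨l, hl⟩ : L) ∈ Subgroup.closure (Dset lift) := by rw [hcl.2.2]; trivial
    have h2 : Commute n l := by
      refine Subgroup.closure_induction (p := fun (x : L) _ => Commute n (x : G)) ?_ ?_ ?_ ?_ h1
      · rintro _ ⟨v, hv0, hv, rfl⟩
        exact hn v ⟨hv0, hv⟩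
      · exact Commute.one_right n
      · intro x y _ _ hx hy
        exact hx.mul_right hy
      · intro x _ hx
        exact hx.inv_right
    exact h2.eq.symm
  · intro l hl hll
    obtain ⟨c₀, hc, h⟩ := inv_form Lb (c := ⟨l, hl⟩) (by
      rcases hll with h | h
      · exact Or.inl (Subtype.ext h)
      · exact Or.inr (Subtype.ext h))
    refine ⟨c₀, ?_, ?_⟩
    · rcases hc with rfl | rfl
      · exact Or.inl rfl
      · exact Or.inr rfl
    · rcases h with h | ⟨u, h0, hu, h⟩ | ⟨u, v, hf, h⟩ | ⟨u, v, w, hf, h⟩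
      · exact Or.inl (congrArg Subtype.val h)
      · exact Or.inr (Or.inl ⟨u, ⟨h0, hu⟩, congrArg Subtype.val h⟩)
      · exact Or.inr (Or.inr (Or.inl ⟨u, v, hf, congrArg Subtype.val h⟩))
      · exact Or.inr (Or.inr (Or.inr ⟨u, v, w, hf, congrArg Subtype.val h⟩))
  · intro l hl h
    exact z_not_square Lb ⟨l, hl⟩ (Subtype.ext h)
  · intro u v w h
    obtain ⟨c, hc⟩ := Cfsg.Agent.R01.FusionMain.conj_three Lb h
    exact ⟨c, c.2, congrArg Subtype.val hc⟩

/-- Transport by conjugation. -/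
theorem Sys.conjugate {K : Subgroup G} {p : (Fin 6 → F) → G} (S : Sys hF t L K p) (g : G) :
    Sys hF (g * t * g⁻¹) (L.map (MulAut.conj g).toMonoidHom) (K.map (MulAut.conj g).toMonoidHom)
      (fun v => g * p v * g⁻¹) := by
  have hmem : ∀ (H : Subgroup G) (x : G), x ∈ H.map (MulAut.conj g).toMonoidHom ↔
      g⁻¹ * x * g ∈ H := by
    intro H x
    constructor
    · rintro ⟨y, hy, rfl⟩
      have : g⁻¹ * (MulAut.conj g).toMonoidHom y * g = y := by
        show g⁻¹ * (g * y * g⁻¹) * g = y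
        group
      rw [this]; exact hy
    · intro h
      refine ⟨_, h, ?_⟩
      show g * (g⁻¹ * x * g) * g⁻¹ = x
      group
  have hin : ∀ (H : Subgroup G) (x : G), x ∈ H → g * x * g⁻¹ ∈ H.map (MulAut.conj g).toMonoidHom :=
    fun H x hx => ⟨x, hx, rfl⟩
  have hcc : ∀ {x y : G}, Commute x y → Commute (g * x * g⁻¹) (g * y * g⁻¹) := fun h =>
    (Commute.conj_iff g).2 h
  have hback : ∀ x : G, g * (g⁻¹ * x * g) * g⁻¹ = x := fun x => by group
  have hcb : ∀ {x y : G}, Commute x (g * y * g⁻¹) → Commute (g⁻¹ * x * g) y := by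
    intro x y h
    rw [← hback x] at h
    exact (Commute.conj_iff g).1 h
  have hone : ∀ {x y : G}, g * x * g⁻¹ = g * y * g⁻¹ → x = y := fun h =>
    mul_left_cancel (mul_right_cancel h)
  have hmul : ∀ x y : G, g * x * g⁻¹ * (g * y * g⁻¹) = g * (x * y) * g⁻¹ := fun x y => by group
  have hg1 : g * 1 * g⁻¹ = 1 := by group
  refine ⟨?_, ?_, hin _ _ S.tL, hin _ _ S.tK, ?_, ?_, ?_, ?_, fun v hv => hin _ _ (S.pL v hv), ?_, ?_,
    ?_, ?_, ?_, ?_, ?_, ?_, ?_, ?_, ?_, ?_, ?_, ?_, ?_, ?_, ?_, ?_⟩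
  · rw [hmul, S.tt, hg1]
  · intro h
    apply S.t1
    apply hone
    rw [h, hg1]
  · intro x hx hx'
    rcases S.LK _ ((hmem _ _).1 hx) ((hmem _ _).1 hx') with h | h
    · left; rw [← hback x, h, hg1]
    · right; rw [← hback x, h]
  · rintro _ ⟨l, hl, rfl⟩ _ ⟨k, hk, rfl⟩
    exact hcc (S.comm l hl k hk)
  · rintro n hn _ ⟨l, hl, rfl⟩
    rw [hmem]
    have := S.Lnorm _ (hcb hn) l hl
    have e1 : g⁻¹ * (n * (g * l * g⁻¹) * n⁻¹) * g = (g⁻¹ * n * g) * l * (g⁻¹ * n * g)⁻¹ := by group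
    show g⁻¹ * (n * (g * l * g⁻¹) * n⁻¹) * g ∈ L
    rw [e1]; exact this
  · rintro n hn _ ⟨k, hk, rfl⟩
    rw [hmem]
    have := S.Knorm _ (hcb hn) k hk
    have e1 : g⁻¹ * (n * (g * k * g⁻¹) * n⁻¹) * g = (g⁻¹ * n * g) * k * (g⁻¹ * n * g)⁻¹ := by group
    show g⁻¹ * (n * (g * k * g⁻¹) * n⁻¹) * g ∈ K
    rw [e1]; exact this
  · intro v hv c hc
    simp only [S.smul v hv c hc]
  · intro v hv
    simp only [hmul, S.sq v hv, hg1]
  · intro u v hu hv h
    exact S.inj u v hu hv (hone h)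
  · intro u v hu hv
    rw [← S.comm_iff u v hu hv]
    exact Commute.conj_iff g
  · intro u v hu hv
    simp only [hmul, S.conj u v hu hv]
  · intro u v hu hv huv
    simp only [hmul]
    rw [conj_pow, S.three u v hu hv huv, hg1]
  · intro a b hab ω hω
    simp only [hmul, S.line a b hab ω hω]
  · intro u hu h
    apply S.ne1 u hu
    apply hone
    rw [hg1]; exact h
  · intro u hu h
    exact S.net u hu (hone h)
  · intro u v w hu hv hw huv huw hvw
    obtain ⟨h1, h2⟩ := S.triple u v w hu hv hw huv huw hvw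
    simp only [hmul]
    refine ⟨fun h => h1 (hone (by rw [hg1]; exact h)), fun h => h2 (hone h)⟩
  · obtain ⟨u, v, w, hf, h⟩ := S.seven
    refine ⟨u, v, w, hf, ?_⟩
    simp only [hmul, h, hg1]
  · intro n hn
    obtain ⟨e, φ, he, hφ, h⟩ := S.semi _ (hcb hn)
    refine ⟨e, φ, he, hφ, fun v hv => ?_⟩
    show n * (g * p v * g⁻¹) * n⁻¹ = g * p (φ v) * g⁻¹
    rw [← h v hv]; group
  · rintro _ ⟨l, hl, rfl⟩
    obtain ⟨s, hs⟩ := S.lin l hl
    refine ⟨s, fun v hv => ?_⟩
    show g * l * g⁻¹ * (g * p v * g⁻¹) * (g * l * g⁻¹)⁻¹ = g * p (act s v) * g⁻¹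
    rw [← hs v hv]; group
  · intro s
    obtain ⟨l, hl, hs⟩ := S.real s
    refine ⟨g * l * g⁻¹, hin _ _ hl, fun v hv => ?_⟩
    show g * l * g⁻¹ * (g * p v * g⁻¹) * (g * l * g⁻¹)⁻¹ = g * p (act s v) * g⁻¹
    rw [← hs v hv]; group
  · intro n hn
    rw [hmem]
    exact S.ker _ fun v hv => hcb (hn v hv)
  · rintro _ ⟨l, hl, rfl⟩ hll
    obtain ⟨c₀, hc, h⟩ := S.invf l hl (by
      rcases hll with h | h
      · left
        apply hone
        rw [hg1, ← h]; exact (hmul l l).symm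
      · right
        apply hone
        rw [← h]; exact (hmul l l).symm)
    refine ⟨g * c₀ * g⁻¹, ?_, ?_⟩
    · rcases hc with rfl | rfl
      · left; exact hg1
      · exact Or.inr rfl
    · rcases h with rfl | ⟨u, hu, rfl⟩ | ⟨u, v, hf, rfl⟩ | ⟨u, v, w, hf, rfl⟩
      · exact Or.inl rfl
      · refine Or.inr (Or.inl ⟨u, hu, ?_⟩)
        show g * (c₀ * p u) * g⁻¹ = _
        group
      · refine Or.inr (Or.inr (Or.inl ⟨u, v, hf, ?_⟩))
        show g * (c₀ * (p u * p v)) * g⁻¹ = _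
        group
      · refine Or.inr (Or.inr (Or.inr ⟨u, v, w, hf, ?_⟩))
        show g * (c₀ * (p u * p v * p w)) * g⁻¹ = _
        group
  · rintro _ ⟨l, hl, rfl⟩ h
    apply S.nsq l hl
    apply hone
    rw [← h]; exact (hmul l l).symm
  · intro u v w h
    obtain ⟨c, hc, h1⟩ := S.conj3 u v w h
    refine ⟨g * c * g⁻¹, hin _ _ hc, ?_⟩
    simp only [hmul]
    rw [← h1]; group

end construct

end Cfsg.Agent.U62.Sys
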