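import Cfsg.Agent.U62.Semi

/-!
Normal forms of the involutory semi-isometries of `F ^ 6`, `|F| = 4`.
-/

set_option autoImplicit false
set_option linter.unusedSectionVars false

namespace Cfsg.Agent.U62.Semi2

open Cfsg Cfsg.Agent.LieClassical.HermBasic Cfsg.Agent.ClassicalGeometry.UnitTransv
open Cfsg.Agent.SporadicStructure.UnitTwo
open Cfsg.Agent.R01.PSUSix Cfsg.Agent.R01.InvForm
open Cfsg.Agent.R01.Frames (Hyp E P hyp_std expand' trans_hyp det_cube)
open Cfsg.Agent.R01.ComLabel (Iso)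
open Cfsg.Agent.U62.Semi
open scoped Matrix

variable {F : Type*} [Field F] [Fintype F] (hF : Fintype.card F = 2 ^ 2)
include hF

/-! ### Extending frames to hyperbolic bases -/

theorem ext3 {u v w : Fin 6 → F} (h : Fr3 u v w) : ∃ g k : Fin 3 → (Fin 6 → F), Hyp g k ∧
    g 0 = u ∧ g 1 = v ∧ g 2 = w := by
  have hli : LinearIndependent F ![u, v, w] := by
    rw [Fintype.linearIndependent_iff]
    intro c hc
    rw [Fin.sum_univ_three] at hc
    obtain ⟨h0, h1, h2⟩ := h.ind _ _ _ hc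
    intro i
    fin_cases i
    exacts [h0, h1, h2]
  have hiso : ∀ i j, hermForm 6 F 2 (![u, v, w] i) (![u, v, w] j) = 0 := by
    intro i j
    fin_cases i <;> fin_cases j
    exacts [h.uu, h.uv, h.uw, herm_eq_zero_swap hF h.uv, h.vv, h.vw, herm_eq_zero_swap hF h.uw,
      herm_eq_zero_swap hF h.vw, h.ww]
  obtain ⟨k, hk1, hk2⟩ := Cfsg.Agent.ClassicalGeometry.HermFrame.exists_hyperbolic hF hli hiso
  exact ⟨_, k, ⟨hiso, hk2, hk1⟩, rfl, rfl, rfl⟩

theorem fr1_ext {u : Fin 6 → F} (h : Iso F u) : ∃ v w, Fr3 u v w := by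
  have hs := fr3_std hF
  obtain ⟨g, d, hd, hg⟩ := exists_map hF _ u hs.u_ne h.1 hs.uu h.2
  have h1 := Fr3_smul hF (Fr3_act hF hs g) (inv_ne_zero hd) one_ne_zero one_ne_zero
  rw [hg, smul_smul, inv_mul_cancel₀ hd, one_smul] at h1
  exact ⟨_, _, h1⟩

theorem fr2_ext {u v : Fin 6 → F} (h : Fr2 u v) : ∃ w, Fr3 u v w := by
  obtain ⟨v', w', h'⟩ := fr1_ext hF ⟨h.u_ne, h.uu⟩
  obtain ⟨g, hg, b, hb, hgv⟩ := trans_perp hF h.u_ne h'.vv h.vv
    (herm_eq_zero_swap hF h'.uv) (herm_eq_zero_swap hF h.uv) h'.fr2.not_mul h.not_mul h.uu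
  have hgu : act g u = u := act_of_mem_Ru hF hg
  have h1 := Fr3_smul hF (Fr3_act hF h' g) one_ne_zero (inv_ne_zero hb) one_ne_zero
  rw [hgu, hgv, smul_smul, inv_mul_cancel₀ hb, one_smul, one_smul] at h1
  exact ⟨_, h1⟩

theorem ext1 {u : Fin 6 → F} (h : Iso F u) : ∃ g k : Fin 3 → (Fin 6 → F), Hyp g k ∧ g 0 = u := by
  obtain ⟨v, w, h'⟩ := fr1_ext hF h
  obtain ⟨g, k, hb, h0, -, -⟩ := ext3 hF h'
  exact ⟨g, k, hb, h0⟩

theorem ext2 {u v : Fin 6 → F} (h : Fr2 u v) : ∃ g k : Fin 3 → (Fin 6 → F), Hyp g k ∧ g 0 = u ∧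
    g 1 = v := by
  obtain ⟨w, h'⟩ := fr2_ext hF h
  obtain ⟨g, k, hb, h0, h1, -⟩ := ext3 hF h'
  exact ⟨g, k, hb, h0, h1⟩

/-! ### Linear involutions -/

/-- A linear isometry as a matrix. -/
theorem exists_mat {φ : (Fin 6 → F) → (Fin 6 → F)} (h : Sem 1 φ) :
    ∃ M : Matrix (Fin 6) (Fin 6) F, (∀ v, M *ᵥ v = φ v) ∧ M.det ^ 3 = 1 := by
  let f : (Fin 6 → F) →ₗ[F] (Fin 6 → F) :=
    { toFun := φ, map_add' := h.add, map_smul' := fun c v => by
        rw [h.smul, pow_one, RingHom.id_apply] }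
  refine ⟨LinearMap.toMatrix' f, fun v => LinearMap.toMatrix'_mulVec _ _, ?_⟩
  apply det_cube hF
  intro x y
  rw [LinearMap.toMatrix'_mulVec, LinearMap.toMatrix'_mulVec]
  exact (h.herm x y).trans (pow_one _)

/-- The normal form of a linear involution. -/
theorem lin_normal {φ : (Fin 6 → F) → (Fin 6 → F)} (h : Sem 1 φ) (hφ : ∀ v, φ (φ v) = v) :
    ∃ (g k : Fin 3 → (Fin 6 → F)) (S : Finset (Fin 3)), Hyp g k ∧
      ∀ v, φ v = v + ∑ j ∈ S, hermForm 6 F 2 v (g j) • g j := by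
  obtain ⟨M, hM, hd3⟩ := exists_mat hF h
  have hMM : M * M = 1 := by
    apply Matrix.toLin'.injective
    apply LinearMap.ext
    intro v
    rw [Matrix.toLin'_apply, Matrix.toLin'_apply, ← Matrix.mulVec_mulVec, hM, hM, hφ,
      Matrix.one_mulVec]
  have hd2 : M.det * M.det = 1 := by rw [← Matrix.det_mul, hMM, Matrix.det_one]
  have hd : M.det = 1 := by linear_combination hd3 - M.det * hd2
  set s : SU 6 F 2 := mk M hd (fun x y => by rw [hM, hM, h.herm, pow_one]) with hs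
  have hsφ : ∀ v, act s v = φ v := fun v => by rw [hs, act_mk, hM]
  have hss : s * s = 1 := by
    apply ext_act
    intro v
    rw [act_mul, act_one, hsφ, hsφ, hφ]
  obtain ⟨ω, hω⟩ := exists_omega hF
  have hb0 := hyp_std (F := F) hF hω
  rcases inv_form_SU hF hss with h1 | ⟨u, hu, hu0, h1⟩ | ⟨u, v, hf, h1⟩ | ⟨u, v, w, hf, h1⟩
  · refine ⟨E, P ω, ∅, hb0, fun x => ?_⟩
    rw [← hsφ, h1, act_one, Finset.sum_empty, add_zero]
  · obtain ⟨g, k, hb, hg0⟩ := ext1 hF ⟨hu0, hu⟩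
    refine ⟨g, k, {0}, hb, fun x => ?_⟩
    rw [← hsφ, h1, act_T, Finset.sum_singleton, hg0]
  · obtain ⟨g, k, hb, hg0, hg1⟩ := ext2 hF hf
    refine ⟨g, k, {0, 1}, hb, fun x => ?_⟩
    rw [← hsφ, h1, act_mul, act_T, act_T, Finset.sum_pair (by decide), hg0, hg1, herm_add_left,
      herm_smul_left, herm_eq_zero_swap hF hf.uv]
    rw [mul_zero, add_zero]
    abel
  · obtain ⟨g, k, hb, hg0, hg1, hg2⟩ := ext3 hF hf
    refine ⟨g, k, Finset.univ, hb, fun x => ?_⟩
    have h10 := herm_eq_zero_swap hF hf.uv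
    have h20 := herm_eq_zero_swap hF hf.uw
    have h21 := herm_eq_zero_swap hF hf.vw
    rw [← hsφ, h1, act_mul, act_mul, act_T, act_T, act_T, Fin.sum_univ_three, hg0, hg1, hg2]
    simp only [herm_add_left, herm_smul_left, h10, h20, h21, mul_zero, add_zero]
    abel

/-! ### Semilinear involutions -/

section count

variable {φ : (Fin 6 → F) → (Fin 6 → F)}

omit hF in
/-- The fixed vectors. -/
def fixG (h : Sem 2 φ) : AddSubgroup (Fin 6 → F) where
  carrier := {v | φ v = v}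
  add_mem' := by
    intro a b ha hb
    show φ (a + b) = a + b
    rw [h.add, ha, hb]
  zero_mem' := h.map_zero
  neg_mem' := by
    intro a ha
    show φ (-a) = -a
    have h1 : φ (-a) + φ a = 0 := by rw [← h.add, neg_add_cancel, h.map_zero]
    rw [eq_neg_of_add_eq_zero_left h1, ha]

omit hF in
theorem mem_fixG (h : Sem 2 φ) {v : Fin 6 → F} : v ∈ fixG h ↔ φ v = v := Iff.rfl

omit hF in
/-- The vectors orthogonal to `w`. -/
def perpG (w : Fin 6 → F) : AddSubgroup (Fin 6 → F) where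
  carrier := {v | hermForm 6 F 2 v w = 0}
  add_mem' := by
    intro a b ha hb
    show hermForm 6 F 2 (a + b) w = 0
    rw [herm_add_left, ha, hb, add_zero]
  zero_mem' := herm_zero_left w
  neg_mem' := by
    intro a ha
    show hermForm 6 F 2 (-a) w = 0
    rw [herm_neg_left, ha, neg_zero]

variable (h : Sem 2 φ)
include h

theorem val01 {x y : Fin 6 → F} (hx : φ x = x) (hy : φ y = y) :
    hermForm 6 F 2 x y = 0 ∨ hermForm 6 F 2 x y = 1 := by
  apply zero_or_one_of_fixed hF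
  rw [← h.herm, hx, hy]

theorem herm_symm {x y : Fin 6 → F} (hx : φ x = x) (hy : φ y = y) :
    hermForm 6 F 2 y x = hermForm 6 F 2 x y := by
  rw [herm_swap hF x y, ← h.herm, hx, hy]

/-- The isotropic fixed vectors. -/
def isoG : AddSubgroup (Fin 6 → F) where
  carrier := {v | φ v = v ∧ hermForm 6 F 2 v v = 0}
  add_mem' := by
    rintro a b ⟨ha, ha'⟩ ⟨hb, hb'⟩
    refine ⟨by rw [h.add, ha, hb], ?_⟩
    rw [herm_add_left, herm_add_right hF, herm_add_right hF, ha', hb', herm_symm hF h ha hb]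
    linear_combination hermForm 6 F 2 a b * two_eq_zero hF
  zero_mem' := ⟨h.map_zero, herm_zero_left _⟩
  neg_mem' := by
    rintro a ⟨ha, ha'⟩
    have e : -a = a := by
      rw [neg_eq_iff_add_eq_zero]; exact vadd_self hF a
    rw [e]; exact ⟨ha, ha'⟩

omit h in
theorem half (A B : AddSubgroup (Fin 6 → F))
    (hB : ∀ x ∈ A, ∀ y ∈ A, x ∉ B → y ∉ B → x + y ∈ B) : Nat.card A ≤ 2 * Nat.card B := by
  classical
  have hc : ∀ C : AddSubgroup (Fin 6 → F), Nat.card C = (C : Set (Fin 6 → F)).ncard := fun C => rfl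
  rw [hc, hc]
  by_cases hex : ∃ x0 ∈ A, x0 ∉ B
  · obtain ⟨x0, hx0, hx0B⟩ := hex
    have hsub : (A : Set (Fin 6 → F)) ⊆ (B : Set (Fin 6 → F)) ∪ (fun y => y + x0) '' B := by
      intro x hx
      by_cases hxB : x ∈ B
      · exact Or.inl hxB
      · right
        refine ⟨x + x0, hB x hx x0 hx0 hxB hx0B, ?_⟩
        show x + x0 + x0 = x
        rw [add_assoc, vadd_self hF, add_zero]
    calc (A : Set (Fin 6 → F)).ncard ≤ _ := Set.ncard_le_ncard hsub (Set.toFinite _)
      _ ≤ (B : Set (Fin 6 → F)).ncard + ((fun y => y + x0) '' (B : Set (Fin 6 → F))).ncard :=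
        Set.ncard_union_le _ _
      _ ≤ (B : Set (Fin 6 → F)).ncard + (B : Set (Fin 6 → F)).ncard :=
        Nat.add_le_add_left (Set.ncard_image_le (Set.toFinite _)) _
      _ = _ := by ring
  · push Not at hex
    calc (A : Set (Fin 6 → F)).ncard ≤ (B : Set (Fin 6 → F)).ncard :=
          Set.ncard_le_ncard hex (Set.toFinite _)
      _ ≤ _ := by omega

/-- A totally isotropic group of fixed vectors has at most eight elements. -/
theorem card_le_eight (A : AddSubgroup (Fin 6 → F)) (hA : ∀ x ∈ A, φ x = x)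
    (hti : ∀ x ∈ A, ∀ y ∈ A, hermForm 6 F 2 x y = 0) : Nat.card A ≤ 8 := by
  classical
  have key : ∃ u v w : Fin 6 → F, ∀ x ∈ A, ∃ a b c : F, (a = 0 ∨ a = 1) ∧ (b = 0 ∨ b = 1) ∧
      (c = 0 ∨ c = 1) ∧ x = a • u + b • v + c • w := by
    by_cases h0 : ∀ x ∈ A, x = 0
    · exact ⟨0, 0, 0, fun x hx => ⟨0, 0, 0, Or.inl rfl, Or.inl rfl, Or.inl rfl, by
        rw [h0 x hx]; simp⟩⟩
    push Not at h0
    obtain ⟨u, hu, hu0⟩ := h0
    by_cases h1 : ∀ x ∈ A, ∃ c : F, x = c • u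
    · refine ⟨u, 0, 0, fun x hx => ?_⟩
      obtain ⟨c, rfl⟩ := h1 x hx
      have h2 := hA _ hx
      rw [h.smul, hA u hu] at h2
      have h3 : (c ^ 2 - c) • u = 0 := by rw [sub_smul, h2, sub_self]
      have h4 := sub_eq_zero.1 ((smul_eq_zero.1 h3).resolve_right hu0)
      exact ⟨c, 0, 0, zero_or_one_of_fixed hF h4, Or.inl rfl, Or.inl rfl, by simp⟩
    push Not at h1
    obtain ⟨v, hv, huv⟩ := h1
    have hf2 : Fr2 u v := by
      refine ⟨hti u hu u hu, hti v hv v hv, hti u hu v hv, fun a b hab => ?_⟩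
      have hb : b = 0 := by
        by_contra hb
        apply huv (-(b⁻¹ * a))
        rw [neg_smul, ← smul_smul, eq_neg_iff_add_eq_zero]
        have : b⁻¹ • (a • u + b • v) = 0 := by rw [hab, smul_zero]
        rw [smul_add, smul_smul b⁻¹ b, inv_mul_cancel₀ hb, one_smul] at this
        rw [add_comm]; exact this
      subst hb
      rw [zero_smul, add_zero] at hab
      exact ⟨(smul_eq_zero.1 hab).resolve_right hu0, rfl⟩
    by_cases h2 : ∀ x ∈ A, ∃ a b : F, x = a • u + b • v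
    · refine ⟨u, v, 0, fun x hx => ?_⟩
      obtain ⟨a, b, rfl⟩ := h2 x hx
      have h3 := hA _ hx
      rw [h.add, h.smul, h.smul, hA u hu, hA v hv] at h3
      have h4 : (a ^ 2 - a) • u + (b ^ 2 - b) • v = 0 := by
        rw [sub_smul, sub_smul, sub_add_sub_comm, h3, sub_self]
      obtain ⟨h5, h6⟩ := hf2.ind _ _ h4
      exact ⟨a, b, 0, zero_or_one_of_fixed hF (sub_eq_zero.1 h5),
        zero_or_one_of_fixed hF (sub_eq_zero.1 h6), Or.inl rfl, by simp⟩
    push Not at h2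
    obtain ⟨w, hw, hw'⟩ := h2
    have hf3 : Fr3 u v w := by
      refine ⟨hf2.uu, hf2.vv, hti w hw w hw, hf2.uv, hti u hu w hw, hti v hv w hw,
        fun a b c habc => ?_⟩
      have hc : c = 0 := by
        by_contra hc
        apply hw' (-(c⁻¹ * a)) (-(c⁻¹ * b))
        have : c⁻¹ • (a • u + b • v + c • w) = 0 := by rw [habc, smul_zero]
        rw [smul_add, smul_add, smul_smul c⁻¹ c, inv_mul_cancel₀ hc, one_smul] at this
        rw [neg_smul, neg_smul, ← smul_smul, ← smul_smul]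
        rw [add_comm] at this
        rw [eq_neg_of_add_eq_zero_left this, neg_add]
      subst hc
      rw [zero_smul, add_zero] at habc
      obtain ⟨h3, h4⟩ := hf2.ind _ _ habc
      exact ⟨h3, h4, rfl⟩
    refine ⟨u, v, w, fun x hx => ?_⟩
    obtain ⟨a, b, c, rfl⟩ := mem_span_of_perp hF hf3 (hti x hx u hu) (hti x hx v hv)
      (hti x hx w hw)
    have h3 := hA _ hx
    rw [h.add, h.add, h.smul, h.smul, h.smul, hA u hu, hA v hv, hA w hw] at h3
    have h4 : (a ^ 2 - a) • u + (b ^ 2 - b) • v + (c ^ 2 - c) • w = 0 := by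
      rw [sub_smul, sub_smul, sub_smul, sub_add_sub_comm, sub_add_sub_comm, h3, sub_self]
    obtain ⟨h5, h6, h7⟩ := hf3.ind _ _ _ h4
    exact ⟨a, b, c, zero_or_one_of_fixed hF (sub_eq_zero.1 h5),
      zero_or_one_of_fixed hF (sub_eq_zero.1 h6), zero_or_one_of_fixed hF (sub_eq_zero.1 h7), rfl⟩
  obtain ⟨u, v, w, key⟩ := key
  let b : Bool → F := fun p => if p then 1 else 0
  let f : Bool × Bool × Bool → (Fin 6 → F) := fun p => b p.1 • u + b p.2.1 • v + b p.2.2 • w
  have hb : ∀ a : F, a = 0 ∨ a = 1 → ∃ p, a = b p := by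
    rintro a (rfl | rfl)
    · exact ⟨false, by simp [b]⟩
    · exact ⟨true, by simp [b]⟩
  have hsub : (A : Set (Fin 6 → F)) ⊆ ((Finset.univ.image f : Finset (Fin 6 → F)) : Set _) := by
    intro x hx
    obtain ⟨a1, a2, a3, h1, h2, h3, rfl⟩ := key x hx
    obtain ⟨p1, rfl⟩ := hb _ h1
    obtain ⟨p2, rfl⟩ := hb _ h2
    obtain ⟨p3, rfl⟩ := hb _ h3
    rw [Finset.coe_image]
    exact ⟨(p1, p2, p3), by simp, rfl⟩
  calc Nat.card A = (A : Set (Fin 6 → F)).ncard := rfl
    _ ≤ _ := Set.ncard_le_ncard hsub (Set.toFinite _)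
    _ = (Finset.univ.image f).card := Set.ncard_coe_finset _
    _ ≤ (Finset.univ : Finset (Bool × Bool × Bool)).card := Finset.card_image_le
    _ = 8 := by rfl

theorem card_fix (hφ : ∀ v, φ (φ v) = v) : 64 ≤ Nat.card (fixG h) := by
  let f : (Fin 6 → F) →+ (Fin 6 → F) :=
    { toFun := fun v => φ v + v
      map_zero' := by rw [h.map_zero, add_zero]
      map_add' := fun v w => by rw [h.add]; abel }
  have hker : f.ker = fixG h := by
    ext v
    rw [AddMonoidHom.mem_ker, mem_fixG]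
    show φ v + v = 0 ↔ φ v = v
    constructor
    · intro h1
      calc φ v = φ v + v + v := by rw [add_assoc, vadd_self hF, add_zero]
        _ = v := by rw [h1, zero_add]
    · intro h1
      rw [h1, vadd_self hF]
  have hrange : f.range ≤ fixG h := by
    rintro _ ⟨v, rfl⟩
    rw [mem_fixG]
    show φ (φ v + v) = φ v + v
    rw [h.add, hφ, add_comm]
  have h1 := AddSubgroup.card_mul_index f.ker
  rw [AddSubgroup.index_ker, hker] at h1
  have h2 : Nat.card f.range ≤ Nat.card (fixG h) := by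
    apply Nat.card_le_card_of_injective (fun x => (⟨x.1, hrange x.2⟩ : fixG h))
    intro x y hxy
    have h4 : (⟨x.1, hrange x.2⟩ : fixG h) = ⟨y.1, hrange y.2⟩ := hxy
    have h5 : (x : Fin 6 → F) = y := congrArg (fun z : fixG h => (z : Fin 6 → F)) h4
    exact Subtype.ext h5
  have h3 : Nat.card (Fin 6 → F) = 4096 := by
    rw [Nat.card_eq_fintype_card, Fintype.card_fun, Fintype.card_fin, hF]; norm_num
  rw [h3] at h1
  by_contra hlt
  push Not at hlt
  have : Nat.card (fixG h) * Nat.card f.range ≤ 63 * 63 :=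
    Nat.mul_le_mul (by omega) (by omega)
  omega

theorem card_iso (hφ : ∀ v, φ (φ v) = v) : 32 ≤ Nat.card (isoG hF h) := by
  have h1 := card_fix hF h hφ
  have h2 := half hF (fixG h) (isoG hF h) (by
    intro x hx y hy hx' hy'
    have hxx : hermForm 6 F 2 x x = 1 := (val01 hF h hx hx).resolve_left fun h0 => hx' ⟨hx, h0⟩
    have hyy : hermForm 6 F 2 y y = 1 := (val01 hF h hy hy).resolve_left fun h0 => hy' ⟨hy, h0⟩
    refine ⟨(fixG h).add_mem hx hy, ?_⟩
    rw [herm_add_left, herm_add_right hF, herm_add_right hF, hxx, hyy, herm_symm hF h hx hy]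
    linear_combination (1 + hermForm 6 F 2 x y) * two_eq_zero hF)
  omega

theorem half_perp (A : AddSubgroup (Fin 6 → F)) (hA : ∀ x ∈ A, φ x = x) {w : Fin 6 → F}
    (hw : φ w = w) : Nat.card A ≤ 2 * Nat.card ((A ⊓ perpG w : AddSubgroup (Fin 6 → F))) := by
  apply half hF
  intro x hx y hy hx' hy'
  have hxx : hermForm 6 F 2 x w = 1 := (val01 hF h (hA x hx) hw).resolve_left
    fun h0 => hx' ⟨hx, h0⟩
  have hyy : hermForm 6 F 2 y w = 1 := (val01 hF h (hA y hy) hw).resolve_left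
    fun h0 => hy' ⟨hy, h0⟩
  refine ⟨A.add_mem hx hy, ?_⟩
  show hermForm 6 F 2 (x + y) w = 0
  rw [herm_add_left, hxx, hyy]
  linear_combination two_eq_zero hF

theorem exists_one (A : AddSubgroup (Fin 6 → F)) (hA : ∀ x ∈ A, φ x = x) (hc : 9 ≤ Nat.card A) :
    ∃ x ∈ A, ∃ y ∈ A, hermForm 6 F 2 x y = 1 := by
  by_contra hcon
  push Not at hcon
  have := card_le_eight hF h A hA (fun x hx y hy =>
    (val01 hF h (hA x hx) (hA y hy)).resolve_right (hcon x hx y hy))
  omega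

/-- **The normal forms of a semilinear involution.** -/
theorem semi_normal (hφ : ∀ v, φ (φ v) = v) : ∃ g k : Fin 3 → (Fin 6 → F), Hyp g k ∧
    (∀ i, φ (g i) = g i) ∧ φ (k 1) = k 1 ∧ φ (k 2) = k 2 ∧
    (φ (k 0) = k 0 ∨ φ (k 0) = k 0 + g 0) := by
  obtain ⟨ω, hω⟩ := exists_omega hF
  have h2 := two_eq_zero hF
  have hω3 := omega_cubed hω
  set V1 := isoG hF h with hV1
  have hV1f : ∀ x ∈ V1, φ x = x := fun x hx => hx.1
  have hc1 : 32 ≤ Nat.card V1 := card_iso hF h hφ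
  obtain ⟨c, hc, z, hz, hcz⟩ := exists_one hF h V1 hV1f (by omega)
  have hc2 := half_perp hF h V1 hV1f hc.1
  set V2 := V1 ⊓ perpG c with hV2
  have hV2f : ∀ x ∈ V2, φ x = x := fun x hx => hx.1.1
  obtain ⟨a, ha, a', ha', haa⟩ := exists_one hF h V2 hV2f (by omega)
  -- make them orthogonal to `z`
  have hadj : ∀ x ∈ V2, ∃ y ∈ V1, φ y = y ∧ hermForm 6 F 2 y y = 0 ∧ hermForm 6 F 2 y c = 0 ∧
      hermForm 6 F 2 y z = 0 ∧ ∃ d : F, y = x + d • c := by
    intro x hx
    have hxc : hermForm 6 F 2 x c = 0 := hx.2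
    rcases val01 hF h hx.1.1 hz.1 with h0 | h0
    · exact ⟨x, hx.1, hx.1.1, hx.1.2, hxc, h0, 0, by simp⟩
    · have hy : x + c ∈ V1 := V1.add_mem hx.1 hc
      refine ⟨x + c, hy, hy.1, hy.2, ?_, ?_, 1, by simp⟩
      · rw [herm_add_left, hxc, hc.2, add_zero]
      · rw [herm_add_left, h0, hcz]; linear_combination h2
  obtain ⟨b, hb1, hbf, hbb, hbc, hbz, d, hd⟩ := hadj a ha
  obtain ⟨b', hb1', hbf', hbb', hbc', hbz', d', hd'⟩ := hadj a' ha'
  have hac : hermForm 6 F 2 a c = 0 := ha.2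
  have hac' : hermForm 6 F 2 a' c = 0 := ha'.2
  have hbb1 : hermForm 6 F 2 b b' = 1 := by
    rw [hd, hd', herm_add_left, herm_add_right hF, herm_add_right hF, herm_smul_left,
      herm_smul_left, herm_smul_right, herm_smul_right, haa, hac, hc.2,
      herm_eq_zero_swap hF hac']
    ring
  -- a vector orthogonal to all
  have hc3 := half_perp hF h V1 hV1f hc.1
  have hc4 := half_perp hF h (V1 ⊓ perpG c) (fun x hx => hx.1.1) hz.1
  have hc5 := half_perp hF h (V1 ⊓ perpG c ⊓ perpG z) (fun x hx => hx.1.1.1) hbf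
  have hc6 := half_perp hF h (V1 ⊓ perpG c ⊓ perpG z ⊓ perpG b) (fun x hx => hx.1.1.1.1) hbf'
  obtain ⟨r, hr, hr0⟩ : ∃ r ∈ V1 ⊓ perpG c ⊓ perpG z ⊓ perpG b ⊓ perpG b', r ≠ 0 := by
    by_contra hcon
    push Not at hcon
    have h7 : (V1 ⊓ perpG c ⊓ perpG z ⊓ perpG b ⊓ perpG b') = ⊥ := by
      rw [eq_bot_iff]
      intro x hx
      exact hcon x hx
    rw [h7, AddSubgroup.card_bot] at hc6
    omega
  obtain ⟨⟨⟨⟨hrV, hrc⟩, hrz⟩, hrb⟩, hrb'⟩ := hr
  have hrf : φ r = r := hrV.1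
  have hrr : hermForm 6 F 2 r r = 0 := hrV.2
  change hermForm 6 F 2 r c = 0 at hrc
  change hermForm 6 F 2 r z = 0 at hrz
  change hermForm 6 F 2 r b = 0 at hrb
  change hermForm 6 F 2 r b' = 0 at hrb'
  have hcr := herm_eq_zero_swap hF hrc
  have hzr := herm_eq_zero_swap hF hrz
  have hbr := herm_eq_zero_swap hF hrb
  have hb'r := herm_eq_zero_swap hF hrb'
  have hcb := herm_eq_zero_swap hF hbc
  have hzb := herm_eq_zero_swap hF hbz
  have hcb' := herm_eq_zero_swap hF hbc'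
  have hzb' := herm_eq_zero_swap hF hbz'
  have hzc : hermForm 6 F 2 z c = 1 := by rw [herm_symm hF h hc.1 hz.1, hcz]
  have hb'b : hermForm 6 F 2 b' b = 1 := by rw [herm_symm hF h hbf hbf', hbb1]
  -- a fixed vector not orthogonal to `r`
  obtain ⟨x, hxf, hxr⟩ : ∃ x, φ x = x ∧ hermForm 6 F 2 x r = 1 := by
    obtain ⟨y, hy⟩ := exists_herm_ne_zero hF hr0
    have hy' : hermForm 6 F 2 y r ≠ 0 := fun h0 => hy (herm_eq_zero_swap hF h0)
    obtain ⟨y', h5⟩ : ∃ y' : Fin 6 → F, hermForm 6 F 2 y' r = ω :=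
      ⟨(ω * (hermForm 6 F 2 y r)⁻¹) • y, by
        rw [herm_smul_left, mul_assoc, inv_mul_cancel₀ hy', mul_one]⟩
    refine ⟨φ y' + y', ?_, ?_⟩
    · rw [h.add, hφ, add_comm]
    · have h6 : hermForm 6 F 2 (φ y') r = ω ^ 2 := by
        conv_lhs => rw [← hrf]
        rw [h.herm, h5]
      rw [herm_add_left, h5, h6]
      linear_combination hω - h2
  -- orthogonal to the others
  set x' := x + hermForm 6 F 2 x b' • b + hermForm 6 F 2 x b • b' + hermForm 6 F 2 x z • c +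
    hermForm 6 F 2 x c • z with hx'
  have hsq : ∀ y, φ y = y → hermForm 6 F 2 x y ^ 2 = hermForm 6 F 2 x y := by
    intro y hy
    rw [← h.herm, hxf, hy]
  have hx'f : φ x' = x' := by
    rw [hx', h.add, h.add, h.add, h.add, h.smul, h.smul, h.smul, h.smul, hxf, hbf, hbf', hc.1, hz.1,
      hsq _ hbf, hsq _ hbf', hsq _ hc.1, hsq _ hz.1]
  have hx'r : hermForm 6 F 2 x' r = 1 := by
    rw [hx']
    simp only [herm_add_left, herm_smul_left, hxr, hbr, hb'r, hcr, hzr]
    ring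
  have hx'b : hermForm 6 F 2 x' b = 0 := by
    rw [hx']
    simp only [herm_add_left, herm_smul_left, hbb, hb'b, hcb, hzb]
    linear_combination hermForm 6 F 2 x b * h2
  have hx'b' : hermForm 6 F 2 x' b' = 0 := by
    rw [hx']
    simp only [herm_add_left, herm_smul_left, hbb1, hbb', hcb', hzb']
    linear_combination hermForm 6 F 2 x b' * h2
  have hx'c : hermForm 6 F 2 x' c = 0 := by
    rw [hx']
    simp only [herm_add_left, herm_smul_left, hbc, hbc', hc.2, hzc]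
    linear_combination hermForm 6 F 2 x c * h2
  have hx'z : hermForm 6 F 2 x' z = 0 := by
    rw [hx']
    simp only [herm_add_left, herm_smul_left, hbz, hbz', hcz, hz.2]
    linear_combination hermForm 6 F 2 x z * h2
  clear_value x'
  have hrx' : hermForm 6 F 2 r x' = 1 := by rw [herm_symm hF h hx'f hrf, hx'r]
  have hbx' := herm_eq_zero_swap hF hx'b
  have hb'x' := herm_eq_zero_swap hF hx'b'
  have hcx' := herm_eq_zero_swap hF hx'c
  have hzx' := herm_eq_zero_swap hF hx'z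
  -- an isotropic partner
  have hpart : ∃ y, hermForm 6 F 2 y y = 0 ∧ hermForm 6 F 2 y r = 1 ∧ hermForm 6 F 2 y b = 0 ∧
      hermForm 6 F 2 y b' = 0 ∧ hermForm 6 F 2 y c = 0 ∧ hermForm 6 F 2 y z = 0 ∧
      (φ y = y ∨ φ y = y + r) := by
    rcases val01 hF h hx'f hx'f with h0 | h0
    · exact ⟨x', h0, hx'r, hx'b, hx'b', hx'c, hx'z, Or.inl hx'f⟩
    · refine ⟨x' + ω • r, ?_, ?_, ?_, ?_, ?_, ?_, Or.inr ?_⟩
      · rw [herm_add_left, herm_add_right hF, herm_add_right hF, herm_smul_left, herm_smul_left,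
          herm_smul_right, herm_smul_right, h0, hx'r, hrx', hrr]
        linear_combination hω
      · rw [herm_add_left, herm_smul_left, hx'r, hrr]; ring
      · rw [herm_add_left, herm_smul_left, hx'b, hrb]; ring
      · rw [herm_add_left, herm_smul_left, hx'b', hrb']; ring
      · rw [herm_add_left, herm_smul_left, hx'c, hrc]; ring
      · rw [herm_add_left, herm_smul_left, hx'z, hrz]; ring
      · rw [h.add, h.smul, hx'f, hrf]
        have : ω ^ 2 = ω + 1 := by linear_combination hω - (ω + 1) * h2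
        rw [this, add_smul, one_smul, add_assoc]
  obtain ⟨y, hyy, hyr, hyb, hyb', hyc, hyz, hyf⟩ := hpart
  have hry : hermForm 6 F 2 r y = 1 := by rw [herm_swap hF y r, hyr, one_pow]
  have hby := herm_eq_zero_swap hF hyb
  have hb'y := herm_eq_zero_swap hF hyb'
  have hcy := herm_eq_zero_swap hF hyc
  have hzy := herm_eq_zero_swap hF hyz
  refine ⟨![r, b, c], ![y, b', z], ⟨?_, ?_, ?_⟩, ?_, ?_, ?_, ?_⟩
  · intro i j
    fin_cases i <;> fin_cases j
    exacts [hrr, hrb, hrc, hbr, hbb, hbc, hcr, hcb, hc.2]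
  · intro i j
    fin_cases i <;> fin_cases j
    exacts [hyy, hyb', hyz, hb'y, hbb', hbz', hzy, hzb', hz.2]
  · intro i j
    fin_cases i <;> fin_cases j
    exacts [hry, hrb', hrz, hby, hbb1, hbz, hcy, hcb', hcz]
  · intro i
    fin_cases i
    exacts [hrf, hbf, hc.1]
  · exact hbf'
  · exact hz.1
  · exact hyf

end count

end Cfsg.Agent.U62.Semi2
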