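import Mathlib
import Cfsg.Agent.R01.Closing

/-!
Signs of permutations by conjugation, and the sign on the elements of the component which do not commute with `t`
(step (B2) of S1734, `L = 2.U₆(2)`).
-/

set_option autoImplicit false

namespace Cfsg.Agent.U62.SgnTwo

open Cfsg.Agent.R01.Closing (comm_of_comm_two not_three)

/-! ### Permutations -/

section perm

variable {α : Type*} [Fintype α] [DecidableEq α]

open Equiv.Perm in
theorem sign_invol (π : Equiv.Perm α) (h2 : π ^ 2 = 1) (hf : ∀ a, π a ≠ a) :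
    Equiv.Perm.sign π = (-1) ^ (Fintype.card α / 2) := by
  rw [sign_of_pow_two_eq_one h2]
  have : Fintype.card (Function.fixedPoints π) = 0 := by
    rw [Fintype.card_eq_zero_iff]
    exact ⟨fun a => hf a a.2⟩
  rw [this, Nat.sub_zero]

open Equiv.Perm in
theorem two_dvd (π : Equiv.Perm α) (h2 : π ^ 2 = 1) (hf : ∀ a, π a ≠ a) : 2 ∣ Fintype.card α := by
  have h := two_dvd_card_support h2
  have e : π.support = Finset.univ := by
    ext a
    simp [hf a]
  rwa [e, Finset.card_univ] at h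

/-- A four-group acting freely. -/
theorem four_dvd (π ρ : Equiv.Perm α) (h1 : π ^ 2 = 1) (h2 : ρ ^ 2 = 1) (h3 : (π * ρ) ^ 2 = 1)
    (f1 : ∀ a, π a ≠ a) (f2 : ∀ a, ρ a ≠ a) (f3 : ∀ a, (π * ρ) a ≠ a) : 4 ∣ Fintype.card α := by
  have e1 := sign_invol π h1 f1
  have e2 := sign_invol ρ h2 f2
  have e3 := sign_invol _ h3 f3
  rw [map_mul, e1, e2] at e3
  have e4 : ((-1 : ℤˣ)) ^ (Fintype.card α / 2) = 1 := by
    have := congrArg (fun z => ((-1 : ℤˣ) ^ (Fintype.card α / 2))⁻¹ * z) e3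
    simpa using this
  have h5 := two_dvd π h1 f1
  have h6 : Even (Fintype.card α / 2) := by
    by_contra hodd
    rw [Nat.not_even_iff_odd] at hodd
    rw [hodd.neg_one_pow] at e4
    exact absurd e4 (by decide)
  obtain ⟨m, hm⟩ := h5
  rw [hm, Nat.mul_div_cancel_left _ (by norm_num)] at h6
  obtain ⟨l, hl⟩ := h6
  exact ⟨l, by omega⟩

open Equiv.Perm in
/-- All cycles of length four. -/
theorem sign_four (π : Equiv.Perm α) (h4 : π ^ 4 = 1) (hf : ∀ a, (π ^ 2) a ≠ a) :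
    Equiv.Perm.sign π = (-1) ^ (Fintype.card α / 4) := by
  have hall : ∀ n ∈ π.cycleType, n = 4 := by
    intro n hn
    have h1 : n ∣ 4 := (dvd_of_mem_cycleType hn).trans (orderOf_dvd_of_pow_eq_one h4)
    have h2 := two_le_of_mem_cycleType hn
    have h3 : n ≠ 2 := by
      rintro rfl
      obtain ⟨c, τ, rfl, hd, hc, hcard⟩ := mem_cycleType_iff.1 hn
      have hne : c.support.Nonempty := by
        rw [← Finset.card_pos, hcard]; norm_num
      obtain ⟨a, ha⟩ := hne
      have hτ : τ a = a := by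
        rcases hd a with h | h
        · exact absurd h (mem_support.1 ha)
        · exact h
      have hc2 : c ^ 2 = 1 := by
        rw [← hcard, ← hc.orderOf]
        exact pow_orderOf_eq_one c
      apply hf a
      rw [hd.commute.mul_pow, hc2, one_mul, pow_two, Equiv.Perm.mul_apply, hτ, hτ]
    have h5 : n ≤ 4 := Nat.le_of_dvd (by norm_num) h1
    interval_cases n
    · exact absurd rfl h3
    · norm_num at h1
    · rfl
  have hrep : π.cycleType = Multiset.replicate π.cycleType.card 4 := Multiset.eq_replicate_card.2 hall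
  rw [sign_of_cycleType_eq_replicate (by norm_num) hrep, if_neg (by decide)]
  have : Fintype.card (Function.fixedPoints π) = 0 := by
    rw [Fintype.card_eq_zero_iff]
    refine ⟨fun a => hf a ?_⟩
    have h : π a = a := a.2
    rw [pow_two, Equiv.Perm.mul_apply, h, h]
  rw [this, Nat.sub_zero]

/-- Splitting the sign. -/
theorem sign_split (π : Equiv.Perm α) (p : α → Prop) [DecidablePred p] (h : ∀ a, p (π a) ↔ p a)
    (h' : ∀ a, ¬ p (π a) ↔ ¬ p a) :
    Equiv.Perm.sign π = Equiv.Perm.sign (π.subtypePerm h) *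
      Equiv.Perm.sign (Equiv.Perm.subtypePerm (p := fun a => ¬ p a) π h') := by
  rw [← Equiv.Perm.sign_subtypeCongr]
  congr 1
  ext a
  by_cases ha : p a
  · rw [Equiv.Perm.subtypeCongr.left_apply _ _ ha]
    rfl
  · rw [Equiv.Perm.subtypeCongr.right_apply _ _ ha]
    rfl

end perm

/-! ### Conjugation -/

section conj

variable {G : Type*} [Group G]

/-- Conjugation by `x` on a set. -/
def pm (x : G) (A : Set G) (h : ∀ e, e ∈ A ↔ x * e * x⁻¹ ∈ A) : Equiv.Perm A :=
  Equiv.Perm.subtypePerm (MulAut.conj x).toEquiv (fun e => (h e).symm)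

@[simp] theorem pm_apply (x : G) (A : Set G) (h : ∀ e, e ∈ A ↔ x * e * x⁻¹ ∈ A) (e : A) :
    (pm x A h e : G) = x * e * x⁻¹ := rfl

theorem pm_mul {x y : G} {A : Set G} (hx : ∀ e, e ∈ A ↔ x * e * x⁻¹ ∈ A) (hy : ∀ e, e ∈ A ↔ y * e * y⁻¹ ∈ A)
    (hxy : ∀ e, e ∈ A ↔ x * y * e * (x * y)⁻¹ ∈ A) : pm (x * y) A hxy = pm x A hx * pm y A hy := by
  ext e
  rw [Equiv.Perm.mul_apply, pm_apply, pm_apply, pm_apply]
  group

theorem pm_fix {x : G} {A : Set G} (hx : ∀ e, e ∈ A ↔ x * e * x⁻¹ ∈ A) (e : A) : pm x A hx e = e ↔ Commute (e : G) x := by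
  rw [← Subtype.coe_inj, pm_apply, mul_inv_eq_iff_eq_mul]
  exact ⟨fun h => h.symm, fun h => h.symm⟩

theorem iff_mul {x y : G} {A : Set G} (hx : ∀ e, e ∈ A ↔ x * e * x⁻¹ ∈ A) (hy : ∀ e, e ∈ A ↔ y * e * y⁻¹ ∈ A) :
    ∀ e, e ∈ A ↔ x * y * e * (x * y)⁻¹ ∈ A := by
  intro e
  rw [hy e, hx]
  have : x * (y * e * y⁻¹) * x⁻¹ = x * y * e * (x * y)⁻¹ := by group
  rw [this]

theorem pm_pow_two {x : G} {A : Set G} (hx : ∀ e, e ∈ A ↔ x * e * x⁻¹ ∈ A) (h : ∀ e ∈ A, Commute e (x * x)) :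
    (pm x A hx) ^ 2 = 1 := by
  ext e
  rw [pow_two, Equiv.Perm.mul_apply, pm_apply, pm_apply, Equiv.Perm.one_apply]
  have h1 := (h e e.2).eq
  calc x * (x * (e : G) * x⁻¹) * x⁻¹ = (x * x) * (e : G) * (x * x)⁻¹ := by group
    _ = e := by rw [← h1, mul_inv_cancel_right]

/-- Conjugation by a product is decided by the factors. -/
theorem iff_of {A : Set G} {x : G} (hx : ∀ e ∈ A, x * e * x⁻¹ ∈ A) (hx' : ∀ e ∈ A, x⁻¹ * e * x ∈ A) :
    ∀ e, e ∈ A ↔ x * e * x⁻¹ ∈ A := by
  intro e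
  refine ⟨hx e, fun h => ?_⟩
  have := hx' _ h
  have e1 : x⁻¹ * (x * e * x⁻¹) * x = e := by group
  rwa [e1] at this

theorem iff_of_invol {A : Set G} {x : G} (hxx : x * x = 1) (hx : ∀ e ∈ A, x * e * x⁻¹ ∈ A) :
    ∀ e, e ∈ A ↔ x * e * x⁻¹ ∈ A := by
  have hi : x⁻¹ = x := inv_eq_of_mul_eq_one_left hxx
  refine iff_of hx fun e he => ?_
  have := hx e he
  rw [hi] at this ⊢
  exact this

/-- A four-group acting freely by conjugation. -/
theorem four_dvd_ncard {A : Set G} (hA : A.Finite) {s u : G} (hs : s * s = 1) (hu : u * u = 1) (hsu : Commute s u)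
    (cs : ∀ e ∈ A, s * e * s⁻¹ ∈ A) (cu : ∀ e ∈ A, u * e * u⁻¹ ∈ A)
    (f1 : ∀ e ∈ A, ¬ Commute e s) (f2 : ∀ e ∈ A, ¬ Commute e u) (f3 : ∀ e ∈ A, ¬ Commute e (s * u)) :
    4 ∣ A.ncard := by
  classical
  have : Fintype A := hA.fintype
  have is := iff_of_invol hs cs
  have iu := iff_of_invol hu cu
  have isu := iff_mul is iu
  have hsuu : (s * u) * (s * u) = 1 := by
    calc (s * u) * (s * u) = s * (u * s) * u := by group
      _ = s * (s * u) * u := by rw [hsu.eq]
      _ = (s * s) * (u * u) := by group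
      _ = 1 := by rw [hs, hu, one_mul]
  have h := four_dvd (pm s A is) (pm u A iu) (pm_pow_two is fun e _ => by rw [hs]; exact Commute.one_right e)
    (pm_pow_two iu fun e _ => by rw [hu]; exact Commute.one_right e)
    (by rw [← pm_mul is iu isu]; exact pm_pow_two isu fun e _ => by rw [hsuu]; exact Commute.one_right e)
    (fun e he => f1 e e.2 ((pm_fix is e).1 he)) (fun e he => f2 e e.2 ((pm_fix iu e).1 he))
    (fun e he => f3 e e.2 (by
      rw [← pm_mul is iu isu] at he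
      exact (pm_fix isu e).1 he))
  rwa [← Nat.card_eq_fintype_card, Nat.card_coe_set_eq] at h

/-- Splitting the sign of a conjugation. -/
theorem sign_pm_split [Finite G] {x : G} {A B C : Set G} (hA : ∀ e, e ∈ A ↔ x * e * x⁻¹ ∈ A)
    (hB : ∀ e, e ∈ B ↔ x * e * x⁻¹ ∈ B) (hC : ∀ e, e ∈ C ↔ x * e * x⁻¹ ∈ C) (hBA : B ⊆ A)
    (hCA : ∀ e, e ∈ C ↔ e ∈ A ∧ e ∉ B) [Fintype A] [Fintype B] [Fintype C] [DecidableEq A] [DecidableEq B]
    [DecidableEq C] :
    Equiv.Perm.sign (pm x A hA) = Equiv.Perm.sign (pm x B hB) * Equiv.Perm.sign (pm x C hC) := by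
  classical
  have h : ∀ a : A, ((pm x A hA a : A) : G) ∈ B ↔ (a : G) ∈ B := fun a => by
    rw [pm_apply]; exact (hB a).symm
  have h' : ∀ a : A, ¬ ((pm x A hA a : A) : G) ∈ B ↔ ¬ (a : G) ∈ B := fun a => not_congr (h a)
  rw [sign_split (pm x A hA) (fun a : A => (a : G) ∈ B) h h']
  congr 1
  · refine Equiv.Perm.sign_eq_sign_of_equiv _ _
      { toFun := fun a => ⟨(a : A), a.2⟩
        invFun := fun b => ⟨⟨b, hBA b.2⟩, b.2⟩
        left_inv := fun a => rfl
        right_inv := fun b => rfl } (fun a => ?_)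
    rfl
  · refine Equiv.Perm.sign_eq_sign_of_equiv _ _
      { toFun := fun a => ⟨(a : A), (hCA _).2 ⟨(a : A).2, a.2⟩⟩
        invFun := fun b => ⟨⟨b, ((hCA _).1 b.2).1⟩, ((hCA _).1 b.2).2⟩
        left_inv := fun a => rfl
        right_inv := fun b => rfl } (fun a => ?_)
    rfl

end conj

/-! ### The elements which do not commute with `t` -/

section gam

variable {G : Type*} [Group G] {Δ : Set G} {t : G}

/-- The part of the component which does not commute with `t`. -/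
def Gm (Δ : Set G) (t : G) : Set G := {e | e ∈ Δ ∧ ¬ Commute e t}

theorem mem_Gm {e : G} : e ∈ Gm Δ t ↔ e ∈ Δ ∧ ¬ Commute e t := Iff.rfl

theorem three' (hsq : ∀ a ∈ Δ, a * a = 1) (h3 : ∀ a ∈ Δ, ∀ b ∈ Δ, Commute a b ∨ (a * b) ^ 3 = 1) {a b : G}
    (ha : a ∈ Δ) (hb : b ∈ Δ) : b * a = a * b ∨ (a * b) ^ 3 = 1 := by
  rcases h3 a ha b hb with h | h
  · exact Or.inl h.symm.eq
  · exact Or.inr h

/-- An element of `Δ` commuting with a product of two commuting elements of `Δ` commutes with the factors. -/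
theorem comm_two (hsq : ∀ a ∈ Δ, a * a = 1) (h3 : ∀ a ∈ Δ, ∀ b ∈ Δ, Commute a b ∨ (a * b) ^ 3 = 1) {a b e : G}
    (ha : a ∈ Δ) (hb : b ∈ Δ) (he : e ∈ Δ) (hab : Commute a b) (hne : a ≠ b) (h : Commute e (a * b)) : Commute e a :=
  comm_of_comm_two (hsq a ha) (hsq b hb) (hsq e he) hab.eq hne (three' hsq h3 ha he) (three' hsq h3 hb he) h.eq

/-- Nobody in `Gm` commutes with three points of a line. -/
theorem not_all (hsq : ∀ a ∈ Δ, a * a = 1) (h3 : ∀ a ∈ Δ, ∀ b ∈ Δ, Commute a b ∨ (a * b) ^ 3 = 1)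
    {b0 b1 b2 b3 b4 : G} (ht : t ∈ Δ) (m3 : b3 ∈ Δ) (m4 : b4 ∈ Δ) (c3 : Commute t b3) (c4 : Commute t b4)
    (c34 : Commute b3 b4) (n3 : t ≠ b3) (n4 : t ≠ b4)
    (hl : b0 * b1 * b2 * b3 * b4 = t) {e : G} (he : e ∈ Gm Δ t)
    (e0 : Commute e b0) (e1 : Commute e b1) (e2 : Commute e b2) : False := by
  obtain ⟨heD, het⟩ := he
  have k : b0 * b1 * b2 = t * b3 * b4 := by
    have h4 := hsq b4 m4
    have h3' := hsq b3 m3
    calc b0 * b1 * b2 = (b0 * b1 * b2 * b3 * b4) * (b4⁻¹ * b3⁻¹) := by group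
      _ = t * (b3 * b4)⁻¹ := by rw [hl, mul_inv_rev]
      _ = t * (b3 * b4) := by
        congr 1
        refine inv_eq_of_mul_eq_one_left ?_
        calc b3 * b4 * (b3 * b4) = b3 * (b4 * b3) * b4 := by group
          _ = b3 * (b3 * b4) * b4 := by rw [c34.eq]
          _ = (b3 * b3) * (b4 * b4) := by group
          _ = 1 := by rw [h4, h3', one_mul]
      _ = _ := by group
  have hc : Commute e (t * b3 * b4) := by
    rw [← k]; exact (e0.mul_right e1).mul_right e2
  by_cases g4 : Commute e b4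
  · have h5 : Commute e (t * b3) := by
      have := hc.mul_right g4
      have e5 : t * b3 * b4 * b4 = t * b3 := by rw [mul_assoc, hsq b4 m4, mul_one]
      rwa [e5] at this
    exact het (comm_two hsq h3 ht m3 heD c3 n3 h5)
  · by_cases g3 : Commute e b3
    · have h5 : Commute e (t * b4) := by
        have := hc.mul_right g3
        have e5 : t * b3 * b4 * b3 = t * b4 := by
          calc t * b3 * b4 * b3 = t * b3 * (b4 * b3) := by group
            _ = t * (b3 * b3) * b4 := by rw [← c34.eq]; group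
            _ = t * b4 := by rw [hsq b3 m3, mul_one]
        rwa [e5] at this
      exact het (comm_two hsq h3 ht m4 heD c4 n4 h5)
    · have r : ∀ b ∈ Δ, ¬ Commute e b → (b * e) ^ 3 = 1 := fun b hb hn => by
        rcases h3 b hb e heD with h | h
        · exact absurd h.symm hn
        · exact h
      have := not_three (hsq t ht) (hsq b3 m3) (hsq b4 m4) (hsq e heD) c3.eq c34.eq c4.eq (r t ht het) (r b3 m3 g3)
        (r b4 m4 g4) hc.eq
      rw [this] at het
      exact het c3.symm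

/-- **(B2)** The sign on `Gm` is `1`. -/
theorem sign_gam [Finite G] (hsq : ∀ a ∈ Δ, a * a = 1) (h3 : ∀ a ∈ Δ, ∀ b ∈ Δ, Commute a b ∨ (a * b) ^ 3 = 1)
    (hconj : ∀ a ∈ Δ, ∀ b ∈ Δ, b * a * b⁻¹ ∈ Δ)
    (hcard : (Gm Δ t).ncard = 2816) {b0 b1 b2 b3 b4 : G} (ht : t ∈ Δ) (m0 : b0 ∈ Δ) (m1 : b1 ∈ Δ) (m2 : b2 ∈ Δ)
    (m3 : b3 ∈ Δ) (m4 : b4 ∈ Δ)
    (c0 : Commute t b0) (c1 : Commute t b1) (c2 : Commute t b2) (c3 : Commute t b3) (c4 : Commute t b4)
    (c01 : Commute b0 b1) (c02 : Commute b0 b2) (c12 : Commute b1 b2) (c34 : Commute b3 b4)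
    (n0 : t ≠ b0) (n1 : t ≠ b1) (n2 : t ≠ b2) (n3 : t ≠ b3) (n4 : t ≠ b4)
    (hl : b0 * b1 * b2 * b3 * b4 = t) {x : G} (hx : x * x = 1 ∨ x * x = t)
    (x0 : Commute x b0) (x1 : Commute x b1) (x2 : Commute x b2) (xt : Commute x t)
    (h : ∀ e, e ∈ Gm Δ t ↔ x * e * x⁻¹ ∈ Gm Δ t) [Fintype (Gm Δ t)] [DecidableEq (Gm Δ t)] :
    Equiv.Perm.sign (pm x (Gm Δ t) h) = 1 := by
  have hFc : Fintype.card (Gm Δ t) = 2816 := by
    rw [← Nat.card_eq_fintype_card, Nat.card_coe_set_eq, hcard]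
  rcases hx with hx | hx
  · -- involution
    have h2 : (pm x (Gm Δ t) h) ^ 2 = 1 := pm_pow_two h fun e _ => by rw [hx]; exact Commute.one_right e
    rw [Equiv.Perm.sign_of_pow_two_eq_one h2, hFc]
    -- the fixed points
    set F : Set G := {e | e ∈ Gm Δ t ∧ Commute e x} with hF
    have hfix : Fintype.card (Function.fixedPoints (pm x (Gm Δ t) h)) = F.ncard := by
      rw [← Nat.card_eq_fintype_card, ← Nat.card_coe_set_eq]
      refine Nat.card_congr
        { toFun := fun e => ⟨(e : Gm Δ t), (e : Gm Δ t).2, (pm_fix h _).1 e.2⟩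
          invFun := fun e => ⟨⟨e, e.2.1⟩, (pm_fix h _).2 e.2.2⟩
          left_inv := fun e => rfl
          right_inv := fun e => rfl }
    have hfree : ∀ (A : Set G), A ⊆ F → ∀ b ∈ Δ, Commute t b → t ≠ b → (∀ e ∈ A, ¬ Commute e b) →
        (∀ g : G, g = t ∨ g = b → ∀ e ∈ A, g * e * g⁻¹ ∈ A) → 4 ∣ A.ncard := by
      intro A hA b hb ctb hne hnb hc
      refine four_dvd_ncard (Set.toFinite A) (hsq t ht) (hsq b hb) ctb (hc t (Or.inl rfl)) (hc b (Or.inr rfl))
        (fun e he => (hA he).1.2) hnb (fun e he hcom => ?_)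
      exact (hA he).1.2 (comm_two hsq h3 ht hb (hA he).1.1 ctb hne hcom)
    -- conjugation by elements commuting with everything
    have cj : ∀ {g e c : G}, Commute g c → (Commute (g * e * g⁻¹) c ↔ Commute e c) := by
      intro g e c hgc
      have e1 : g * c * g⁻¹ = c := by rw [hgc.eq, mul_inv_cancel_right]
      constructor
      · intro h1
        have h2 : Commute (g * e * g⁻¹) (g * c * g⁻¹) := by rw [e1]; exact h1
        have h5 := h2.eq
        have h6 : g * (e * c) * g⁻¹ = g * (c * e) * g⁻¹ := by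
          calc g * (e * c) * g⁻¹ = (g * e * g⁻¹) * (g * c * g⁻¹) := by group
            _ = (g * c * g⁻¹) * (g * e * g⁻¹) := h5
            _ = _ := by group
        exact mul_left_cancel (mul_right_cancel h6)
      · intro h1
        rw [← e1]
        have h5 := h1.eq
        show (g * e * g⁻¹) * (g * c * g⁻¹) = (g * c * g⁻¹) * (g * e * g⁻¹)
        calc (g * e * g⁻¹) * (g * c * g⁻¹) = g * (e * c) * g⁻¹ := by group
          _ = g * (c * e) * g⁻¹ := by rw [h5]
          _ = _ := by group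
    have hFc' : ∀ g ∈ Δ, Commute g t → Commute g x → ∀ e ∈ F, g * e * g⁻¹ ∈ F := by
      intro g hg hgt hgx e he
      exact ⟨⟨hconj e he.1.1 g hg, fun h5 => he.1.2 ((cj hgt).1 h5)⟩, (cj hgx).2 he.2⟩
    have tt : Commute t t := Commute.refl t
    set F0 : Set G := {e | e ∈ F ∧ ¬ Commute e b0} with hF0
    set F1 : Set G := {e | e ∈ F ∧ Commute e b0 ∧ ¬ Commute e b1} with hF1
    set F2 : Set G := {e | e ∈ F ∧ Commute e b0 ∧ Commute e b1 ∧ ¬ Commute e b2} with hF2
    have d0 : 4 ∣ F0.ncard := by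
      refine hfree F0 (fun e he => he.1) b0 m0 c0 n0 (fun e he => he.2) ?_
      rintro g (rfl | rfl) e he
      · exact ⟨hFc' _ ht tt xt.symm e he.1, fun h5 => he.2 ((cj c0).1 h5)⟩
      · exact ⟨hFc' _ m0 c0.symm x0.symm e he.1, fun h5 => he.2 ((cj (Commute.refl _)).1 h5)⟩
    have d1 : 4 ∣ F1.ncard := by
      refine hfree F1 (fun e he => he.1) b1 m1 c1 n1 (fun e he => he.2.2) ?_
      rintro g (rfl | rfl) e he
      · exact ⟨hFc' _ ht tt xt.symm e he.1, (cj c0).2 he.2.1, fun h5 => he.2.2 ((cj c1).1 h5)⟩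
      · exact ⟨hFc' _ m1 c1.symm x1.symm e he.1, (cj c01.symm).2 he.2.1,
          fun h5 => he.2.2 ((cj (Commute.refl _)).1 h5)⟩
    have d2 : 4 ∣ F2.ncard := by
      refine hfree F2 (fun e he => he.1) b2 m2 c2 n2 (fun e he => he.2.2.2) ?_
      rintro g (rfl | rfl) e he
      · exact ⟨hFc' _ ht tt xt.symm e he.1, (cj c0).2 he.2.1, (cj c1).2 he.2.2.1,
          fun h5 => he.2.2.2 ((cj c2).1 h5)⟩
      · exact ⟨hFc' _ m2 c2.symm x2.symm e he.1, (cj c02.symm).2 he.2.1, (cj c12.symm).2 he.2.2.1,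
          fun h5 => he.2.2.2 ((cj (Commute.refl _)).1 h5)⟩
    have hun : F = F0 ∪ F1 ∪ F2 := by
      ext e
      constructor
      · intro he
        by_cases g0 : Commute e b0
        · by_cases g1 : Commute e b1
          · by_cases g2 : Commute e b2
            · exact absurd (not_all hsq h3 ht m3 m4 c3 c4 c34 n3 n4 hl he.1 g0 g1 g2) id
            · exact Or.inr ⟨he, g0, g1, g2⟩
          · exact Or.inl (Or.inr ⟨he, g0, g1⟩)
        · exact Or.inl (Or.inl ⟨he, g0⟩)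
      · rintro ((h5 | h5) | h5) <;> exact h5.1
    have hcF : F.ncard = F0.ncard + F1.ncard + F2.ncard := by
      rw [hun, Set.ncard_union_eq, Set.ncard_union_eq]
      · rw [Set.disjoint_left]
        rintro e h5 h6
        exact h5.2 h6.2.1
      · rw [Set.disjoint_left]
        rintro e (h5 | h5) h6
        · exact h5.2 h6.2.1
        · exact h5.2.2 h6.2.2.1
    have d : 4 ∣ F.ncard := by
      rw [hcF]; exact dvd_add (dvd_add d0 d1) d2
    rw [hfix]
    obtain ⟨k, hk⟩ := d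
    have hle : F.ncard ≤ 2816 := by
      rw [← hcard]
      exact Set.ncard_le_ncard (fun e he => he.1) (Set.toFinite _)
    have he : Even ((2816 - F.ncard) / 2) := by
      refine ⟨704 - k, ?_⟩
      rw [hk]
      omega
    exact he.neg_one_pow
  · -- all cycles of length four
    have e1 := iff_mul h h
    have e2 : (pm x (Gm Δ t) h) ^ 2 = pm (x * x) (Gm Δ t) e1 := by rw [pow_two, pm_mul h h e1]
    have h4 : (pm x (Gm Δ t) h) ^ 4 = 1 := by
      rw [show 4 = 2 * 2 from rfl, pow_mul, e2]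
      exact pm_pow_two e1 fun e _ => by rw [hx, hsq t ht]; exact Commute.one_right e
    rw [sign_four _ h4 (fun a ha => ?_), hFc]
    · norm_num
    · rw [e2, pm_fix, hx] at ha
      exact a.2.2 ha

end gam

end Cfsg.Agent.U62.SgnTwo
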