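import Cfsg.Agent.U62.SgnOne

/-!
The sign of a semilinear element of `C(t)` on the component `Δ` is `-1`.
-/

set_option autoImplicit false
set_option linter.unusedSectionVars false

namespace Cfsg.Agent.U62.SgnMain

open Cfsg Cfsg.Agent.LieClassical.HermBasic Cfsg.Agent.ClassicalGeometry.UnitTransv
open Cfsg.Agent.SporadicStructure.UnitTwo
open Cfsg.Agent.R01.PSUSix Cfsg.Agent.R01.InvForm
open Cfsg.Agent.R01.Frames (Hyp)
open Cfsg.Agent.R01.ComLabel (Iso)
open Cfsg.Agent.U62.Semi Cfsg.Agent.U62.Semi2 Cfsg.Agent.U62.Sys Cfsg.Agent.U62.Basic Cfsg.Agent.U62.Lin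
open Cfsg.Agent.U62.SgnTwo (pm pm_fix pm_pow_two Gm mem_Gm sign_gam sign_pm_split)
open Cfsg.Agent.U62.SgnOne (Dl exists_norm sign_one)

variable {G : Type*} [Group G] {F : Type*} [Field F] [Fintype F] {hF : Fintype.card F = 2 ^ 2}
variable {t : G} {L K : Subgroup G} {p : (Fin 6 → F) → G} {Δ : Set G}

section S

variable (S : Sys hF t L K p)
include S

/-- The sign of a normalised semilinear element. -/
theorem sign_norm [Finite G] (hK : ∀ k ∈ K, k = 1 ∨ k = t) (D : Dl F t Δ p) {x : G} (xt : Commute x t)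
    {ψ : (Fin 6 → F) → (Fin 6 → F)} (hψ : Sem 2 ψ) (ha : Acts p x ψ) {g k : Fin 3 → (Fin 6 → F)} (hb : Hyp g k)
    (hg : ∀ i, ψ (g i) = g i) (hk : ∀ i, ψ (k i) = k i) (h : ∀ e, e ∈ Δ ↔ x * e * x⁻¹ ∈ Δ)
    [Fintype Δ] [DecidableEq Δ] : Equiv.Perm.sign (pm x Δ h) = -1 := by
  classical
  obtain ⟨ω, hω⟩ := exists_omega hF
  -- the square
  have hψψ : Sem (F := F) 1 (fun v => ψ (ψ v)) := (hψ.comp hψ).four hF
  have hid : ∀ v, ψ (ψ v) = v :=
    Sem.ext hF hψψ (sem_id (F := F)) hb (fun i => by rw [hg, hg]) (fun i => by rw [hk, hk])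
  have hxx : x * x = 1 ∨ x * x = t := by
    apply hK
    exact mem_K S (Or.inl rfl) hψψ (acts_mul ha ha fun v hv => hψ.iso hF (Or.inr rfl) hv)
      (fun v _ => by simp only [hid]; exact Pt.refl v)
  -- conjugation and commutation with `t`
  have hct : ∀ e, Commute e t ↔ Commute (x * e * x⁻¹) t := by
    intro e
    have e1 : x * t * x⁻¹ = t := by rw [xt.eq, mul_inv_cancel_right]
    constructor
    · intro h1
      have h2 := (Commute.conj_iff x).2 h1
      rwa [e1] at h2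
    · intro h1
      rw [← e1] at h1
      exact (Commute.conj_iff x).1 h1
  have hB : ∀ e, e ∈ {e | e ∈ Δ ∧ Commute e t} ↔ x * e * x⁻¹ ∈ {e | e ∈ Δ ∧ Commute e t} := fun e =>
    and_congr (h e) (hct e)
  have hC : ∀ e, e ∈ Gm Δ t ↔ x * e * x⁻¹ ∈ Gm Δ t := fun e => and_congr (h e) (not_congr (hct e))
  have hfB : Fintype {e | e ∈ Δ ∧ Commute e t} := (Set.toFinite _).fintype
  have hfC : Fintype (Gm Δ t) := (Set.toFinite _).fintype
  rw [sign_pm_split h hB hC (fun e he => he.1) (fun e => ⟨fun he => ⟨he.1, fun h0 => he.2 h0.2⟩,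
    fun he => ⟨he.1, fun h0 => he.2 ⟨he.1, h0⟩⟩⟩)]
  rw [sign_one S hK D xt hψ ha hb hg hk hxx hB]
  -- the line
  have hfr := Outer.hyp_fr3 hb
  have h12 : Fr2 (g 1) (g 2) := by
    refine ⟨hb.gg 1 1, hb.gg 2 2, hb.gg 1 2, fun a b hab => ?_⟩
    have := hfr.ind 0 a b (by rw [zero_smul, zero_add, hab])
    exact this.2
  have i1 : Iso F (g 1) := hyp_iso_g hF hb 1
  have i2 : Iso F (g 2) := hyp_iso_g hF hb 2
  have hci : ∀ c : F, Iso F (c • g 1 + g 2) := by
    intro c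
    refine ⟨fun h0 => one_ne_zero (h12.ind c 1 (by rw [one_smul, h0])).2, ?_⟩
    rw [herm_add_left, herm_add_right hF, herm_add_right hF, herm_smul_left, herm_smul_left,
      herm_smul_right, herm_smul_right, hb.gg, hb.gg, hb.gg, hb.gg]
    ring
  have i3 : Iso F (g 1 + g 2) := by have := hci 1; rwa [one_smul] at this
  have ho : ∀ a b c d : F, hermForm 6 F 2 (a • g 1 + b • g 2) (c • g 1 + d • g 2) = 0 := by
    intro a b c d
    rw [herm_add_left, herm_add_right hF, herm_add_right hF, herm_smul_left, herm_smul_left,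
      herm_smul_left, herm_smul_left, herm_smul_right, herm_smul_right, herm_smul_right, herm_smul_right,
      hb.gg, hb.gg, hb.gg, hb.gg]
    ring
  have xc : ∀ v, Iso F v → ψ v = v → Commute x (p v) := fun v hv h0 =>
    (acts_commute S (Or.inr rfl) hψ ha hv).2 (by rw [h0]; exact Pt.refl v)
  rw [sign_gam D.sq D.three D.conj D.card D.tmem (D.mem _ i1) (D.mem _ i2) (D.mem _ i3) (D.mem _ (hci ω))
    (D.mem _ (hci (ω ^ 2))) (pt S i1).symm (pt S i2).symm (pt S i3).symm (pt S (hci ω)).symm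
    (pt S (hci (ω ^ 2))).symm (pcomm S i1 i2 (hb.gg 1 2))
    (pcomm S i1 i3 (by have := ho 1 0 1 1; simpa using this))
    (pcomm S i2 i3 (by have := ho 0 1 1 1; simpa using this))
    (pcomm S (hci ω) (hci (ω ^ 2)) (by have := ho ω 1 (ω ^ 2) 1; simpa using this))
    (S.net _ i1).symm (S.net _ i2).symm (S.net _ i3).symm (S.net _ (hci ω)).symm (S.net _ (hci (ω ^ 2))).symm
    (S.line _ _ h12 ω hω) hxx (xc _ i1 (hg 1)) (xc _ i2 (hg 2))
    (xc _ i3 (by rw [hψ.add, hg, hg])) xt hC]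
  decide

/-- Every coset of `L` of a semilinear element of `C(t)` contains an element of sign `-1` on `Δ`. -/
theorem main [Finite G] (hK : ∀ k ∈ K, k = 1 ∨ k = t) (D : Dl F t Δ p) {n : G} (hnt : Commute n t)
    (hn : IsSLin p n) : ∃ l ∈ L, Commute (l * n) t ∧ ∀ (h : ∀ e, e ∈ Δ ↔ (l * n) * e * (l * n)⁻¹ ∈ Δ)
      [Fintype Δ] [DecidableEq Δ], Equiv.Perm.sign (pm (l * n) Δ h) = -1 := by
  obtain ⟨l, hl, ψ, g, k, hψ, ha, hb, hg, hk⟩ := exists_norm S hn
  have hlt : Commute (l * n) t := (Lt S hl).mul_left hnt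
  exact ⟨l, hl, hlt, fun h => sign_norm S hK D hlt hψ ha hb hg hk h⟩

end S

end Cfsg.Agent.U62.SgnMain
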