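import Cfsg.Agent.U62.Glue
import Cfsg.Agent.U62.SgnMain

/-!
`C_G(t) = L`, from the fusion statements.
-/

set_option autoImplicit false
set_option linter.unusedSectionVars false

namespace Cfsg.Agent.U62.Cent

open Cfsg Cfsg.Agent.LieClassical.HermBasic
open Cfsg.Agent.R01.Closing (Conn)
open Cfsg.Agent.R01.ComLabel
open Cfsg.Agent.U62.Sys Cfsg.Agent.U62.Basic Cfsg.Agent.U62.Lin Cfsg.Agent.U62.Glue
open Cfsg.Agent.U62.SgnTwo (pm pm_mul Gm)
open Cfsg.Agent.U62.SgnOne (Dl)

variable {G : Type*} [Group G] {F : Type*} [Field F] [Fintype F] {hF : Fintype.card F = 2 ^ 2}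
variable {t : G} {L K : Subgroup G} {p : (Fin 6 → F) → G}

/-- The action of the stabiliser on the component. -/
def act (t : G) : MM t →* Equiv.Perm (Del t) :=
  MonoidHom.mk' (fun m => pm (m : G) (Del t) (conj_mem_iff m.2)) (by
    intro a b
    exact pm_mul (conj_mem_iff a.2) (conj_mem_iff b.2) (conj_mem_iff (a * b).2))

theorem dl [Finite G] (S : Sys hF t L K p)
    (hD : ∀ x, IsConj t x → Commute x t → x = t ∨ ∃ v, Iso F v ∧ x = p v)
    (hp : ∀ v, Iso F v → IsConj t (p v)) : Dl F t (Del t) p := by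
  have X := data S hD hp
  refine ⟨fun a ha => X.sq a (Del_D ha), fun a ha b hb => three_Del X hF ha hb, t_mem t,
    fun a ha b hb => conj_mem (Del_le_MM hb) ha, ncard_noncomm X hF, fun v hv => ?_,
    fun a ha hc => ?_⟩
  · exact Cfsg.Agent.R01.Closing.Conn.of_comm (self_D t) (hp v hv) (pt S hv).symm.eq
  · rcases hD a (Del_D ha) hc with h | ⟨v, hv, h⟩
    · exact Or.inl h
    · exact Or.inr ⟨v, hv, h.symm⟩

theorem mem_L [Finite G] [IsSimpleGroup G] (hG : ¬ IsMulCommutative G) (S : Sys hF t L K p)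
    (hK : ∀ k ∈ K, k = 1 ∨ k = t)
    (hD : ∀ x, IsConj t x → Commute x t → x = t ∨ ∃ v, Iso F v ∧ x = p v)
    (hp : ∀ v, Iso F v → IsConj t (p v)) {n : G} (hn : Commute n t) : n ∈ L := by
  rcases lin_or S hn with h | h
  · obtain ⟨l, hl, k, hk, rfl⟩ := Det.lin_mem S hn h
    rcases hK k hk with rfl | rfl
    · rwa [mul_one]
    · exact L.mul_mem hl S.tL
  · exfalso
    classical
    have X := data S hD hp
    obtain ⟨l, hl, hlt, hs⟩ := SgnMain.main S hK (dl S hD hp) hn h
    let _ : Fintype (Del t) := Fintype.ofFinite _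
    have h1 := Transfer.eq_one hG (Equiv.Perm.sign.comp (act t)) S.tt
      (MM_of_commute (Commute.refl t)) (fix_one X hF) hlt (MM_of_commute hlt)
    have h2 := hs (conj_mem_iff (MM_of_commute hlt))
    have h3 : (1 : ℤˣ) = -1 := h1.symm.trans h2
    exact absurd h3 (by decide)

end Cfsg.Agent.U62.Cent
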