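import Cfsg.Agent.U62.Lin
import Cfsg.Agent.R01.Squares

/-!
Involutions acting semilinearly: three conjugates of `s` which differ from `s` by products of elements of order
three commuting with `s`.
-/

set_option autoImplicit false
set_option linter.unusedSectionVars false

namespace Cfsg.Agent.U62.Outer

open Cfsg Cfsg.Agent.LieClassical.HermBasic Cfsg.Agent.ClassicalGeometry.UnitTransv
open Cfsg.Agent.SporadicStructure.UnitTwo
open Cfsg.Agent.R01.PSUSix Cfsg.Agent.R01.InvForm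
open Cfsg.Agent.R01.Frames (Hyp)
open Cfsg.Agent.R01.ComLabel (Iso)
open Cfsg.Agent.R01.Squares (exists_comm)
open Cfsg.Agent.U62.Semi Cfsg.Agent.U62.Semi2 Cfsg.Agent.U62.Sys Cfsg.Agent.U62.Basic
open Cfsg.Agent.U62.Lin

variable {G : Type*} [Group G] {F : Type*} [Field F] [Fintype F] {hF : Fintype.card F = 2 ^ 2}
variable {t : G} {L K : Subgroup G} {p : (Fin 6 → F) → G}

theorem hyp_fr3 {g k : Fin 3 → (Fin 6 → F)} (hb : Hyp g k) : Fr3 (g 0) (g 1) (g 2) := by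
  refine ⟨hb.gg 0 0, hb.gg 1 1, hb.gg 2 2, hb.gg 0 1, hb.gg 0 2, hb.gg 1 2, fun a b c h => ?_⟩
  have h0 := congrArg (fun v => hermForm 6 F 2 v (k 0)) h
  have h1 := congrArg (fun v => hermForm 6 F 2 v (k 1)) h
  have h2 := congrArg (fun v => hermForm 6 F 2 v (k 2)) h
  simp only [herm_add_left, herm_smul_left, hb.gk, herm_zero_left] at h0 h1 h2
  simp at h0 h1 h2
  exact ⟨h0, h1, h2⟩

/-- All lifts attached to a totally isotropic space lie in a commutative group. -/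
theorem comm3.{u} {G : Type u} [Group G] {F : Type*} [Field F] [Fintype F]
    {hF : Fintype.card F = 2 ^ 2} {t : G} {L K : Subgroup G} {p : (Fin 6 → F) → G}
    (S : Sys hF t L K p) {u v w : Fin 6 → F} (h : Fr3 u v w) :
    ∃ (H : Type u) (_ : CommGroup H) (f : H →* G) (l : F → F → F → H) (τ : H),
      Function.Injective f ∧ (∀ a b c, (a ≠ 0 ∨ b ≠ 0 ∨ c ≠ 0) →
        f (l a b c) = p (a • u + b • v + c • w)) ∧ f τ = t := by
  obtain ⟨H, i, f, hf, hs⟩ := exists_comm (insert t (p '' {x | ∃ a b c : F,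
      (a ≠ 0 ∨ b ≠ 0 ∨ c ≠ 0) ∧ x = a • u + b • v + c • w})) (by
    have h1 : ∀ x ∈ p '' {x | ∃ a b c : F, (a ≠ 0 ∨ b ≠ 0 ∨ c ≠ 0) ∧
        x = a • u + b • v + c • w}, Commute x t := by
      rintro _ ⟨_, ⟨a, b, c, h0, rfl⟩, rfl⟩
      exact pt S (comb_iso S h h0)
    rintro x (rfl | hx) y (rfl | hy)
    · rfl
    · exact (h1 y hy).symm.eq
    · exact (h1 x hx).eq
    · obtain ⟨_, ⟨a, b, c, h0, rfl⟩, rfl⟩ := hx
      obtain ⟨_, ⟨a', b', c', h0', rfl⟩, rfl⟩ := hy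
      exact (pcomm S (comb_iso S h h0) (comb_iso S h h0') (comb_ort S h _ _ _ _ _ _)).eq)
  classical
  have hl : ∀ a b c : F, ∃ y : H, (a ≠ 0 ∨ b ≠ 0 ∨ c ≠ 0) → f y = p (a • u + b • v + c • w) := by
    intro a b c
    by_cases h0 : a ≠ 0 ∨ b ≠ 0 ∨ c ≠ 0
    · obtain ⟨y, hy⟩ := hs (p (a • u + b • v + c • w)) (Or.inr ⟨_, ⟨a, b, c, h0, rfl⟩, rfl⟩)
      exact ⟨y, fun _ => hy⟩
    · exact ⟨1, fun h1 => absurd h1 h0⟩
  choose l hl' using hl
  obtain ⟨τ, hτ⟩ := hs t (Or.inl rfl)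
  exact ⟨H, i, f, l, τ, hf, hl', hτ⟩

/-- Calculation in a commutative group. -/
theorem calc_H {H : Type*} [CommGroup H] {τ R A C AC A0 A1 A2 C0 C1 C2 D0 D1 D2 : H}
    (hτ : τ * τ = 1) (hR : R * R = 1) (hA : A * A = 1) (hC : C * C = 1) (hAC : AC * AC = 1)
    (hA0 : A0 * A0 = 1) (hC0 : C0 * C0 = 1) (hD0 : D0 * D0 = 1)
    (l1 : R * A * A0 * A1 * A2 = τ) (l2 : R * C * C0 * C1 * C2 = τ)
    (l3 : R * AC * D0 * D1 * D2 = τ)
    (hP : (A * C * R * AC * A1 * C1 * D1) * (A * C * R * AC * A2 * C2 * D2) = 1) :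
    A2 * A1 = C * AC * C0 * D0 ∧ C2 * C1 = A * AC * A0 * D0 ∧
      (A2 * A1) * (C2 * C1) * (D2 * D1) = 1 := by
  have i : ∀ x : H, x * x = 1 → x⁻¹ = x := fun x hx => inv_eq_of_mul_eq_one_left hx
  have e1 : A2 * A1 = τ * R * A * A0 := by
    calc A2 * A1 = (R * R) * (A * A) * (A0 * A0) * (A2 * A1) := by
          rw [hR, hA, hA0, one_mul, one_mul, one_mul]
      _ = R * A * A0 * (R * A * A0 * A1 * A2) := by ac_rfl
      _ = τ * R * A * A0 := by rw [l1]; ac_rfl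
  have e2 : C2 * C1 = τ * R * C * C0 := by
    calc C2 * C1 = (R * R) * (C * C) * (C0 * C0) * (C2 * C1) := by
          rw [hR, hC, hC0, one_mul, one_mul, one_mul]
      _ = R * C * C0 * (R * C * C0 * C1 * C2) := by ac_rfl
      _ = τ * R * C * C0 := by rw [l2]; ac_rfl
  have e3 : D2 * D1 = τ * R * AC * D0 := by
    calc D2 * D1 = (R * R) * (AC * AC) * (D0 * D0) * (D2 * D1) := by
          rw [hR, hAC, hD0, one_mul, one_mul, one_mul]
      _ = R * AC * D0 * (R * AC * D0 * D1 * D2) := by ac_rfl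
      _ = τ * R * AC * D0 := by rw [l3]; ac_rfl
  have e4 : (A2 * A1) * (C2 * C1) * (D2 * D1) = 1 := by
    calc (A2 * A1) * (C2 * C1) * (D2 * D1)
        = (A * A) * (C * C) * (R * R) * (AC * AC) * ((A2 * A1) * (C2 * C1) * (D2 * D1)) := by
          rw [hA, hC, hR, hAC, one_mul, one_mul, one_mul, one_mul]
      _ = (A * C * R * AC * A1 * C1 * D1) * (A * C * R * AC * A2 * C2 * D2) := by ac_rfl
      _ = 1 := hP
  have e5 : τ * R * A * A0 * (C * AC * C0 * D0) = 1 := by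
    have h5 := e4
    rw [e1, e2, e3] at h5
    calc τ * R * A * A0 * (C * AC * C0 * D0)
        = (τ * τ) * (R * R) * (τ * R * A * A0 * (C * AC * C0 * D0)) := by
          rw [hτ, hR, one_mul, one_mul]
      _ = τ * R * A * A0 * (τ * R * C * C0) * (τ * R * AC * D0) := by ac_rfl
      _ = 1 := h5
  refine ⟨?_, ?_, e4⟩
  · rw [e1]
    have hsq : (C * AC * C0 * D0) * (C * AC * C0 * D0) = 1 := by
      calc (C * AC * C0 * D0) * (C * AC * C0 * D0)
          = (C * C) * (AC * AC) * (C0 * C0) * (D0 * D0) := by ac_rfl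
        _ = 1 := by rw [hC, hAC, hC0, hD0, one_mul, one_mul, one_mul]
    rw [eq_inv_of_mul_eq_one_left e5, i _ hsq]
  · rw [e2]
    calc τ * R * C * C0 = τ * R * C * C0 * (τ * R * A * A0 * (C * AC * C0 * D0)) := by
          rw [e5, mul_one]
      _ = (τ * τ) * (R * R) * (C * C) * (C0 * C0) * (A * AC * A0 * D0) := by ac_rfl
      _ = A * AC * A0 * D0 := by rw [hτ, hR, hC, hC0, one_mul, one_mul, one_mul, one_mul]

/-- **Involutions acting semilinearly.** -/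
theorem outer (S : Sys hF t L K p) {s : G} (hs : Commute s t) (hss : s * s = 1)
    (hsl : IsSLin p s) : ∃ w : Fin 3 → G, (∀ i, w i ∈ Odd3 s) ∧ (∀ i, w i ≠ 1) ∧
      (∀ i, ∃ y, s * w i = y * s * y⁻¹) ∧ w 0 * w 1 * w 2 = 1 ∧ ∀ i j, Commute (w i) (w j) := by
  obtain ⟨e, φ, he, hφ, ha, hφφ⟩ := norm_inv S hs (by rw [hss]; exact K.one_mem)
  have he2 : e = 2 := by
    rcases he with rfl | rfl
    · exact (not_both S hs ⟨φ, hφ, ha⟩ hsl).elim
    · rfl
  subst he2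
  obtain ⟨g, k, hb, hg, hk1, hk2, -⟩ := semi_normal hF hφ hφφ
  have hkg := hb.kg hF
  obtain ⟨ω, hω⟩ := exists_omega hF
  have hω3 := omega_cubed hω
  have hω0 : ω ≠ 0 := by rintro rfl; simp at hω
  have hfr := hyp_fr3 hb
  obtain ⟨H, _, f, l, τ, hf, hl, hτ⟩ := comm3 S hfr
  have hsi : s⁻¹ = s := inv_eq_of_mul_eq_one_left hss
  -- `q a b c` are the labels
  have hiso : ∀ a b c : F, (a ≠ 0 ∨ b ≠ 0 ∨ c ≠ 0) → Iso F (a • g 0 + b • g 1 + c • g 2) :=
    fun a b c h0 => comb_iso S hfr h0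
  have hsq : ∀ a b c : F, (a ≠ 0 ∨ b ≠ 0 ∨ c ≠ 0) → l a b c * l a b c = 1 := by
    intro a b c h0
    apply hf
    rw [map_mul, hl a b c h0, S.sq _ (hiso a b c h0), map_one]
  have hττ : τ * τ = 1 := hf (by rw [map_mul, hτ, S.tt, map_one])
  -- the action of `s`
  have hact : ∀ a b c : F, (a ≠ 0 ∨ b ≠ 0 ∨ c ≠ 0) →
      s * f (l a b c) * s⁻¹ = f (l (a ^ 2) (b ^ 2) (c ^ 2)) := by
    intro a b c h0
    have h0' : a ^ 2 ≠ 0 ∨ b ^ 2 ≠ 0 ∨ c ^ 2 ≠ 0 := by
      rcases h0 with h | h | h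
      · exact Or.inl (pow_ne_zero 2 h)
      · exact Or.inr (Or.inl (pow_ne_zero 2 h))
      · exact Or.inr (Or.inr (pow_ne_zero 2 h))
    rw [hl a b c h0, hl _ _ _ h0', ha _ (hiso a b c h0)]
    congr 1
    rw [hφ.add, hφ.add, hφ.smul, hφ.smul, hφ.smul, hg, hg, hg]
  -- the lines
  have hline : ∀ b c : F, (b = 0 ∨ b = 1) → (c = 0 ∨ c = 1) → (b ≠ 0 ∨ c ≠ 0) →
      l 1 0 0 * l 0 b c * l 1 b c * l ω b c * l (ω ^ 2) b c = τ := by
    intro b c hb' hc' h0
    apply hf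
    have h1 : Fr2 ((1 : F) • g 0 + (0 : F) • g 1 + (0 : F) • g 2)
        ((0 : F) • g 0 + b • g 1 + c • g 2) := by
      refine ⟨(hiso _ _ _ (by simp)).2, (hiso _ _ _ (Or.inr h0)).2, comb_ort S hfr _ _ _ _ _ _,
        fun x y hxy => ?_⟩
      have h2 := hfr.ind (x * 1) (y * b) (y * c) (by rw [← hxy]; module)
      obtain ⟨h3, h4, h5⟩ := h2
      refine ⟨by simpa using h3, ?_⟩
      rcases h0 with h0 | h0
      · exact (mul_eq_zero.1 h4).resolve_right h0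
      · exact (mul_eq_zero.1 h5).resolve_right h0
    have h2 := S.line _ _ h1 ω hω
    have e1 : (1 : F) • g 0 + (0 : F) • g 1 + (0 : F) • g 2 +
        ((0 : F) • g 0 + b • g 1 + c • g 2) = (1 : F) • g 0 + b • g 1 + c • g 2 := by module
    have e2 : ω • ((1 : F) • g 0 + (0 : F) • g 1 + (0 : F) • g 2) +
        ((0 : F) • g 0 + b • g 1 + c • g 2) = ω • g 0 + b • g 1 + c • g 2 := by module
    have e3 : ω ^ 2 • ((1 : F) • g 0 + (0 : F) • g 1 + (0 : F) • g 2) +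
        ((0 : F) • g 0 + b • g 1 + c • g 2) = ω ^ 2 • g 0 + b • g 1 + c • g 2 := by module
    rw [e1, e2, e3] at h2
    rw [map_mul, map_mul, map_mul, map_mul, hτ, hl _ _ _ (by simp), hl _ _ _ (Or.inr h0),
      hl _ _ _ (Or.inr h0), hl _ _ _ (Or.inr h0), hl _ _ _ (Or.inr h0)]
    exact h2
  -- the seven product
  have hω20 : ω ^ 2 ≠ 0 := pow_ne_zero 2 hω0
  have hw2 : (ω ^ 2) ^ 2 = ω := by linear_combination ω * hω3
  have hPi : (l 0 1 0 * l 0 0 1 * l 1 0 0 * l 0 1 1 * l ω 1 0 * l ω 0 1 * l ω 1 1) *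
      (l 0 1 0 * l 0 0 1 * l 1 0 0 * l 0 1 1 * l (ω ^ 2) 1 0 * l (ω ^ 2) 0 1 * l (ω ^ 2) 1 1)
        = 1 := by
    have hω1 : f (l ω 0 0) = f (l 1 0 0) := by
      rw [hl _ _ _ (Or.inl hω0), hl 1 0 0 (by simp)]
      have : ω • g 0 + (0 : F) • g 1 + (0 : F) • g 2 =
          ω • ((1 : F) • g 0 + (0 : F) • g 1 + (0 : F) • g 2) := by module
      rw [this, S.smul _ (hiso _ _ _ (by simp)) ω hω0]
    have hfr' : Fr3 (g 1) (g 2) (ω • g 0) := by
      have := Fr3_smul hF (hfr.rot hF) one_ne_zero one_ne_zero hω0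
      rwa [one_smul, one_smul] at this
    have h1 := seven_mem S hfr'
    have c1 : g 1 = (0 : F) • g 0 + (1 : F) • g 1 + (0 : F) • g 2 := by module
    have c2 : g 2 = (0 : F) • g 0 + (0 : F) • g 1 + (1 : F) • g 2 := by module
    have c4 : g 1 + g 2 = (0 : F) • g 0 + (1 : F) • g 1 + (1 : F) • g 2 := by module
    have c5 : g 1 + ω • g 0 = ω • g 0 + (1 : F) • g 1 + (0 : F) • g 2 := by module
    have c6 : g 2 + ω • g 0 = ω • g 0 + (0 : F) • g 1 + (1 : F) • g 2 := by module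
    have c7 : g 1 + g 2 + ω • g 0 = ω • g 0 + (1 : F) • g 1 + (1 : F) • g 2 := by module
    rw [c7, c4, c5, c6] at h1
    have p1 : p (g 1) = f (l 0 1 0) := by rw [hl _ _ _ (by simp), ← c1]
    have p2 : p (g 2) = f (l 0 0 1) := by rw [hl _ _ _ (by simp), ← c2]
    have p3 : p (ω • g 0) = f (l ω 0 0) := by
      rw [hl _ _ _ (Or.inl hω0)]
      congr 1
      module
    rw [p1, p2, p3, ← hl 0 1 1 (by simp), ← hl ω 1 0 (by simp),
      ← hl ω 0 1 (by simp), ← hl ω 1 1 (by simp), hω1, ← map_mul, ← map_mul, ← map_mul, ← map_mul,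
      ← map_mul, ← map_mul] at h1
    obtain ⟨X, hX⟩ : ∃ X, X = l 0 1 0 * l 0 0 1 * l 1 0 0 * l 0 1 1 * l ω 1 0 * l ω 0 1 * l ω 1 1 :=
      ⟨_, rfl⟩
    rw [← hX] at h1 ⊢
    -- conjugation by `s`
    have h2 : s * f X * s⁻¹ = f (l 0 1 0 * l 0 0 1 * l 1 0 0 * l 0 1 1 * l (ω ^ 2) 1 0 *
        l (ω ^ 2) 0 1 * l (ω ^ 2) 1 1) := by
      have a1 := hact 0 1 0 (by simp)
      have a2 := hact 0 0 1 (by simp)
      have a3 := hact 1 0 0 (by simp)
      have a4 := hact 0 1 1 (by simp)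
      have a5 := hact ω 1 0 (by simp)
      have a6 := hact ω 0 1 (by simp)
      have a7 := hact ω 1 1 (by simp)
      simp only [one_pow, zero_pow two_ne_zero] at a1 a2 a3 a4 a5 a6 a7
      rw [hX]
      simp only [map_mul]
      rw [← a5, ← a6, ← a7]
      conv_rhs => rw [← a1, ← a2, ← a3, ← a4]
      group
    have h3 : s * f X * s⁻¹ = f X := by
      rcases h1 with h1 | h1
      · rw [h1, mul_one, mul_inv_cancel]
      · rw [h1, hs.eq, mul_inv_cancel_right]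
    rw [h3] at h2
    rw [← hf h2]
    apply hf
    rw [map_mul, map_one]
    rcases h1 with h1 | h1
    · rw [h1, one_mul]
    · rw [h1, S.tt]
  obtain ⟨r1, r2, r3⟩ := calc_H hττ (hsq 1 0 0 (by simp)) (hsq 0 1 0 (by simp))
    (hsq 0 0 1 (by simp)) (hsq 0 1 1 (by simp)) (hsq 1 1 0 (by simp)) (hsq 1 0 1 (by simp))
    (hsq 1 1 1 (by simp)) (hline 1 0 (Or.inr rfl) (Or.inl rfl) (by simp))
    (hline 0 1 (Or.inl rfl) (Or.inr rfl) (by simp))
    (hline 1 1 (Or.inr rfl) (Or.inr rfl) (by simp)) hPi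
  -- the conjugates
  have hconj : ∀ b c : F, (b = 0 ∨ b = 1) → (c = 0 ∨ c = 1) → (b ≠ 0 ∨ c ≠ 0) →
      (∃ y, s * f (l (ω ^ 2) b c * l ω b c) = y * s * y⁻¹) ∧ f (l (ω ^ 2) b c * l ω b c) ≠ 1 := by
    intro b c hb' hc' h0
    have hbb : b ^ 2 = b := by rcases hb' with rfl | rfl <;> simp
    have hcc : c ^ 2 = c := by rcases hc' with rfl | rfl <;> simp
    have a1 := hact (ω ^ 2) b c (Or.inr h0)
    rw [hw2, hbb, hcc] at a1
    have hfi : (f (l ω b c))⁻¹ = f (l ω b c) := by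
      rw [← map_inv, inv_eq_of_mul_eq_one_left (hsq _ _ _ (Or.inr h0))]
    refine ⟨⟨f (l ω b c), ?_⟩, ?_⟩
    · rw [hfi, map_mul]
      calc s * (f (l (ω ^ 2) b c) * f (l ω b c))
          = (s * f (l (ω ^ 2) b c) * s⁻¹) * s * f (l ω b c) := by group
        _ = _ := by rw [a1]
    · intro h1
      rw [map_mul] at h1
      have h2 := eq_inv_of_mul_eq_one_left h1
      rw [hfi, hl _ _ _ (Or.inr h0), hl _ _ _ (Or.inr h0)] at h2
      obtain ⟨d, hd, h3⟩ := S.inj _ _ (hiso _ _ _ (Or.inr h0)) (hiso _ _ _ (Or.inr h0)) h2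
      have h4 := hfr.ind (ω - d * ω ^ 2) (b - d * b) (c - d * c) (by
        have : (ω - d * ω ^ 2) • g 0 + (b - d * b) • g 1 + (c - d * c) • g 2 =
          (ω • g 0 + b • g 1 + c • g 2) - d • (ω ^ 2 • g 0 + b • g 1 + c • g 2) := by module
        rw [this, h3, sub_self])
      obtain ⟨h5, h6, h7⟩ := h4
      have hd1 : d = 1 := by
        rcases h0 with h0 | h0
        · have : (1 - d) * b = 0 := by linear_combination h6
          have := (mul_eq_zero.1 this).resolve_right h0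
          linear_combination -this
        · have : (1 - d) * c = 0 := by linear_combination h7
          have := (mul_eq_zero.1 this).resolve_right h0
          linear_combination -this
      rw [hd1] at h5
      have h8 : ω * (1 - ω) = 0 := by linear_combination h5
      rcases mul_eq_zero.1 h8 with h9 | h9
      · exact hω0 h9
      · have h10 : ω = 1 := by linear_combination -h9
        rw [h10] at hω
        exact one_ne_zero (by linear_combination hω - two_eq_zero hF : (1 : F) = 0)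
  -- membership in `Odd3`
  have hodd : ∀ z : Fin 6 → F, Iso F z → φ z = z → ∀ b c b' c' a a' : F,
      a ^ 2 = a → b ^ 2 = b → c ^ 2 = c → a' ^ 2 = a' → b' ^ 2 = b' → c' ^ 2 = c' →
      (a ≠ 0 ∨ b ≠ 0 ∨ c ≠ 0) → (a' ≠ 0 ∨ b' ≠ 0 ∨ c' ≠ 0) →
      hermForm 6 F 2 (a • g 0 + b • g 1 + c • g 2) z ≠ 0 →
      hermForm 6 F 2 (a' • g 0 + b' • g 1 + c' • g 2) z ≠ 0 →
      f (l a b c) * f (l a' b' c') ∈ Odd3 s := by
    intro z hz hfz b c b' c' a a' ha2 hb2 hc2 ha2' hb2' hc2' h0 h0' h1 h1'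
    have hzs : Commute (p z) s := by
      have := ha z hz
      rw [hfz] at this
      exact (mul_inv_eq_iff_eq_mul.1 this : Commute s (p z)).symm
    have hcs : Commute (f (l a b c)) s := by
      have := hact a b c h0
      rw [ha2, hb2, hc2] at this
      exact (mul_inv_eq_iff_eq_mul.1 this : Commute s _).symm
    have hcs' : Commute (f (l a' b' c')) s := by
      have := hact a' b' c' h0'
      rw [ha2', hb2', hc2'] at this
      exact (mul_inv_eq_iff_eq_mul.1 this : Commute s _).symm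
    have e1 : f (l a b c) * f (l a' b' c') = (f (l a b c) * p z) * (p z * f (l a' b' c')) := by
      calc f (l a b c) * f (l a' b' c') = f (l a b c) * (p z * p z) * f (l a' b' c') := by
            rw [S.sq z hz, mul_one]
        _ = _ := by group
    rw [e1]
    refine mul_mem (odd3_mem ?_ (hcs.mul_left hzs)) (odd3_mem ?_ (hzs.mul_left hcs'))
    · rw [hl _ _ _ h0]
      exact S.three _ _ (hiso _ _ _ h0) hz h1
    · rw [hl _ _ _ h0']
      exact S.three _ _ hz (hiso _ _ _ h0') (fun h2 => h1' (herm_eq_zero_swap hF h2))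
  have hcomb : ∀ a b c : F, hermForm 6 F 2 (a • g 0 + b • g 1 + c • g 2) (k 1) = b ∧
      hermForm 6 F 2 (a • g 0 + b • g 1 + c • g 2) (k 2) = c := by
    intro a b c
    simp only [herm_add_left, herm_smul_left, hb.gk]
    constructor <;> simp
  have s0 : (0 : F) ^ 2 = 0 := by ring
  have s1 : (1 : F) ^ 2 = 1 := by ring
  have m0 : f (l (ω ^ 2) 1 0 * l ω 1 0) ∈ Odd3 s := by
    rw [r1, map_mul, map_mul, map_mul, mul_assoc (f (l 0 0 1) * f (l 0 1 1))]
    refine mul_mem (hodd (k 2) (hyp_iso_k hF hb 2) hk2 0 1 1 1 0 0 s0 s0 s1 s0 s1 s1 (by simp)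
      (by simp) ?_ ?_) (hodd (k 2) (hyp_iso_k hF hb 2) hk2 0 1 1 1 1 1 s1 s0 s1 s1 s1 s1 (by simp)
      (by simp) ?_ ?_) <;> rw [(hcomb _ _ _).2] <;> exact one_ne_zero
  have m1 : f (l (ω ^ 2) 0 1 * l ω 0 1) ∈ Odd3 s := by
    rw [r2, map_mul, map_mul, map_mul, mul_assoc (f (l 0 1 0) * f (l 0 1 1))]
    refine mul_mem (hodd (k 1) (hyp_iso_k hF hb 1) hk1 1 0 1 1 0 0 s0 s1 s0 s0 s1 s1 (by simp)
      (by simp) ?_ ?_) (hodd (k 1) (hyp_iso_k hF hb 1) hk1 1 0 1 1 1 1 s1 s1 s0 s1 s1 s1 (by simp)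
      (by simp) ?_ ?_) <;> rw [(hcomb _ _ _).1] <;> exact one_ne_zero
  have hprod : f (l (ω ^ 2) 1 0 * l ω 1 0) * f (l (ω ^ 2) 0 1 * l ω 0 1) *
      f (l (ω ^ 2) 1 1 * l ω 1 1) = 1 := by
    rw [← map_mul, ← map_mul, r3, map_one]
  refine ⟨![f (l (ω ^ 2) 1 0 * l ω 1 0), f (l (ω ^ 2) 0 1 * l ω 0 1),
    f (l (ω ^ 2) 1 1 * l ω 1 1)], ?_, ?_, ?_, hprod, ?_⟩
  · intro i
    fin_cases i
    · exact m0
    · exact m1
    · show f (l (ω ^ 2) 1 1 * l ω 1 1) ∈ Odd3 s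
      rw [eq_inv_of_mul_eq_one_right hprod]
      exact inv_mem (mul_mem m0 m1)
  · intro i
    fin_cases i
    · exact (hconj 1 0 (Or.inr rfl) (Or.inl rfl) (by simp)).2
    · exact (hconj 0 1 (Or.inl rfl) (Or.inr rfl) (by simp)).2
    · exact (hconj 1 1 (Or.inr rfl) (Or.inr rfl) (by simp)).2
  · intro i
    fin_cases i
    · exact (hconj 1 0 (Or.inr rfl) (Or.inl rfl) (by simp)).1
    · exact (hconj 0 1 (Or.inl rfl) (Or.inr rfl) (by simp)).1
    · exact (hconj 1 1 (Or.inr rfl) (Or.inr rfl) (by simp)).1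
  · have hc : ∀ x y : H, Commute (f x) (f y) := fun x y => (Commute.all x y).map f
    intro i j
    fin_cases i <;> fin_cases j <;> exact hc _ _

end Cfsg.Agent.U62.Outer
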