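import Cfsg.Agent.U62.NoInv
import Cfsg.Agent.U62.Outer

/-!
The centralizer `K` of the standard subgroup `L = 2.U_6(2)` is `{1, t}`.
-/

set_option autoImplicit false
set_option linter.unusedSectionVars false

namespace Cfsg.Agent.U62.KEq

open Cfsg Cfsg.Agent.LieClassical.HermBasic Cfsg.Agent.ClassicalGeometry.UnitTransv
open Cfsg.Agent.SporadicStructure.UnitTwo
open Cfsg.Agent.R01.PSUSix Cfsg.Agent.R01.InvForm
open Cfsg.Agent.R01.Frames (Hyp)
open Cfsg.Agent.R01.ComLabel (Iso)
open Cfsg.Agent.U62.Semi Cfsg.Agent.U62.Semi2 Cfsg.Agent.U62.Sys Cfsg.Agent.U62.Basic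
open Cfsg.Agent.U62.Lin

variable {G : Type*} [Group G] {F : Type*} [Field F] [Fintype F] {hF : Fintype.card F = 2 ^ 2}
variable {t : G} {L K : Subgroup G} {p : (Fin 6 → F) → G}

/-- The local situation of a standard subgroup. -/
structure Std {G : Type*} [Group G] {F : Type*} [Field F] [Fintype F]
    (hF : Fintype.card F = 2 ^ 2) (t : G) (L K : Subgroup G) (p : (Fin 6 → F) → G) : Prop where
  S : Sys hF t L K p
  cent : ∀ v ∈ K, v * v = 1 → v ≠ 1 → ∀ c, Commute c v → Commute c t
  tight : ∀ h, ¬ Commute h t → ∀ v ∈ K, v * v = 1 → h⁻¹ * v * h ∈ K → v = 1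
  core : ∀ N : Subgroup G, N ≤ K → (∀ c, Commute c t → ∀ n ∈ N, c * n * c⁻¹ ∈ N) →
    Odd (Nat.card N) → N = ⊥

theorem mem_map {H : Subgroup G} {g x : G} : x ∈ H.map (MulAut.conj g).toMonoidHom ↔
    g⁻¹ * x * g ∈ H := by
  constructor
  · rintro ⟨y, hy, rfl⟩
    have : g⁻¹ * (MulAut.conj g).toMonoidHom y * g = y := by
      show g⁻¹ * (g * y * g⁻¹) * g = y
      group
    rw [this]; exact hy
  · intro h
    refine ⟨_, h, ?_⟩
    show g * (g⁻¹ * x * g) * g⁻¹ = x
    group

theorem conj_back {g x y : G} (h : Commute x (g * y * g⁻¹)) : Commute (g⁻¹ * x * g) y := by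
  have e : x = g * (g⁻¹ * x * g) * g⁻¹ := by group
  rw [e] at h
  exact (Commute.conj_iff g).1 h

theorem Std.conjugate (T : Std hF t L K p) (g : G) :
    Std hF (g * t * g⁻¹) (L.map (MulAut.conj g).toMonoidHom) (K.map (MulAut.conj g).toMonoidHom)
      (fun v => g * p v * g⁻¹) := by
  refine ⟨T.S.conjugate g, ?_, ?_, ?_⟩
  · rintro v hv hvv hv1 c hc
    rw [mem_map] at hv
    have e1 : v = g * (g⁻¹ * v * g) * g⁻¹ := by group
    have h1 : Commute (g⁻¹ * c * g) (g⁻¹ * v * g) := by
      rw [e1] at hc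
      exact conj_back hc
    have h2 := T.cent _ hv (by
      calc g⁻¹ * v * g * (g⁻¹ * v * g) = g⁻¹ * (v * v) * g := by group
        _ = 1 := by rw [hvv]; group) (fun h => hv1 (by rw [e1, h]; group)) _ h1
    have e2 : c = g * (g⁻¹ * c * g) * g⁻¹ := by group
    rw [e2]
    exact (Commute.conj_iff g).2 h2
  · rintro h hh v hv hvv hvh
    rw [mem_map] at hv hvh
    have h1 := T.tight (g⁻¹ * h * g) (fun hc => hh (by
      have e2 : h = g * (g⁻¹ * h * g) * g⁻¹ := by group
      rw [e2]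
      exact (Commute.conj_iff g).2 hc)) (g⁻¹ * v * g) hv (by
      calc g⁻¹ * v * g * (g⁻¹ * v * g) = g⁻¹ * (v * v) * g := by group
        _ = 1 := by rw [hvv]; group) (by
      have : (g⁻¹ * h * g)⁻¹ * (g⁻¹ * v * g) * (g⁻¹ * h * g) = g⁻¹ * (h⁻¹ * v * h) * g := by group
      rw [this]; exact hvh)
    calc v = g * (g⁻¹ * v * g) * g⁻¹ := by group
      _ = 1 := by rw [h1]; group
  · intro N hN hNn hodd
    have h1 := T.core (N.map (MulAut.conj g⁻¹).toMonoidHom) (by
      rintro _ ⟨n, hn, rfl⟩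
      have := mem_map.1 (hN hn)
      show g⁻¹ * n * g⁻¹⁻¹ ∈ K
      rwa [inv_inv]) (by
      rintro c hc _ ⟨n, hn, rfl⟩
      refine ⟨(g * c * g⁻¹) * n * (g * c * g⁻¹)⁻¹, hNn _ ((Commute.conj_iff g).2 hc) n hn, ?_⟩
      show g⁻¹ * ((g * c * g⁻¹) * n * (g * c * g⁻¹)⁻¹) * g⁻¹⁻¹ = c * (g⁻¹ * n * g⁻¹⁻¹) * c⁻¹
      group) (by
      rw [Subgroup.card_map_of_injective (MulAut.conj g⁻¹).injective]
      exact hodd)
    rw [Subgroup.map_eq_bot_iff_of_injective _ (MulAut.conj g⁻¹).injective] at h1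
    exact h1

section T

variable (T : Std hF t L K p)
include T

theorem no_inv' {h : G} (_ : Commute (h * t * h⁻¹) t) (hne : h * t * h⁻¹ ≠ t) {v : G}
    (hv : v ∈ K) (hvv : v * v = 1) (hv1 : v ≠ 1) (hvt : v ≠ t) (hvs : Commute v (h * t * h⁻¹)) :
    False := by
  refine NoInv.no_inv T.S (T.S.conjugate h) T.cent ?_ hv hvv hv1 hvt hvs
  intro w hw hw' hww
  rw [mem_map] at hw'
  refine T.tight h (fun hc => hne ?_) w hw hww hw'
  rw [hc.eq, mul_inv_cancel_right]

theorem ss {h : G} : (h * t * h⁻¹) * (h * t * h⁻¹) = 1 := by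
  calc (h * t * h⁻¹) * (h * t * h⁻¹) = h * (t * t) * h⁻¹ := by group
    _ = 1 := by rw [T.S.tt]; group

/-- A conjugate of `t` acting linearly is inner. -/
theorem inner {h : G} (hst : Commute (h * t * h⁻¹) t) (hne : h * t * h⁻¹ ≠ t)
    (hlin : IsLin p (h * t * h⁻¹)) : h * t * h⁻¹ ∈ L := by
  obtain ⟨l, hl, k, hk, hlk⟩ := lin_dec T.S hst hlin (by rw [ss T]; exact K.one_mem)
  have hc := T.S.comm l hl k hk
  have h1 : l * l * (k * k) = 1 := by
    have := ss T (h := h)
    rw [hlk] at this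
    calc l * l * (k * k) = l * (l * k) * k := by group
      _ = l * (k * l) * k := by rw [hc.eq]
      _ = 1 := by rw [← this]; group
  have h2 : l * l ∈ K := by
    rw [eq_inv_of_mul_eq_one_left h1]
    exact K.inv_mem (K.mul_mem hk hk)
  have h3 : l * l = 1 := (T.S.LK _ (L.mul_mem hl hl) h2).resolve_right (T.S.nsq l hl)
  have h4 : k * k = 1 := by rwa [h3, one_mul] at h1
  have h5 : Commute k (h * t * h⁻¹) := by
    rw [hlk]
    exact hc.symm.mul_right (Commute.refl k)
  by_cases hk1 : k = 1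
  · rw [hlk, hk1, mul_one]; exact hl
  by_cases hkt : k = t
  · rw [hlk, hkt]; exact L.mul_mem hl T.S.tL
  exact (no_inv' T hst hne hk h4 hk1 hkt h5).elim

/-- Existence of an inner conjugate. -/
theorem exists_inner {h : G} (hst : Commute (h * t * h⁻¹) t) (hne : h * t * h⁻¹ ≠ t) :
    ∃ g : G, Commute (g * t * g⁻¹) t ∧ g * t * g⁻¹ ≠ t ∧ g * t * g⁻¹ ∈ L := by
  rcases lin_or T.S hst with hlin | hsl
  · exact ⟨h, hst, hne, inner T hst hne hlin⟩
  · obtain ⟨w, hw, hw1, hy, -, -⟩ := Cfsg.Agent.U62.Outer.outer T.S hst (ss T) hsl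
    obtain ⟨y, hy⟩ := hy 0
    set s := h * t * h⁻¹ with hs
    have T' := T.conjugate h
    rw [← hs] at T'
    have hws := odd3_commute (hw 0)
    have h1 : Commute (y * s * y⁻¹) s := by
      rw [← hy]
      exact (Commute.refl s).mul_left hws
    have h2 : y * s * y⁻¹ ≠ s := by
      rw [← hy]
      intro h'
      exact hw1 0 (mul_eq_left.1 h')
    have h3 := inner T' h1 h2 (by
      rw [← hy]
      exact lin_mul T'.S (lin_K T'.S T'.S.tK) (odd3_lin T'.S (hw 0)))
    rw [mem_map] at h3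
    have e1 : h⁻¹ * (y * s * y⁻¹) * h = (h⁻¹ * y * h) * t * (h⁻¹ * y * h)⁻¹ := by rw [hs]; group
    rw [e1] at h3
    refine ⟨h⁻¹ * y * h, ?_, ?_, h3⟩
    · rw [← e1]
      exact conj_back h1
    · rw [← e1]
      intro h'
      apply h2
      calc y * s * y⁻¹ = h * (h⁻¹ * (y * s * y⁻¹) * h) * h⁻¹ := by group
        _ = s := by rw [h']

/-- `t` is the only involution of `K`. -/
theorem uniq {h : G} (hst : Commute (h * t * h⁻¹) t) (hne : h * t * h⁻¹ ≠ t) {v : G} (hv : v ∈ K)
    (hvv : v * v = 1) : v = 1 ∨ v = t := by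
  obtain ⟨g, h1, h2, h3⟩ := exists_inner T hst hne
  by_contra hcon
  push Not at hcon
  exact no_inv' T h1 h2 hv hvv hcon.1 hcon.2 (T.S.comm _ h3 v hv).symm

end T

section form

variable (S : Sys hF t L K p)
include S

theorem key {x y : Fin 6 → F} {g k : Fin 3 → (Fin 6 → F)} (hy : hermForm 6 F 2 y (g 0) = 0)
    (hy' : hermForm 6 F 2 y (k 0) = hermForm 6 F 2 x (g 0)) (h : Pt x (x + y)) :
    hermForm 6 F 2 x (g 0) = 0 := by
  obtain ⟨c, hc, h1⟩ := h
  have h2 := congrArg (fun v => hermForm 6 F 2 v (g 0)) h1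
  simp only [herm_add_left, herm_smul_left, hy, add_zero] at h2
  by_cases hc1 : c = 1
  · rw [hc1, one_smul] at h1
    have h3 : y = 0 := by simpa using h1
    rw [← hy', h3, herm_zero_left]
  · have h3 : (c - 1) * hermForm 6 F 2 x (g 0) = 0 := by linear_combination -h2
    exact (mul_eq_zero.1 h3).resolve_left (sub_ne_zero.2 hc1)

theorem mul_c0 {c₀ x y : G} (hc : c₀ = 1 ∨ c₀ = t) (hx : Commute x t) :
    Commute x (c₀ * y) ↔ Commute x y := by
  have h1 : Commute x c₀ := by
    rcases hc with rfl | rfl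
    · exact Commute.one_right x
    · exact hx
  constructor
  · intro h
    have := h1.inv_right.mul_right h
    rwa [inv_mul_cancel_left] at this
  · exact fun h => h1.mul_right h

/-- The form of an involution of `L`. -/
theorem s_form {s : G} (hs : s ∈ L) (hss : s * s = 1) (hs1 : s ≠ 1) (hst : s ≠ t) :
    ∃ g k : Fin 3 → (Fin 6 → F), Hyp g k ∧
      (∀ x, Iso F x → (∀ i, hermForm 6 F 2 x (g i) = 0) → Commute (p x) s) ∧
      (∀ x, Iso F x → Commute (p x) s → hermForm 6 F 2 x (g 0) = 0) ∧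
      ((∃ a b, Fr2 a b ∧ s = p a * p b) → s = p (g 0) * p (g 1)) := by
  have hlist : ∀ (g k : Fin 3 → (Fin 6 → F)) (hb : Hyp g k) (l : List (Fin 3)) (c₀ : G)
      (hc : c₀ = 1 ∨ c₀ = t), s = c₀ * ((l.map g).map p).prod →
      (∀ x, hermForm 6 F 2 (((l.map g).map fun u => hermForm 6 F 2 x u • u).sum) (k 0) =
        hermForm 6 F 2 x (g 0)) →
      (∀ x, hermForm 6 F 2 (((l.map g).map fun u => hermForm 6 F 2 x u • u).sum) (g 0) = 0) →
      (∀ x, (∀ i, hermForm 6 F 2 x (g i) = 0) →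
        ((l.map g).map fun u => hermForm 6 F 2 x u • u).sum = 0) →
      (∀ x, Iso F x → (∀ i, hermForm 6 F 2 x (g i) = 0) → Commute (p x) s) ∧
      (∀ x, Iso F x → Commute (p x) s → hermForm 6 F 2 x (g 0) = 0) := by
    intro g k hb l c₀ hc hsl hk0 hg0 hz
    obtain ⟨h1, h2⟩ := acts_list S (l.map g) (by
      intro u hu
      obtain ⟨i, -, rfl⟩ := List.mem_map.1 hu
      exact hyp_iso_g hF hb i) (by
      intro u hu v hv
      obtain ⟨i, -, rfl⟩ := List.mem_map.1 hu
      obtain ⟨j, -, rfl⟩ := List.mem_map.1 hv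
      exact hb.gg i j)
    constructor
    · intro x hx hx0
      rw [hsl, mul_c0 S hc (pt S hx)]
      have h3 := h1 x hx
      simp only [hz x hx0, add_zero] at h3
      exact (mul_inv_eq_iff_eq_mul.1 h3 : Commute _ _).symm
    · intro x hx hxc
      rw [hsl, mul_c0 S hc (pt S hx)] at hxc
      have h3 := h1 x hx
      have h4 : p x = p (x + ((l.map g).map fun u => hermForm 6 F 2 x u • u).sum) := by
        rw [← h3, hxc.symm.eq, mul_inv_cancel_right]
      exact key S (hg0 x) (hk0 x) (S.inj _ _ hx (h2 x hx) h4)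
  have H2 : ∀ (g k : Fin 3 → (Fin 6 → F)) (hb : Hyp g k) (c₀ : G)
      (hc : c₀ = 1 ∨ c₀ = t), s = c₀ * (p (g 0) * p (g 1)) →
      (∀ x, Iso F x → (∀ i, hermForm 6 F 2 x (g i) = 0) → Commute (p x) s) ∧
      (∀ x, Iso F x → Commute (p x) s → hermForm 6 F 2 x (g 0) = 0) := by
    intro g k hb c₀ hc h
    refine hlist g k hb [0, 1] c₀ hc (by simpa using h) ?_ ?_ ?_
    · intro x
      simp [herm_add_left, herm_smul_left, hb.gk]
    · intro x
      simp [herm_add_left, herm_smul_left, hb.gg]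
    · intro x hx
      simp [hx]
  by_cases hex : ∃ a b, Fr2 a b ∧ s = p a * p b
  · obtain ⟨a, b, hab, hsab⟩ := hex
    obtain ⟨g, k, hb, h0, h1⟩ := ext2 hF hab
    have h2 : s = p (g 0) * p (g 1) := by rw [h0, h1]; exact hsab
    obtain ⟨h3, h4⟩ := H2 g k hb 1 (Or.inl rfl) (by rw [one_mul]; exact h2)
    exact ⟨g, k, hb, h3, h4, fun _ => h2⟩
  · obtain ⟨c₀, hc, h⟩ := S.invf s hs (Or.inl hss)
    rcases h with h | ⟨u, hu, h⟩ | ⟨u, v, hf, h⟩ | ⟨u, v, w, hf, h⟩
    · exfalso
      rcases hc with rfl | rfl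
      · exact hs1 h
      · exact hst h
    · obtain ⟨g, k, hb, h0⟩ := ext1 hF hu
      obtain ⟨h3, h4⟩ := hlist g k hb [0] c₀ hc (by simpa [h0] using h)
        (by intro x; simp [herm_smul_left, hb.gk])
        (by intro x; simp [herm_smul_left, hb.gg]) (by intro x hx; simp [hx])
      exact ⟨g, k, hb, h3, h4, fun h' => (hex h').elim⟩
    · obtain ⟨g, k, hb, h0, h1⟩ := ext2 hF hf
      obtain ⟨h3, h4⟩ := H2 g k hb c₀ hc (by rw [h0, h1]; exact h)
      exact ⟨g, k, hb, h3, h4, fun h' => (hex h').elim⟩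
    · obtain ⟨g, k, hb, h0, h1, h2⟩ := ext3 hF hf
      obtain ⟨h3, h4⟩ := hlist g k hb [0, 1, 2] c₀ hc (by simpa [h0, h1, h2, mul_assoc] using h)
        (by intro x; simp [herm_add_left, herm_smul_left, hb.gk])
        (by intro x; simp [herm_add_left, herm_smul_left, hb.gg]) (by intro x hx; simp [hx])
      exact ⟨g, k, hb, h3, h4, fun h' => (hex h').elim⟩

end form

section root

omit [Field F] [Fintype F] in
theorem comm_sq {a b : G} (h : Commute a b) (ha : a * a = 1) (hb : b * b = 1) :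
    a * b * (a * b) = 1 := by
  calc a * b * (a * b) = a * (b * a) * b := by group
    _ = (a * a) * (b * b) := by rw [h.symm.eq]; group
    _ = 1 := by rw [ha, hb, mul_one]

/-- The points perpendicular to the centres of `s` and the action of an element of `K_s`. -/
theorem fix_pts (S : Sys hF t L K p) {s : G} {L' K' : Subgroup G} {p' : (Fin 6 → F) → G}
    (S' : Sys hF s L' K' p') (uniq : ∀ v ∈ K', v * v = 1 → v = 1 ∨ v = s)
    {u : Fin 6 → F} (hu : Iso F u)
    (cs : ∀ x, Iso F x → Commute (p x) s → hermForm 6 F 2 x u = 0)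
    {y : G} (hy : y ∈ K') {φ : (Fin 6 → F) → (Fin 6 → F)} {e : ℕ} (he : e = 1 ∨ e = 2)
    (hφ : Sem e φ) (ha : Acts p y φ) {x : Fin 6 → F} (hx : Iso F x) (hxs : Commute (p x) s)
    (hxus' : Iso F (x + u) → Commute (p (x + u)) s) :
    hermForm 6 F 2 x (φ x) = 0 ∧ (Pt x (φ x) ∨ p x * p (φ x) = s) := by
  have hx' : Iso F (φ x) := hφ.iso hF he hx
  have hact := ha x hx
  have hys : Commute y s := Kt S' hy
  have hx's : Commute (p (φ x)) s := by
    rw [← hact]
    exact (hys.mul_left hxs).mul_left hys.inv_left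
  have hm : p x * p (φ x) ∈ K' := by
    have h1 := K'.mul_mem (S'.Knorm _ hxs y hy) (K'.inv_mem hy)
    have h2 : p x * y * (p x)⁻¹ * y⁻¹ = p x * p (φ x) := by
      rw [← pinv S hx', ← hact]; group
    rwa [h2] at h1
  by_cases h0 : hermForm 6 F 2 x (φ x) = 0
  · refine ⟨h0, ?_⟩
    have hc := pcomm S hx hx' h0
    rcases uniq _ hm (comm_sq hc (S.sq x hx) (S.sq _ hx')) with h1 | h1
    · left
      refine S.inj _ _ hx hx' ?_
      have := eq_inv_of_mul_eq_one_left h1
      rwa [pinv S hx'] at this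
    · exact Or.inr h1
  · exfalso
    set x' := φ x with hx'def
    clear_value x'
    have h0' : hermForm 6 F 2 x' x ≠ 0 := fun h => h0 (herm_eq_zero_swap hF h)
    have hxu : hermForm 6 F 2 x u = 0 := cs x hx hxs
    have hx'u : hermForm 6 F 2 x' u = 0 := cs x' hx' hx's
    set c := hermForm 6 F 2 x' x with hc
    set z := x' + c • x with hz
    have hzx : hermForm 6 F 2 z x = c := by
      rw [hz, herm_add_left, herm_smul_left, hx.2, mul_zero, add_zero]
    have hzu : hermForm 6 F 2 z u = 0 := by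
      rw [hz, herm_add_left, herm_smul_left, hxu, hx'u, mul_zero, add_zero]
    have e1 : p x * p x' * p x = p z := S.conj x x' hx hx'
    have hzi : Iso F z := by
      have := (acts_list S [x] (by simpa using hx) (by simpa using hx.2)).2 x' hx'
      simpa [hz, hc] using this
    -- x + u
    have hxui : Iso F (x + u) := by
      refine ⟨fun h => ?_, ?_⟩
      · have h1 := congrArg (fun v => hermForm 6 F 2 v x') h
        simp only [herm_add_left, herm_zero_left] at h1
        rw [herm_eq_zero_swap hF hx'u, add_zero] at h1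
        exact h0 h1
      · rw [herm_add_left, herm_add_right hF, herm_add_right hF, hx.2, hu.2, hxu,
          herm_eq_zero_swap hF hxu]
        ring
    have hxus := hxus' hxui
    have hzcu : hermForm 6 F 2 z (z + c • u) = 0 := by
      rw [herm_add_right hF, herm_smul_right, hzi.2, hzu]; ring
    have hc0 : c ≠ 0 := h0'
    have hzcui : Iso F (z + c • u) := by
      refine ⟨fun h => ?_, ?_⟩
      · have h1 := congrArg (fun v => hermForm 6 F 2 v x) h
        simp only [herm_add_left, herm_smul_left, herm_zero_left] at h1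
        rw [hzx, herm_eq_zero_swap hF hxu, mul_zero, add_zero] at h1
        exact hc0 h1
      · rw [herm_add_left, hzcu, herm_smul_left, herm_add_right hF, herm_smul_right,
          herm_eq_zero_swap hF hzu, hu.2]
        ring
    have e2 : p (x + u) * p x' * p (x + u) = p (z + c • u) := by
      rw [S.conj (x + u) x' hxui hx']
      congr 1
      rw [herm_add_right hF, hx'u, add_zero, smul_add, ← add_assoc]
    -- conjugates of `m`
    have m1 : p x * p z ∈ K' := by
      have h1 := S'.Knorm _ hxs _ hm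
      have h2 : p x * (p x * p x') * (p x)⁻¹ = p x * p z := by
        rw [pinv S hx, ← e1]; group
      rwa [h2] at h1
    have m2 : p x * p (z + c • u) ∈ K' := by
      have h1 := S'.Knorm _ hxus _ hm
      have hcc : Commute (p (x + u)) (p x) := pcomm S hxui hx (by
        rw [herm_add_left, hx.2, herm_eq_zero_swap hF hxu, add_zero])
      have h2 : p (x + u) * (p x * p x') * (p (x + u))⁻¹ = p x * p (z + c • u) := by
        rw [pinv S hxui, ← e2]
        calc p (x + u) * (p x * p x') * p (x + u) = (p (x + u) * p x) * p x' * p (x + u) := by group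
          _ = _ := by rw [hcc.eq]; group
      rwa [h2] at h1
    have m3 : p z * p (z + c • u) ∈ K' := by
      have h1 := K'.mul_mem (K'.inv_mem m1) m2
      have h2 : (p x * p z)⁻¹ * (p x * p (z + c • u)) = p z * p (z + c • u) := by
        rw [mul_inv_rev, pinv S hzi]; group
      rwa [h2] at h1
    have hfr : ¬ Pt z (z + c • u) := by
      rintro ⟨d, hd, h1⟩
      have h2 := congrArg (fun v => hermForm 6 F 2 v x) h1
      simp only [herm_add_left, herm_smul_left] at h2
      rw [hzx, herm_eq_zero_swap hF hxu, mul_zero, add_zero] at h2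
      have hd1 : d = 1 := by
        have h3 : (d - 1) * c = 0 := by linear_combination -h2
        exact sub_eq_zero.1 ((mul_eq_zero.1 h3).resolve_right hc0)
      rw [hd1, one_smul] at h1
      have h4 : c • u = 0 := by simpa using h1
      rcases smul_eq_zero.1 h4 with h5 | h5
      · exact hc0 h5
      · exact hu.1 h5
    rcases uniq _ m3 (comm_sq (pcomm S hzi hzcui hzcu) (S.sq z hzi) (S.sq _ hzcui)) with h1 | h1
    · apply hfr
      refine S.inj _ _ hzi hzcui ?_
      have := eq_inv_of_mul_eq_one_left h1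
      rwa [pinv S hzcui] at this
    · have h2 := comm_two S (not_pt_iff hzi hzcui hzcu hfr) hx (by rw [h1]; exact hxs)
      exact hc0 (by rw [← hzx]; exact herm_eq_zero_swap hF h2.1)

theorem no_root (T : Std hF t L K p) {h : G} (hst : Commute (h * t * h⁻¹) t)
    (hne : h * t * h⁻¹ ≠ t) (hsL : h * t * h⁻¹ ∈ L) {y : G} (hy : y ∈ K) (hyy : y * y = t) :
    False := by
  have T' := T.conjugate h
  have hss := ss T (h := h)
  have hy's : h * y * h⁻¹ * (h * y * h⁻¹) = h * t * h⁻¹ := by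
    rw [← hyy]; group
  have hy' : h * y * h⁻¹ ∈ K.map (MulAut.conj h).toMonoidHom := ⟨y, hy, rfl⟩
  have hys : Commute y (h * t * h⁻¹) := (T.S.comm _ hsL y hy).symm
  have hs1 : h * t * h⁻¹ ≠ 1 := by
    intro h1
    apply T.S.t1
    have : t = h⁻¹ * (h * t * h⁻¹) * h := by group
    rw [this, h1]; group
  have htL' : h⁻¹ * (h * t * h⁻¹) * h⁻¹⁻¹ ∈ L.map (MulAut.conj h).toMonoidHom := by
    refine inner T' ?_ ?_ ?_
    · have : h⁻¹ * (h * t * h⁻¹) * h⁻¹⁻¹ = t := by group
      rw [this]; exact hst.symm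
    · have : h⁻¹ * (h * t * h⁻¹) * h⁻¹⁻¹ = t := by group
      rw [this]; exact hne.symm
    · have : h⁻¹ * (h * t * h⁻¹) * h⁻¹⁻¹ = y * y := by rw [hyy]; group
      rw [this]
      exact lin_sq T'.S hys
  have hback : h⁻¹ * (h * t * h⁻¹) * h⁻¹⁻¹ = t := by group
  rw [hback] at htL'
  have huniq : ∀ v ∈ K.map (MulAut.conj h).toMonoidHom, v * v = 1 → v = 1 ∨ v = h * t * h⁻¹ := by
    intro v hv hvv
    refine uniq T' (h := h⁻¹) ?_ ?_ hv hvv
    · rw [hback]; exact hst.symm
    · rw [hback]; exact hne.symm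
  set s := h * t * h⁻¹ with hs
  set y' := h * y * h⁻¹ with hy'def
  set L' := L.map (MulAut.conj h).toMonoidHom with hL'
  set K' := K.map (MulAut.conj h).toMonoidHom with hK'
  clear_value s y' L' K'
  have hy't : Commute y' t := (T'.S.comm t htL' y' hy').symm
  obtain ⟨e, φ, he, hφ, ha⟩ := T.S.semi y' hy't
  have S := T.S
  obtain ⟨g, k, hb, c1, c2, c3⟩ := s_form S hsL hss hs1 hne
  have hpt0 : ∀ x, Iso F x → (∀ i, hermForm 6 F 2 x (g i) = 0) →
      Pt x (φ x) ∨ (Pt (g 0) x ∨ Pt (g 1) x) ∧ p (g 0) * p (g 1) = s ∧ p x * p (φ x) = s := by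
    intro x hx hx0
    obtain ⟨h1, h2⟩ := fix_pts S T'.S huniq (hyp_iso_g hF hb 0) c2 hy' he hφ ha hx (c1 x hx hx0)
      (fun hxu => c1 _ hxu (fun i => by rw [herm_add_left, hx0 i, hb.gg, add_zero]))
    by_cases hpt : Pt x (φ x)
    · exact Or.inl hpt
    · right
      have h3 := h2.resolve_left hpt
      have h4 := c3 ⟨x, φ x, not_pt_iff hx (hφ.iso hF he hx) h1 hpt, h3.symm⟩
      refine ⟨?_, h4.symm, h3⟩
      exact pair S (Cfsg.Agent.U62.Outer.hyp_fr3 hb).fr2 hx (hφ.iso hF he hx) h1 (by rw [h3, ← h4])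
  have hpt : ∀ x, Iso F x → (∀ i, hermForm 6 F 2 x (g i) = 0) → Pt x (φ x) := by
    intro x hx hx0
    rcases hpt0 x hx hx0 with h1 | ⟨h1, h2, h3⟩
    · exact h1
    exfalso
    -- `x` is the point `g i` and `φ` moves it to `g j`
    have hij : ∃ i j : Fin 3, i ≠ j ∧ i ≠ 2 ∧ j ≠ 2 ∧ Pt (g i) x ∧ p (g i) * p (g j) = s := by
      rcases h1 with h1 | h1
      · exact ⟨0, 1, by decide, by decide, by decide, h1, h2⟩
      · refine ⟨1, 0, by decide, by decide, by decide, h1, ?_⟩
        rw [← h2]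
        exact (pcomm S (hyp_iso_g hF hb 0) (hyp_iso_g hF hb 1) (hb.gg 0 1)).symm.eq
    obtain ⟨i, j, hij, hi2, hj2, hix, hs'⟩ := hij
    have hgi := hyp_iso_g hF hb i
    have hgj := hyp_iso_g hF hb j
    have hx' := hφ.iso hF he hx
    have h4 : Pt (g j) (φ x) := by
      apply S.inj _ _ hgj hx'
      have h5 := peq S hgi hix
      rw [← hs', h5] at h3
      exact (mul_left_cancel h3).symm
    have hne2 : ∀ a : F, ∀ j' : Fin 3, j' ≠ 2 → ¬ Pt (g j') (a • g i + g 2) := by
      rintro a j' hj' ⟨c, hc, h5⟩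
      have h6 := congrArg (fun v => hermForm 6 F 2 v (k 2)) h5
      simp only [herm_add_left, herm_smul_left, hb.gk, if_neg hi2, if_neg hj', if_true, mul_zero,
        zero_add] at h6
      exact one_ne_zero h6
    have hfix : ∀ a : F, Iso F (a • g i + g 2) → Pt (a • g i + g 2) (φ (a • g i + g 2)) := by
      intro a hiso
      rcases hpt0 _ hiso (fun l => by
        rw [herm_add_left, herm_smul_left, hb.gg, hb.gg]; ring) with h5 | ⟨h5, -, -⟩
      · exact h5
      · rcases h5 with h5 | h5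
        · exact (hne2 a 0 (by decide) h5).elim
        · exact (hne2 a 1 (by decide) h5).elim
    obtain ⟨c, hc, hxc⟩ := hix
    have hiso1 : Iso F (c • g i + g 2) := by
      have := iso_gg hF hb (i := 2) (j := i) (Ne.symm hi2) c
      rwa [add_comm] at this
    obtain ⟨μ, hμ, h5⟩ := hfix c hiso1
    obtain ⟨lam, hlam, h6⟩ := hfix 0 (by rw [zero_smul, zero_add]; exact hyp_iso_g hF hb 2)
    rw [zero_smul, zero_add] at h6
    obtain ⟨β, hβ, h7⟩ := h4
    rw [hφ.add, ← hxc, h7, h6, hxc] at h5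
    have h8 := congrArg (fun v => hermForm 6 F 2 v (k i)) h5
    simp only [herm_add_left, herm_smul_left, hb.gk, if_neg (Ne.symm hij), if_neg (Ne.symm hi2),
      if_true, mul_zero, add_zero, mul_one] at h8
    rcases mul_eq_zero.1 h8.symm with h9 | h9
    · exact hμ h9
    · exact hc h9
  obtain ⟨he1, a, ha0, hg, -⟩ := scal hF hb he hφ Finset.univ
    (fun x hx hx0 => hpt x hx fun i => hx0 i (Finset.mem_univ i))
  subst he1
  -- normalise
  have hφ' := hφ.smul' hF (inv_ne_zero ha0)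
  have hA' := acts_smul S he hφ ha (inv_ne_zero ha0)
  obtain ⟨ψ, hψ⟩ : ∃ ψ : (Fin 6 → F) → (Fin 6 → F), ∀ v, ψ v = a⁻¹ • φ v := ⟨_, fun _ => rfl⟩
  have hψe : (fun v => a⁻¹ • φ v) = ψ := funext fun v => (hψ v).symm
  rw [hψe] at hφ' hA'
  have hψg : ∀ i, ψ (g i) = g i := fun i => by
    rw [hψ, hg, smul_smul, inv_mul_cancel₀ ha0, one_smul]
  have hψψ : ∀ v, ψ (ψ v) = v := by
    refine Sem.ext hF (hφ'.comp hφ') (by simpa using sem_id (F := F)) hb (fun i => ?_) (fun j => ?_)
    · simp only [hψg]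
    · have h1 := hyp_expand hF hb (ψ (k j))
      have h2 : ∀ i, hermForm 6 F 2 (ψ (k j)) (g i) = if j = i then 1 else 0 := by
        intro i
        have := hφ'.herm (k j) (g i)
        rw [hψg, pow_one, hb.kg hF] at this
        exact this
      simp only [h2, Fin.sum_univ_three] at h1
      obtain ⟨c, hc⟩ : ∃ c : Fin 3 → F, ∀ i, c i = hermForm 6 F 2 (ψ (k j)) (k i) :=
        ⟨_, fun _ => rfl⟩
      simp only [← hc] at h1
      have h3 : ψ (k j) = c 0 • g 0 + c 1 • g 1 + c 2 • g 2 + k j := by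
        rw [h1]
        fin_cases j <;> simp <;> module
      have h4 : ψ (ψ (k j)) = c 0 • g 0 + c 1 • g 1 + c 2 • g 2 +
          (c 0 • g 0 + c 1 • g 1 + c 2 • g 2 + k j) := by
        conv_lhs => rw [h3]
        rw [hφ'.add, hφ'.add, hφ'.add, hφ'.smul, hφ'.smul, hφ'.smul, hψg, hψg, hψg, h3]
        simp only [pow_one]
      show ψ (ψ (k j)) = k j
      rw [h4]
      funext i
      simp only [Pi.add_apply, Pi.smul_apply, smul_eq_mul]
      linear_combination (c 0 * g 0 i + c 1 * g 1 i + c 2 * g 2 i) * two_eq_zero hF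
  have hsK : s ∈ K := by
    apply S.ker
    intro v hv
    have h1 := acts_mul hA' hA' (fun v hv => hφ'.iso hF (Or.inl rfl) hv) v hv
    simp only [hy's, hψψ] at h1
    exact mul_inv_eq_iff_eq_mul.1 h1
  rcases S.LK s hsL hsK with h1 | h1
  · exact hs1 h1
  · exact hne h1

/-- The main result: `K = {1, t}`. -/
theorem K_eq [Finite G] (T : Std hF t L K p)
    (hfus : ∃ h : G, Commute (h * t * h⁻¹) t ∧ h * t * h⁻¹ ≠ t)
    (k : G) (hk : k ∈ K) : k = 1 ∨ k = t := by
  obtain ⟨h0, hst0, hne0⟩ := hfus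
  obtain ⟨h, hst, hne, hsL⟩ := exists_inner T hst0 hne0
  have hinv : ∀ v ∈ K, v * v = 1 → v = 1 ∨ v = t := fun v hv hvv => uniq T hst hne hv hvv
  have hroot : ∀ y ∈ K, y * y ≠ t := fun y hy hyy => no_root T hst hne hsL hy hyy
  have KC : ∀ k ∈ K, Commute k t := fun k hk => Kt T.S hk
  have t1 := T.S.t1
  have tK := T.S.tK
  have t2 := T.S.tt
  -- the order of `K` is not divisible by four
  have h4 : ¬ 4 ∣ Nat.card K := by
    intro h4
    obtain ⟨Q, hQ⟩ := Sylow.exists_subgroup_card_pow_prime (G := K) 2 (n := 2) (by simpa using h4)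
    have hmem : ∀ q ∈ Q, (q : G) = 1 ∨ (q : G) = t := by
      intro q hq
      have hq4 : q ^ 4 = 1 := by
        have := pow_card_eq_one' (G := Q) (x := ⟨q, hq⟩)
        rw [hQ] at this
        simpa using congrArg Subtype.val this
      have hq4' : ((q : G) * (q : G)) * ((q : G) * (q : G)) = 1 := by
        have := congrArg (fun x : K => (x : G)) hq4
        simp only [Subgroup.coe_pow, Subgroup.coe_one] at this
        rw [← this]
        simp [pow_succ, mul_assoc]
      rcases hinv _ (K.mul_mem q.2 q.2) hq4' with h5 | h5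
      · exact hinv _ q.2 h5
      · exact absurd h5 (hroot _ q.2)
    have hle : Nat.card Q ≤ 2 := by
      classical
      have hinj : Function.Injective (fun q : Q => decide (((q : K) : G) = 1)) := by
        intro a b hab
        apply Subtype.ext
        apply Subtype.ext
        have hab' := (decide_eq_decide.1 hab)
        rcases hmem a a.2 with ha | ha <;> rcases hmem b b.2 with hb | hb
        · rw [ha, hb]
        · exact absurd (hab'.1 ha) (by rw [hb]; exact t1)
        · exact absurd (hab'.2 hb) (by rw [ha]; exact t1)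
        · rw [ha, hb]
      have := Nat.card_le_card_of_injective _ hinj
      simpa using this
    rw [hQ] at hle
    norm_num at hle
  -- a normal complement
  set N : Subgroup K := Subgroup.zpowers ⟨t, tK⟩ with hN
  have hNt : orderOf (⟨t, tK⟩ : K) = 2 := by
    apply orderOf_eq_prime
    · rw [sq]; exact Subtype.ext t2
    · intro h'; exact t1 (congrArg Subtype.val h')
  have hNcard : Nat.card N = 2 := by rw [hN, Nat.card_zpowers, hNt]
  have hcen : ∀ n ∈ N, ∀ x : K, x * n = n * x := by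
    intro n hn x
    obtain ⟨i, rfl⟩ := Subgroup.mem_zpowers_iff.1 hn
    have : Commute x (⟨t, tK⟩ : K) := Subtype.ext (KC x x.2).eq
    exact (this.zpow_right i).eq
  have hNn : N.Normal := ⟨fun n hn g => by rw [hcen n hn g, mul_inv_cancel_right]; exact hn⟩
  have hindex : Nat.card K = 2 * N.index := by rw [← N.card_mul_index, hNcard]
  have hodd : ¬ 2 ∣ N.index := by
    rintro ⟨m, hm⟩
    exact h4 ⟨m, by rw [hindex, hm]; ring⟩
  have hoddi : Odd N.index := Nat.not_even_iff_odd.1 (fun h => hodd h.two_dvd)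
  have hcop : Nat.Coprime (Nat.card N) N.index := by
    rw [hNcard]
    exact (Nat.Prime.coprime_iff_not_dvd Nat.prime_two).2 hodd
  obtain ⟨M, hM⟩ := Subgroup.exists_right_complement'_of_coprime hcop
  have hMdec : ∀ x : K, ∃ n ∈ N, ∃ m ∈ M, x = n * m := by
    intro x
    obtain ⟨⟨n, m⟩, hnm⟩ := hM.2 x
    exact ⟨n, n.2, m, m.2, hnm.symm⟩
  have hMcard : Nat.card M = N.index := by
    have h1 := hM.card_mul_card
    rw [hNcard, hindex] at h1
    omega
  have hMone : ∀ m ∈ M, m ^ N.index = 1 := by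
    intro m hm
    have := pow_card_eq_one' (G := M) (x := ⟨m, hm⟩)
    rw [hMcard] at this
    exact congrArg Subtype.val this
  have hchar : ∀ x : K, x ^ N.index = 1 → x ∈ M := by
    intro x hx
    obtain ⟨n, hn, m, hm, rfl⟩ := hMdec x
    have hc : Commute n m := (hcen n hn m).symm
    rw [hc.mul_pow, hMone m hm, mul_one] at hx
    have h5 : n ^ 2 = 1 := by
      have := pow_card_eq_one' (G := N) (x := ⟨n, hn⟩)
      rw [hNcard] at this
      exact congrArg Subtype.val this
    obtain ⟨i, hi⟩ := hoddi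
    rw [hi, pow_succ, pow_mul, h5, one_pow, one_mul] at hx
    rw [hx, one_mul]; exact hm
  have hMbot : M.map K.subtype = ⊥ := by
    apply T.core
    · rintro _ ⟨m, _, rfl⟩; exact m.2
    · rintro c hc _ ⟨m, hm, rfl⟩
      have h5 : c * (m : G) * c⁻¹ ∈ K := T.S.Knorm c hc m m.2
      refine ⟨⟨c * (m : G) * c⁻¹, h5⟩, hchar _ ?_, rfl⟩
      apply Subtype.ext
      rw [Subgroup.coe_pow]
      show (c * (m : G) * c⁻¹) ^ N.index = 1
      rw [conj_pow]
      have h6 : (m : G) ^ N.index = 1 := by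
        rw [← Subgroup.coe_pow, hMone m hm]; rfl
      rw [h6]; group
    · rw [Subgroup.card_map_of_injective K.subtype_injective, hMcard]
      exact hoddi
  obtain ⟨n, hn, m, hm, hkm⟩ := hMdec ⟨k, hk⟩
  have hm1 : (m : G) = 1 := by
    have : (m : G) ∈ M.map K.subtype := ⟨m, hm, rfl⟩
    rw [hMbot] at this
    exact Subgroup.mem_bot.1 this
  have hk1 : k = (n : G) := by
    have := congrArg Subtype.val hkm
    simp only [Subgroup.coe_mul] at this
    rw [this, hm1, mul_one]
  obtain ⟨i, hi⟩ := Subgroup.mem_zpowers_iff.1 hn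
  have ht : (n : G) = t ^ i := by rw [← hi]; rfl
  rw [hk1, ht]
  rcases Int.even_or_odd' i with ⟨j, rfl | rfl⟩
  · left
    rw [zpow_mul, zpow_ofNat, sq, t2, one_zpow]
  · right
    rw [zpow_add, zpow_mul, zpow_ofNat, sq, t2, one_zpow, one_mul, zpow_one]

end root

end Cfsg.Agent.U62.KEq
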