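import Cfsg.Agent.U62.Seven

/-!
Linear elements of `C(t)` lie in `L`.
-/

set_option autoImplicit false
set_option linter.unusedSectionVars false

namespace Cfsg.Agent.U62.LinL

open Cfsg Cfsg.Agent.LieClassical.HermBasic Cfsg.Agent.ClassicalGeometry.UnitTransv
open Cfsg.Agent.SporadicStructure.UnitTwo
open Cfsg.Agent.R01.PSUSix Cfsg.Agent.R01.InvForm
open Cfsg.Agent.R01.Frames (Hyp hyp_std trans_hyp E P)
open Cfsg.Agent.R01.ComLabel (Iso)
open Cfsg.Agent.U62.Semi Cfsg.Agent.U62.Semi2 Cfsg.Agent.U62.Sys Cfsg.Agent.U62.Basic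
open Cfsg.Agent.U62.Lin Cfsg.Agent.U62.Outer Cfsg.Agent.U62.Seven

variable {G : Type*} [Group G] {F : Type*} [Field F] [Fintype F] {hF : Fintype.card F = 2 ^ 2}
variable {t : G} {L K : Subgroup G} {p : (Fin 6 → F) → G}

section S

variable (S : Sys hF t L K p)
include S

/-- Up to an element of `L`, a linear element of `C(t)` is diagonal. -/
theorem diag {n : G} (_ : Commute n t) (h : IsLin p n) {ω : F} (hω : ω ^ 2 + ω + 1 = 0) :
    ∃ l ∈ L, ∃ (ψ : (Fin 6 → F) → (Fin 6 → F)) (a : F), a ≠ 0 ∧ Sem 1 ψ ∧ Acts p (l * n) ψ ∧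
      (∀ i : Fin 3, ψ (E i) = (if i = 0 then a else 1) • E i) ∧
      (∀ i : Fin 3, ψ (P ω i) = (if i = 0 then a else 1) • P ω i) := by
  obtain ⟨φ, hφ, ha⟩ := h
  have hb := hyp_std (F := F) hF hω
  have hb' : Hyp (fun i => φ (E i)) (fun i => φ (P ω i)) := by
    refine ⟨fun i j => ?_, fun i j => ?_, fun i j => ?_⟩
    · show hermForm 6 F 2 (φ (E i)) (φ (E j)) = 0
      rw [hφ.herm, pow_one]; exact hb.gg i j
    · show hermForm 6 F 2 (φ (P ω i)) (φ (P ω j)) = 0
      rw [hφ.herm, pow_one]; exact hb.kk i j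
    · show hermForm 6 F 2 (φ (E i)) (φ (P ω j)) = _
      rw [hφ.herm, pow_one]; exact hb.gk i j
  obtain ⟨s, a, ha0, e0, e1, e2, q0, q1, q2⟩ := trans_hyp hF hω hb'
  obtain ⟨l, hl, hr⟩ := S.real s⁻¹
  refine ⟨l, hl, fun v => act s⁻¹ (φ v), a⁻¹, inv_ne_zero ha0, (sem_act s⁻¹).comp hφ, ?_, ?_, ?_⟩
  · intro v hv
    have h1 := acts_mul (p := p) (n := l) (m := n) (φ := act s⁻¹) (ψ := φ) hr ha
      (fun v hv => hφ.iso hF (Or.inl rfl) hv) v hv
    exact h1
  · have h3 : ∀ x y : Fin 6 → F, act s x = y → act s⁻¹ y = x := by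
      intro x y hxy
      rw [← hxy, act_inv_act]
    intro i
    fin_cases i
    · have := h3 _ _ e0
      simp only [act_smul] at this
      show act s⁻¹ (φ (E 0)) = a⁻¹ • E 0
      conv_rhs => rw [← this, smul_smul, inv_mul_cancel₀ ha0, one_smul]
    · show act s⁻¹ (φ (E 1)) = (1 : F) • E 1
      rw [one_smul]; exact h3 _ _ e1
    · show act s⁻¹ (φ (E 2)) = (1 : F) • E 2
      rw [one_smul]; exact h3 _ _ e2
  · have h3 : ∀ x y : Fin 6 → F, act s x = y → act s⁻¹ y = x := by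
      intro x y hxy
      rw [← hxy, act_inv_act]
    intro i
    fin_cases i
    · have := h3 _ _ q0
      simp only [act_smul] at this
      show act s⁻¹ (φ (P ω 0)) = a⁻¹ • P ω 0
      conv_rhs => rw [← this, smul_smul, inv_mul_cancel₀ ha0, one_smul]
    · show act s⁻¹ (φ (P ω 1)) = (1 : F) • P ω 1
      rw [one_smul]; exact h3 _ _ q1
    · show act s⁻¹ (φ (P ω 2)) = (1 : F) • P ω 2
      rw [one_smul]; exact h3 _ _ q2

/-- Every frame has the same product as a frame `E 1, E 2, c • E 0`. -/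
theorem sev_std {u v w : Fin 6 → F} (h : Fr3 u v w) :
    ∃ c : F, c ≠ 0 ∧ Sev p u v w = Sev p (E 1 : Fin 6 → F) (E 2) (c • E 0) := by
  obtain ⟨ω, hω⟩ := exists_omega hF
  have hb := hyp_std (F := F) hF hω
  -- a hyperbolic basis with `g 0 = w`, `g 1 = u`, `g 2 = v`
  have h' : Fr3 w u v := ⟨h.ww, h.uu, h.vv, herm_eq_zero_swap hF h.uw, herm_eq_zero_swap hF h.vw,
    h.uv, fun a b c habc => by
      have := h.ind b c a (by rw [← habc]; module)
      exact ⟨this.2.2, this.1, this.2.1⟩⟩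
  obtain ⟨g, k, hgk, h0, h1, h2⟩ := ext3 hF h'
  obtain ⟨s, a, ha0, e0, e1, e2, -, -, -⟩ := trans_hyp hF hω hgk
  rw [h0] at e0
  rw [h1] at e1
  rw [h2] at e2
  obtain ⟨l, hl, hr⟩ := S.real s
  have hfr : Fr3 (E 1 : Fin 6 → F) (E 2) (a⁻¹ • E 0) := by
    refine fr3_smul S ?_ (inv_ne_zero ha0)
    have h4 := hyp_fr3 hb
    exact ⟨h4.vv, h4.ww, h4.uu, h4.vw, herm_eq_zero_swap hF h4.uv, herm_eq_zero_swap hF h4.uw,
      fun a b c habc => by
        have := h4.ind c a b (by rw [← habc]; module)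
        exact ⟨this.2.1, this.2.2, this.1⟩⟩
  have h3 := sev_conj S (Lt S hl) (sem_act s) hr hfr
  refine ⟨a⁻¹, inv_ne_zero ha0, ?_⟩
  rw [← h3, act_smul, e0, e1, e2, smul_smul, inv_mul_cancel₀ ha0, one_smul]

theorem main (hK : ∀ k ∈ K, k = 1 ∨ k = t) {n : G} (hn : Commute n t) (h : IsLin p n) : n ∈ L := by
  obtain ⟨ω, hω⟩ := exists_omega hF
  have hω0 : ω ≠ 0 := by rintro rfl; simp at hω
  have hω3 := omega_cubed hω
  have hb := hyp_std (F := F) hF hω
  obtain ⟨l, hl, ψ, a, ha0, hψ, ha, hE, hP⟩ := diag S hn h hω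
  have hlt : Commute (l * n) t := (Lt S hl).mul_left hn
  have hKL : ∀ k ∈ K, k ∈ L := by
    intro k hk
    rcases hK k hk with rfl | rfl
    · exact L.one_mem
    · exact S.tL
  have hfr : ∀ c : F, c ≠ 0 → Fr3 (E 1 : Fin 6 → F) (E 2) (c • E 0) := by
    intro c hc
    refine fr3_smul S ?_ hc
    have h4 := hyp_fr3 hb
    exact ⟨h4.vv, h4.ww, h4.uu, h4.vw, herm_eq_zero_swap hF h4.uv, herm_eq_zero_swap hF h4.uw,
      fun a b c habc => by
        have := h4.ind c a b (by rw [← habc]; module)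
        exact ⟨this.2.1, this.2.2, this.1⟩⟩
  by_cases ha1 : a = 1
  · -- `l n` centralizes `L`
    have h1 : l * n ∈ K := by
      refine mem_K S (Or.inl rfl) hψ ha fun v hv => ?_
      have h2 := Sem.ext hF hψ (sem_id (F := F)) hb (fun i => by rw [hE, ha1]; simp)
        (fun i => by rw [hP, ha1]; simp) v
      rw [h2]
      exact Pt.refl v
    have h2 := L.mul_mem (L.inv_mem hl) (hKL _ h1)
    rwa [inv_mul_cancel_left] at h2
  · exfalso
    -- all frames have the same product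
    have h1 : ∀ c : F, c ≠ 0 → Sev p (E 1 : Fin 6 → F) (E 2) ((a * c) • E 0) =
        Sev p (E 1 : Fin 6 → F) (E 2) (c • E 0) := by
      intro c hc
      have h2 := sev_conj S hlt hψ ha (hfr c hc)
      rw [hψ.smul, pow_one, hE, hE, hE, if_neg (by decide), if_neg (by decide), if_pos rfl,
        one_smul, one_smul, smul_smul, mul_comm c a] at h2
      exact h2
    have hroot : ∀ c : F, c ≠ 0 → c ≠ 1 → c ^ 2 + c + 1 = 0 := by
      intro c hc hc1
      have h3 := norm_one hF hc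
      have h4 : (c - 1) * (c ^ 2 + c + 1) = 0 := by linear_combination h3
      exact (mul_eq_zero.1 h4).resolve_left (sub_ne_zero.2 hc1)
    have haω := hroot a ha0 ha1
    have h3 := h1 1 one_ne_zero
    have h4 := h1 a ha0
    rw [mul_one, one_smul] at h3
    rw [← pow_two] at h4
    have h5 := three_classes S (hfr 1 one_ne_zero) haω
    simp only [one_smul] at h5
    rw [h4, h3] at h5
    have h6 : Sev p (E 1 : Fin 6 → F) (E 2) (E 0) = t := by
      have h7 := hfr 1 one_ne_zero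
      rw [one_smul] at h7
      rcases sev_mem S h7 with h8 | h8
      · exfalso
        rw [h8, one_mul, one_mul] at h5
        exact S.t1 h5.symm
      · exact h8
    have h7 : ∀ c : F, c ≠ 0 → Sev p (E 1 : Fin 6 → F) (E 2) (c • E 0) = t := by
      intro c hc
      by_cases hc1 : c = 1
      · rw [hc1, one_smul]; exact h6
      · rcases root_cases haω (hroot c hc hc1) with h8 | h8
        · rw [h8, h3]; exact h6
        · rw [h8, h4, h3]; exact h6
    obtain ⟨u, v, w, h8, h9⟩ := exists_one S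
    obtain ⟨c, hc, h10⟩ := sev_std S h8
    rw [h10, h7 c hc] at h9
    exact S.t1 h9

end S

end Cfsg.Agent.U62.LinL
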