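import Cfsg.Agent.U62.FusSq
import Cfsg.Agent.U62.KEq
import Cfsg.Agent.U62.LinL

/-!
Fusion, second part: the conjugates of `t` commuting with `t` are `t` and the labels.
-/

set_option autoImplicit false
set_option linter.unusedSectionVars false

namespace Cfsg.Agent.U62.Fus

open Cfsg Cfsg.Agent.LieClassical.HermBasic Cfsg.Agent.ClassicalGeometry.UnitTransv
open Cfsg.Agent.SporadicStructure.UnitTwo
open Cfsg.Agent.R01.PSUSix Cfsg.Agent.R01.InvForm
open Cfsg.Agent.R01.Frames (Hyp)
open Cfsg.Agent.R01.ComLabel (Iso)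
open Cfsg.Agent.U62.Semi Cfsg.Agent.U62.Semi2 Cfsg.Agent.U62.Sys Cfsg.Agent.U62.Basic
open Cfsg.Agent.U62.Lin Cfsg.Agent.U62.Outer Cfsg.Agent.U62.Seven

variable {G : Type*} [Group G] {F : Type*} [Field F] [Fintype F] {hF : Fintype.card F = 2 ^ 2}
variable {t : G} {L K : Subgroup G} {p : (Fin 6 → F) → G}

section S

variable (S : Sys hF t L K p)
include S

/-- The system at a conjugate of `t`. -/
theorem at_conj (hK : ∀ k ∈ K, k = 1 ∨ k = t) {y : G} (hy : IsConj t y) :
    ∃ (L' K' : Subgroup G) (p' : (Fin 6 → F) → G), Sys hF y L' K' p' ∧ (∀ k ∈ K', k = 1 ∨ k = y) ∧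
      ∀ v, IsConj (p v) (p' v) := by
  obtain ⟨g, rfl⟩ := isConj_iff.1 hy
  refine ⟨_, _, _, S.conjugate g, ?_, fun v => isConj_iff.2 ⟨g, rfl⟩⟩
  rintro _ ⟨k, hk, rfl⟩
  show g * k * g⁻¹ = 1 ∨ g * k * g⁻¹ = g * t * g⁻¹
  rcases hK k hk with rfl | rfl
  · left; group
  · right; rfl

theorem isConj_sq {x : G} (hx : IsConj t x) : x * x = 1 := by
  obtain ⟨g, rfl⟩ := isConj_iff.1 hx
  calc g * t * g⁻¹ * (g * t * g⁻¹) = g * (t * t) * g⁻¹ := by group
    _ = 1 := by rw [S.tt]; group

theorem isConj_ne {x : G} (hx : IsConj t x) : x ≠ 1 := by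
  rintro rfl
  exact S.t1 (isConj_one_left.1 hx)

/-- The conjugates of `t` in `L`. -/
theorem cases_L (hK : ∀ k ∈ K, k = 1 ∨ k = t) {x : G} (hx : IsConj t x) (hxL : x ∈ L) :
    x = t ∨ (∃ v, Iso F v ∧ x = p v) ∨
      ∃ u v w c₀, Fr3 u v w ∧ (c₀ = 1 ∨ c₀ = t) ∧ x = c₀ * (p u * p v * p w) := by
  obtain ⟨c₀, hc, h⟩ := S.invf x hxL (Or.inl (isConj_sq S hx))
  rcases h with h | ⟨u, hu, h⟩ | ⟨u, v, hf, h⟩ | ⟨u, v, w, hf, h⟩
  · rcases hc with rfl | rfl
    · exact (isConj_ne S hx h).elim
    · exact Or.inl h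
  · rcases hc with rfl | rfl
    · exact Or.inr (Or.inl ⟨u, hu, by rw [h, one_mul]⟩)
    · rw [h] at hx
      exact (FusSq.one_z S hK hu hx).elim
  · rw [h] at hx
    exact (FusSq.two S hK hf hc hx).elim
  · exact Or.inr (Or.inr ⟨u, v, w, c₀, hf, hc, h⟩)

theorem conj_c0 {c₀ l y : G} (hc : c₀ = 1 ∨ c₀ = t) (hl : l ∈ L) :
    l * (c₀ * y) * l⁻¹ = c₀ * (l * y * l⁻¹) := by
  have : Commute l c₀ := by
    rcases hc with rfl | rfl
    · exact Commute.one_right l
    · exact Lt S hl
  calc l * (c₀ * y) * l⁻¹ = (l * c₀) * y * l⁻¹ := by group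
    _ = _ := by rw [this.eq]; group

/-- All involutions of rank three are conjugate. -/
theorem rk3_all {u v w : Fin 6 → F} {c₀ : G} (h : Fr3 u v w) (hc : c₀ = 1 ∨ c₀ = t)
    (hx : IsConj t (c₀ * (p u * p v * p w))) {u' v' w' : Fin 6 → F} {c' : G} (h' : Fr3 u' v' w')
    (hc' : c' = 1 ∨ c' = t) : IsConj t (c' * (p u' * p v' * p w')) := by
  have h1 : IsConj t (c₀ * (p u' * p v' * p w')) := by
    obtain ⟨l, hl, e1, e2, e3⟩ := trans3 S h h'
    refine hx.trans (isConj_iff.2 ⟨l, ?_⟩)
    rw [conj_c0 S hc hl, ← e1, ← e2, ← e3]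
    group
  obtain ⟨g, hg, e⟩ := S.conj3 u' v' w' h'
  have h2 : IsConj (p u' * p v' * p w') (t * (p u' * p v' * p w')) := isConj_iff.2 ⟨g, e⟩
  rcases hc with rfl | rfl <;> rcases hc' with rfl | rfl
  · exact h1
  · rw [one_mul] at h1; exact h1.trans h2
  · rw [one_mul]; exact h1.trans h2.symm
  · exact h1

theorem conj_lin {l n : G} (hl : Commute l t) (hn : Commute n t) (h : IsLin p n) :
    IsLin p (l * n * l⁻¹) := by
  rcases lin_or S ((hl.mul_left hn).mul_left hl.inv_left) with h1 | h1
  · exact h1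
  exfalso
  have e : l * n * l⁻¹ * l = l * n := by group
  rcases lin_or S hl with h2 | h2
  · have h3 := slin_mul_lin S h1 h2
    rw [e] at h3
    exact not_both S (hl.mul_left hn) (lin_mul S h2 h) h3
  · have h3 := slin_mul_slin S h1 h2
    rw [e] at h3
    exact not_both S (hl.mul_left hn) h3 (slin_mul_lin S h2 h)

theorem fr3_rot {u v w : Fin 6 → F} (h : Fr3 u v w) : Fr3 v w u :=
  ⟨h.vv, h.ww, h.uu, h.vw, herm_eq_zero_swap hF h.uv, herm_eq_zero_swap hF h.uw,
    fun a b c habc => by
      have := h.ind c a b (by rw [← habc]; module)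
      exact ⟨this.2.1, this.2.2, this.1⟩⟩

theorem fr3_shift {u v w : Fin 6 → F} (h : Fr3 u v w) (c : F) : Fr3 u v (c • u + w) := by
  refine ⟨h.uu, h.vv, ?_, h.uv, ?_, ?_, fun a b d habd => ?_⟩
  · rw [herm_add_left, herm_add_right hF, herm_add_right hF, herm_smul_left, herm_smul_left,
      herm_smul_right, herm_smul_right, h.uu, h.uw, h.ww, herm_eq_zero_swap hF h.uw]
    ring
  · rw [herm_add_right hF, herm_smul_right, h.uu, h.uw]; ring
  · rw [herm_add_right hF, herm_smul_right, h.vw, herm_eq_zero_swap hF h.uv]; ring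
  · have := h.ind (a + d * c) b d (by rw [← habd]; module)
    obtain ⟨h1, h2, h3⟩ := this
    rw [h3, zero_mul, add_zero] at h1
    exact ⟨h1, h2, h3⟩

/-- No involution of rank three is conjugate to `t`. -/
theorem no_rk3 (hK : ∀ k ∈ K, k = 1 ∨ k = t) {u v w : Fin 6 → F} {c₀ : G} (h : Fr3 u v w)
    (hc : c₀ = 1 ∨ c₀ = t) (hx : IsConj t (c₀ * (p u * p v * p w))) : False := by
  have hall := fun {u' v' w' : Fin 6 → F} {c' : G} (h' : Fr3 u' v' w') (hc' : c' = 1 ∨ c' = t) =>
    rk3_all S h hc hx h' hc'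
  have hy := hall h (Or.inl (rfl : (1 : G) = 1))
  rw [one_mul] at hy
  have hu := Fr3.isou h
  have hv := Fr3.isov h
  have hw := Fr3.isow h
  have cuv := pcomm S hu hv h.uv
  have cuw := pcomm S hu hw h.uw
  have cvw := pcomm S hv hw h.vw
  obtain ⟨y, hydef⟩ : ∃ y, y = p u * p v * p w := ⟨_, rfl⟩
  rw [← hydef] at hy
  have cu : Commute (p u) y := by
    rw [hydef]; exact ((Commute.refl _).mul_right cuv).mul_right cuw
  have cv : Commute (p v) y := by
    rw [hydef]; exact (cuv.symm.mul_right (Commute.refl _)).mul_right cvw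
  have cw : Commute (p w) y := by
    rw [hydef]; exact (cuw.symm.mul_right cvw.symm).mul_right (Commute.refl _)
  have ct : Commute t y := by
    rw [hydef]; exact (((pt S hu).mul_left (pt S hv)).mul_left (pt S hw)).symm
  obtain ⟨L', K', p', S', hK', hpp⟩ := at_conj S hK hy
  -- the three labels are linear at `y`
  obtain ⟨l, hl, e1, e2, e3⟩ := trans3 S h (fr3_rot S h)
  have cl : Commute l y := by
    have : l * y * l⁻¹ = y := by
      have h1 : l * y * l⁻¹ = (l * p u * l⁻¹) * (l * p v * l⁻¹) * (l * p w * l⁻¹) := by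
        rw [hydef]; group
      rw [h1, e1, e2, e3, hydef]
      calc p v * p w * p u = p v * (p w * p u) := by group
        _ = p v * (p u * p w) := by rw [cuw.eq]
        _ = (p v * p u) * p w := by group
        _ = _ := by rw [cuv.symm.eq]
    exact mul_inv_eq_iff_eq_mul.1 this
  have luv : IsLin p' (p u) → IsLin p' (p v) := fun h1 => by
    rw [← e1]; exact conj_lin S' cl cu h1
  have lvw : IsLin p' (p v) → IsLin p' (p w) := fun h1 => by
    rw [← e2]; exact conj_lin S' cl cv h1
  have lwu : IsLin p' (p w) → IsLin p' (p u) := fun h1 => by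
    rw [← e3]; exact conj_lin S' cl cw h1
  have hlu : IsLin p' (p u) := by
    rcases lin_or S' cu with h1 | h1
    · exact h1
    exfalso
    have h2 : IsSLin p' (p v) := (lin_or S' cv).resolve_left fun h3 =>
      not_both S' cu (lwu (lvw h3)) h1
    have h3 : IsSLin p' (p w) := (lin_or S' cw).resolve_left fun h4 =>
      not_both S' cu (lwu h4) h1
    have h4 := lin_mul_slin S' (slin_mul_slin S' h1 h2) h3
    rw [← hydef] at h4
    exact not_both S' (Commute.refl y) (lin_K S' S'.tK) h4
  have hlv := luv hlu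
  have hlw := lvw hlv
  have huL := LinL.main S' hK' cu hlu
  have hvL := LinL.main S' hK' cv hlv
  have hwL := LinL.main S' hK' cw hlw
  -- members of `D` of rank three at `y`
  have rk3 : ∀ z, IsConj t z → (∃ a b c c', Fr3 a b c ∧ (c' = 1 ∨ c' = y) ∧
      z = c' * (p' a * p' b * p' c)) → IsConj t (y * z) := by
    rintro z hz ⟨a, b, c, c', hf, hc', rfl⟩
    refine hy.trans ?_
    have h1 : IsConj y (c' * (p' a * p' b * p' c)) := hy.symm.trans hz
    rcases hc' with rfl | rfl
    · have := rk3_all S' hf (Or.inl rfl) h1 hf (Or.inr (rfl : y = y))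
      rwa [one_mul]
    · have := rk3_all S' hf (Or.inr rfl) h1 hf (Or.inl (rfl : (1 : G) = 1))
      rwa [← mul_assoc, S'.tt]
  by_cases hA : ∃ q, Iso F q ∧ IsConj t (p q)
  · -- Case A
    obtain ⟨q, hq, hqt⟩ := hA
    have hD : ∀ q', Iso F q' → IsConj t (p q') := fun q' hq' => by
      obtain ⟨l, hl, e⟩ := trans1 S hq hq'
      exact hqt.trans (isConj_iff.2 ⟨l, e⟩)
    have key : ∀ a b c, Iso F a → Fr2 b c → Commute (p a) y → p a ∈ L' →
        y * p a = p b * p c → ∃ x, Iso F x ∧ p a = p' x := by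
      intro a b c ha hbc hca haL hya
      rcases cases_L S' hK' (hy.symm.trans (hD a ha)) haL with h1 | h1 | ⟨a', b', c', d, hf, hd, h1⟩
      · exfalso
        rw [h1, S'.tt] at hya
        have h2 := eq_inv_of_mul_eq_one_left hya.symm
        rw [pinv S (Fr2.isov hbc)] at h2
        exact Fr2.not_pt hbc (S.inj _ _ (Fr2.isou hbc) (Fr2.isov hbc) h2)
      · exact h1
      · exfalso
        have h2 := rk3 _ (hD a ha) ⟨a', b', c', d, hf, hd, h1⟩
        rw [hya, ← one_mul (p b * p c)] at h2
        exact FusSq.two S hK hbc (Or.inl rfl) h2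
    have squ := S.sq u hu
    have sqv := S.sq v hv
    have sqw := S.sq w hw
    obtain ⟨a, ha, hua⟩ := key u v w hu ⟨h.vv, h.ww, h.vw, fun a b hab => by
      have := h.ind 0 a b (by rw [← hab]; module)
      exact this.2⟩ cu huL (by
      rw [← cu.eq, hydef]
      calc p u * (p u * p v * p w) = (p u * p u) * p v * p w := by group
        _ = _ := by rw [squ, one_mul])
    obtain ⟨b, hb, hvb⟩ := key v u w hv ⟨h.uu, h.ww, h.uw, fun a b hab => by
      have := h.ind a 0 b (by rw [← hab]; module)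
      exact ⟨this.1, this.2.2⟩⟩ cv hvL (by
      rw [← cv.eq, hydef]
      calc p v * (p u * p v * p w) = p v * (p u * p v) * p w := by group
        _ = p v * (p v * p u) * p w := by rw [cuv.eq]
        _ = (p v * p v) * p u * p w := by group
        _ = _ := by rw [sqv, one_mul])
    obtain ⟨c, hc', hwc⟩ := key w u v hw h.fr2 cw hwL (by
      rw [hydef]
      calc p u * p v * p w * p w = p u * p v * (p w * p w) := by group
        _ = _ := by rw [sqw, mul_one])
    have o1 := (S'.comm_iff a b ha hb).1 (by rw [← hua, ← hvb]; exact cuv)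
    have o2 := (S'.comm_iff a c ha hc').1 (by rw [← hua, ← hwc]; exact cuw)
    have o3 := (S'.comm_iff b c hb hc').1 (by rw [← hvb, ← hwc]; exact cvw)
    refine (S'.triple a b c ha hb hc' o1 o2 o3).2 ?_
    rw [← hua, ← hvb, ← hwc, hydef]
  · -- Case B
    push Not at hA
    obtain ⟨ω, hω⟩ := exists_omega hF
    have hA' : ∀ q, Iso F q → ¬ IsConj t (p' q) := fun q hq h1 =>
      hA q hq (h1.trans (hpp q).symm)
    obtain ⟨f, hf⟩ : ∃ f : F → G, ∀ c, f c = p (c • u + w) := ⟨_, fun _ => rfl⟩
    have hfr : ∀ c, Fr3 u v (c • u + w) := fun c => fr3_shift S h c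
    have hi : ∀ c, Iso F (c • u + w) := fun c => Fr3.isow (hfr c)
    have cfu : ∀ c, Commute (p u) (f c) := fun c => by
      rw [hf]; exact pcomm S hu (hi c) (hfr c).uw
    have cfv : ∀ c, Commute (p v) (f c) := fun c => by
      rw [hf]; exact pcomm S hv (hi c) (hfr c).vw
    have cfw : ∀ c, Commute (f c) (p w) := fun c => by
      rw [hf]
      refine pcomm S (hi c) hw ?_
      rw [herm_add_left, herm_smul_left, h.uw, h.ww]; ring
    have cfy : ∀ c, Commute (f c) y := fun c => by
      rw [hydef]; exact ((cfu c).symm.mul_right (cfv c).symm).mul_right (cfw c)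
    have cty : ∀ c, Commute t (f c) := fun c => by rw [hf]; exact (pt S (hi c)).symm
    have hsl : ∀ c d, c ≠ 0 → (d = 1 ∨ d = t) → IsSLin p' (d * (p u * p v * f c)) := by
      intro c d hc0 hd
      have cd : Commute d y := by
        rcases hd with rfl | rfl
        · exact Commute.one_left y
        · exact ct
      have cz : Commute (d * (p u * p v * f c)) y :=
        cd.mul_left ((cu.mul_left cv).mul_left (cfy c))
      refine (lin_or S' cz).resolve_left fun h1 => ?_
      have hzL := LinL.main S' hK' cz h1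
      have hzD : IsConj t (d * (p u * p v * f c)) := by rw [hf]; exact hall (hfr c) hd
      have hyz : y * (d * (p u * p v * f c)) = d * (p w * f c) := by
        rw [hydef]
        have cdw : ∀ x, Commute x t → Commute x d := fun x hx => by
          rcases hd with rfl | rfl
          · exact Commute.one_right x
          · exact hx
        have k1 : Commute (p u * p v * p w) d :=
          cdw _ (((pt S hu).mul_left (pt S hv)).mul_left (pt S hw))
        have k2 : Commute (p u * p v) (p w) := cuw.mul_left cvw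
        have k3 : p u * p v * (p u * p v) = 1 := KEq.comm_sq cuv (S.sq u hu) (S.sq v hv)
        calc p u * p v * p w * (d * (p u * p v * f c))
            = (p u * p v * p w * d) * (p u * p v) * f c := by group
          _ = (d * (p u * p v * p w)) * (p u * p v) * f c := by rw [k1.eq]
          _ = d * (p u * p v) * (p w * (p u * p v)) * f c := by group
          _ = d * (p u * p v) * ((p u * p v) * p w) * f c := by rw [k2.eq]
          _ = d * (p u * p v * (p u * p v)) * p w * f c := by group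
          _ = _ := by rw [k3]; group
      have hfr2 : Fr2 w (c • u + w) := by
        refine ⟨h.ww, (hi c).2, ?_, fun a b hab => ?_⟩
        · rw [herm_add_right hF, herm_smul_right, h.ww, herm_eq_zero_swap hF h.uw]; ring
        · have := h.ind (b * c) 0 (a + b) (by rw [← hab]; module)
          have hb0 := (mul_eq_zero.1 this.1).resolve_right hc0
          refine ⟨?_, hb0⟩
          have h2 := this.2.2
          rwa [hb0, add_zero] at h2
      have hno : ¬ IsConj t (y * (d * (p u * p v * f c))) := by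
        rw [hyz, hf]
        exact FusSq.two S hK hfr2 hd
      rcases cases_L S' hK' (hy.symm.trans hzD) hzL with h2 | ⟨x, hx', h2⟩ | h2
      · have h3 : d * (p w * f c) = 1 := by rw [← hyz, h2, S'.tt]
        have h4 : p w * f c = d := by
          have h5 := eq_inv_of_mul_eq_one_right h3
          rw [h5]
          rcases hd with rfl | rfl
          · exact inv_one
          · exact inv_eq_of_mul_eq_one_left S.tt
        rcases hd with rfl | rfl
        · have h5 := eq_inv_of_mul_eq_one_left h4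
          rw [hf, pinv S (hi c)] at h5
          exact Fr2.not_pt hfr2 (S.inj _ _ hw (hi c) h5)
        · rw [hf] at h4
          have h5 := S.LK _ (L.mul_mem (S.pL _ hw) (S.pL _ (hi c)))
          -- `p w * p (c u + w) = t` acts trivially
          have h6 : Commute (p w * p (c • u + w)) (p w) := by rw [h4]; exact (pt S hw).symm
          obtain ⟨g, k, hgk, g0, g1⟩ := ext2 hF hfr2
          have h7 : Commute (p w * p (c • u + w)) (p (k 0)) := by
            rw [h4]; exact (pt S (hyp_iso_k hF hgk 0)).symm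
          have h8 := comm_two S hfr2 (hyp_iso_k hF hgk 0) h7.symm
          rw [← g0, hgk.kg hF, if_pos rfl] at h8
          exact one_ne_zero h8.1
      · apply hA' x hx'
        rw [← h2]; exact hzD
      · obtain ⟨a, b, c', d', hf', hd', h3⟩ := h2
        exact hno (rk3 _ hzD ⟨a, b, c', d', hf', hd', h3⟩)
    have hω0 : ω ≠ 0 := by rintro rfl; simp at hω
    have n1 : (1 : F) ≠ 0 := one_ne_zero
    -- `t` is linear at `y`
    have htl : IsLin p' t := by
      refine (lin_or S' ct).resolve_right fun h1 => ?_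
      have h2 := hsl 1 1 n1 (Or.inl rfl)
      have h3 := hsl 1 t n1 (Or.inr rfl)
      rw [one_mul] at h2
      exact not_both S' (ct.mul_left ((cu.mul_left cv).mul_left (cfy 1))) (slin_mul_slin S' h1 h2) h3
    have y0 := hsl 1 1 n1 (Or.inl rfl)
    have y1 := hsl ω 1 hω0 (Or.inl rfl)
    have y2 := hsl (ω ^ 2) 1 (pow_ne_zero 2 hω0) (Or.inl rfl)
    rw [one_mul] at y0 y1 y2
    have h1 := lin_mul_slin S' (slin_mul_slin S' y0 y1) y2
    have hfr2 : Fr2 u w := ⟨h.uu, h.ww, h.uw, fun a b hab => by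
      have := h.ind a 0 b (by rw [← hab]; module)
      exact ⟨this.1, this.2.2⟩⟩
    have hline := S.line u w hfr2 ω hω
    rw [← hf, ← hf, show p (u + w) = f 1 by rw [hf, one_smul]] at hline
    have h2 : p u * p v * f 1 * (p u * p v * f ω) * (p u * p v * f (ω ^ 2)) = t * (p v * p w) := by
      have k0 : p u * p v * (p u * p v) = 1 := KEq.comm_sq cuv (S.sq u hu) (S.sq v hv)
      have k1 : ∀ c, Commute (f c) (p u * p v) := fun c => (cfu c).symm.mul_right (cfv c).symm
      have k2 : f 1 * f ω * f (ω ^ 2) = p u * p w * t := by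
        rw [← hline]
        have squ := S.sq u hu
        have sqw := S.sq w hw
        calc f 1 * f ω * f (ω ^ 2) = (p u * p u) * (p w * p w) * (f 1 * f ω * f (ω ^ 2)) := by
              rw [squ, sqw]; group
          _ = p u * (p u * p w) * p w * (f 1 * f ω * f (ω ^ 2)) := by group
          _ = p u * (p w * p u) * p w * (f 1 * f ω * f (ω ^ 2)) := by rw [cuw.eq]
          _ = p u * p w * (p u * p w * f 1 * f ω * f (ω ^ 2)) := by group
      calc p u * p v * f 1 * (p u * p v * f ω) * (p u * p v * f (ω ^ 2))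
          = p u * p v * (f 1 * (p u * p v)) * f ω * (p u * p v * f (ω ^ 2)) := by group
        _ = p u * p v * (p u * p v) * (f 1 * (f ω * (p u * p v)) * f (ω ^ 2)) := by
          rw [(k1 1).eq]; group
        _ = f 1 * (p u * p v) * f ω * f (ω ^ 2) := by rw [k0, (k1 ω).eq]; group
        _ = p u * p v * (f 1 * f ω * f (ω ^ 2)) := by rw [(k1 1).eq]; group
        _ = (p u * p v) * p u * p w * t := by rw [k2]; group
        _ = (p v * p u) * p u * p w * t := by rw [cuv.eq]
        _ = p v * (p u * p u) * p w * t := by group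
        _ = p v * p w * t := by rw [S.sq u hu]; group
        _ = _ := ((pt S hv).mul_left (pt S hw)).eq
    rw [h2] at h1
    exact not_both S' (ct.mul_left (cv.mul_left cw)) (lin_mul S' htl (lin_mul S' hlv hlw)) h1

/-- The conjugates of `t` in `L` are `t` and labels. -/
theorem inner (hK : ∀ k ∈ K, k = 1 ∨ k = t) {x : G} (hx : IsConj t x) (hxL : x ∈ L) :
    x = t ∨ ∃ v, Iso F v ∧ x = p v := by
  rcases cases_L S hK hx hxL with h | h | ⟨u, v, w, c₀, hf, hc, rfl⟩
  · exact Or.inl h
  · exact Or.inr h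
  · exact (no_rk3 S hK hf hc hx).elim

theorem mem_L (hK : ∀ k ∈ K, k = 1 ∨ k = t) {x : G} (hx : IsConj t x) (hxt : Commute x t) :
    x ∈ L := by
  rcases lin_or S hxt with h | h
  · exact LinL.main S hK hxt h
  exfalso
  obtain ⟨w, hw, hw1, hy, hprod, hcomm⟩ := Outer.outer S hxt (isConj_sq S hx) h
  obtain ⟨L', K', p', S', hK', -⟩ := at_conj S hK hx
  have hwx : ∀ i, Commute (w i) x := fun i => odd3_commute (hw i)
  have key : ∀ i, ∃ a, Iso F a ∧ x * w i = p' a := by
    intro i
    obtain ⟨y, hy⟩ := hy i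
    have h1 : IsConj x (x * w i) := isConj_iff.2 ⟨y, hy.symm⟩
    have h2 : Commute (x * w i) x := (Commute.refl x).mul_left (hwx i)
    have h3 := LinL.main S' hK' h2 (lin_mul S' (lin_K S' S'.tK) (odd3_lin S' (hw i)))
    rcases inner S' hK' h1 h3 with h4 | h4
    · exact (hw1 i (mul_eq_left.1 h4)).elim
    · exact h4
  choose a ha hxa using key
  have hcc : ∀ i j, Commute (x * w i) (x * w j) := fun i j =>
    (((Commute.refl x).mul_right (hwx j).symm)).mul_left ((hwx i).mul_right (hcomm i j))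
  have ho : ∀ i j, hermForm 6 F 2 (a i) (a j) = 0 := fun i j =>
    (S'.comm_iff _ _ (ha i) (ha j)).1 (by rw [← hxa, ← hxa]; exact hcc i j)
  refine (S'.triple (a 0) (a 1) (a 2) (ha 0) (ha 1) (ha 2) (ho _ _) (ho _ _) (ho _ _)).2 ?_
  rw [← hxa, ← hxa, ← hxa]
  have hxx := isConj_sq S hx
  calc x * w 0 * (x * w 1) * (x * w 2) = x * (w 0 * x) * w 1 * x * w 2 := by group
    _ = x * (x * w 0) * w 1 * x * w 2 := by rw [(hwx 0).eq]
    _ = (x * x) * w 0 * (w 1 * x) * w 2 := by group
    _ = w 0 * (x * w 1) * w 2 := by rw [hxx, (hwx 1).eq]; group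
    _ = (w 0 * x) * w 1 * w 2 := by group
    _ = x * (w 0 * w 1 * w 2) := by rw [(hwx 0).eq]; group
    _ = x := by rw [hprod, mul_one]

/-- Fusion: the conjugates of `t` commuting with `t`. -/
theorem main (hK : ∀ k ∈ K, k = 1 ∨ k = t) (hs : ∃ s, IsConj t s ∧ Commute s t ∧ s ≠ t) :
    (∀ x, IsConj t x → Commute x t → x = t ∨ ∃ v, Iso F v ∧ x = p v) ∧
      ∀ v, Iso F v → IsConj t (p v) := by
  have h1 : ∀ x, IsConj t x → Commute x t → x = t ∨ ∃ v, Iso F v ∧ x = p v := fun x hx hxt =>
    inner S hK hx (mem_L S hK hx hxt)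
  refine ⟨h1, fun v hv => ?_⟩
  obtain ⟨s, hs1, hs2, hs3⟩ := hs
  obtain ⟨a, ha, rfl⟩ := (h1 s hs1 hs2).resolve_left hs3
  obtain ⟨l, -, e⟩ := trans1 S ha hv
  exact hs1.trans (isConj_iff.2 ⟨l, e⟩)

end S

end Cfsg.Agent.U62.Fus
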