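import Cfsg.Agent.U62.Start
import Cfsg.Agent.U62.Fus
import Cfsg.Agent.U62.Cent
import Cfsg.Agent.S1713
import Cfsg.Agent.LieClassical.FieldTransfer

set_option autoImplicit false

namespace Cfsg.Agent.U62.Top

open Cfsg

theorem main {G : Type*} [Group G] [Finite G] [IsSimpleGroup G] (hG : ¬ IsMulCommutative G)
    (hbal : ∀ t : G, orderOf t = 2 → Cfsg.centralizerPPrimeCore 2 t = ⊥)
    {L : Subgroup G} (hL : Cfsg.IsStandardSubgroup L)
    {E : Type*} [Field E] [Fintype E] (hE : Fintype.card E = 4)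
    (hZ : Nat.card (Subgroup.center L) = 2) (e : L ⧸ Subgroup.center L ≃* PSU 6 E 2) :
    Cfsg.Spor.IsoFi22 G := by
  have hF : Fintype.card E = 2 ^ 2 := by rw [hE]; norm_num
  obtain ⟨t, K, p, S, hK, hs⟩ := Start.start hG hF hL hZ e hbal
  obtain ⟨hD, hp⟩ := Fus.main S hK hs
  have hC : Subgroup.centralizer ({t} : Set G) = L := by
    apply le_antisymm
    · intro x hx
      exact Cent.mem_L hG S hK hD hp (Subgroup.mem_centralizer_singleton_iff.1 hx)
    · intro l hl
      exact Subgroup.mem_centralizer_singleton_iff.2 (Basic.Lt S hl)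
  have hot : orderOf t = 2 := StandardComponent.StdCtx.orderOf_two S.t1 S.tt
  have : Fact (Nat.Prime 2) := ⟨Nat.prime_two⟩
  let _ : Fintype (GaloisField 2 2) := Fintype.ofFinite _
  have hcard : Fintype.card (GaloisField 2 2) = 4 := by
    rw [← Nat.card_eq_fintype_card, GaloisField.card 2 2 (by norm_num)]
    norm_num
  have hee : Nonempty (E ≃+* GaloisField 2 2) := by
    refine ⟨FiniteField.ringEquivOfCardEq ?_⟩
    rw [hcard, hE]
  obtain ⟨r⟩ := hee
  have hcen : Subgroup.center L = (Subgroup.zpowers t).subgroupOf L := by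
    ext x
    rw [Subgroup.mem_center_iff, Subgroup.mem_subgroupOf]
    constructor
    · intro h
      have h1 : (x : G) ∈ K := S.ker _ fun v hv =>
        (congrArg Subtype.val (h ⟨p v, S.pL v hv⟩) : p v * (x : G) = x * p v).symm
      rcases hK _ h1 with h2 | h2
      · rw [h2]; exact Subgroup.one_mem _
      · rw [h2]; exact Subgroup.mem_zpowers t
    · intro h g
      obtain ⟨i, hi⟩ := Subgroup.mem_zpowers_iff.1 h
      apply Subtype.ext
      have h1 : Commute (g : G) (t ^ i) := (Basic.Lt S g.2).zpow_right i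
      rw [hi] at h1
      exact h1.eq
  subst hC
  have hnorm : ((Subgroup.zpowers t).subgroupOf (Subgroup.centralizer ({t} : Set G))).Normal := by
    rw [← hcen]; infer_instance
  obtain ⟨s, hs1, hs2, hs3⟩ := hs
  obtain ⟨g, rfl⟩ := isConj_iff.1 hs1
  exact Cfsg.Agent.S1713.result t hot hL.1 (GaloisField 2 2) hcard
    (((QuotientGroup.quotientMulEquivOfEq hcen).symm.trans e).trans
      (Cfsg.Agent.LieClassical.FieldTransfer.psuCongr 6 2 r))
    ⟨g, Subgroup.mem_centralizer_singleton_iff.2 hs2, hs3⟩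

end Cfsg.Agent.U62.Top
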