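import Cfsg.Agent.U62.KEq
import Cfsg.Agent.StandardComponent.StdCtx

/-!
A standard subgroup `L` with `|Z(L)| = 2` and `L / Z(L)` isomorphic to `PSU(6, 2)`: the local situation, and
`C_G(L) = Z(L)`.
-/

set_option autoImplicit false
set_option linter.unusedSectionVars false

namespace Cfsg.Agent.U62.Start

open Cfsg
open Cfsg.Agent.StandardComponent.StdCtx
open Cfsg.Agent.U62.Sys Cfsg.Agent.U62.KEq

variable {G : Type*} [Group G] {F : Type*} [Field F] [Fintype F] {L : Subgroup G}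

/-- The local situation of a standard subgroup. -/
theorem exists_std [Finite G] (hF : Fintype.card F = 2 ^ 2) (hL : Cfsg.IsStandardSubgroup L)
    (e : L ⧸ Subgroup.center L ≃* PSU 6 F 2)
    (hbal : ∀ t : G, orderOf t = 2 → Cfsg.centralizerPPrimeCore 2 t = ⊥)
    {t : G} (ht1 : t ≠ 1) (ht2 : t * t = 1) (htL : t ∈ L) (htK : t ∈ Subgroup.centralizer (L : Set G))
    (hLK : ∀ x ∈ L, x ∈ Subgroup.centralizer (L : Set G) → x = 1 ∨ x = t) :
    ∃ p : (Fin 6 → F) → G, Std hF t L (Subgroup.centralizer (L : Set G)) p := by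
  have hot : orderOf t = 2 := orderOf_two ht1 ht2
  have hCN : ∀ x, Commute x t → x ∈ Subgroup.normalizer (L : Set G) := fun x hx =>
    (Cfsg.Agent.S1754.result L hL t hot htK).1 (Subgroup.mem_centralizer_singleton_iff.2 hx)
  have hLn : ∀ n, Commute n t → ∀ l ∈ L, n * l * n⁻¹ ∈ L := fun n hn l hl =>
    (Subgroup.mem_normalizer_iff.1 (hCN n hn) l).1 hl
  have hKn : ∀ n ∈ Subgroup.normalizer (L : Set G), ∀ k ∈ Subgroup.centralizer (L : Set G),
      n * k * n⁻¹ ∈ Subgroup.centralizer (L : Set G) := by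
    intro n hn k hk
    rw [hL.2.2.2] at hn
    exact (Subgroup.mem_normalizer_iff.1 hn k).1 hk
  have hNC : ∀ x, x ∈ Subgroup.normalizer (L : Set G) → Commute x t := by
    intro x hx
    have h1 : x * t * x⁻¹ ∈ L := (Subgroup.mem_normalizer_iff.1 hx t).1 htL
    have h2 := hKn x hx t htK
    rcases hLK _ h1 h2 with h3 | h3
    · exfalso
      apply ht1
      have : t = x⁻¹ * (x * t * x⁻¹) * x := by group
      rw [this, h3]; group
    · exact mul_inv_eq_iff_eq_mul.1 h3
  obtain ⟨p, S⟩ := exists_sys hF hL.1.1.commutator_eq_top e ht1 ht2 htL htK hLK hLn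
  refine ⟨p, S, ?_, ?_, ?_⟩
  · intro v hv hvv hv1 c hc
    exact hNC c ((Cfsg.Agent.S1754.result L hL v (orderOf_two hv1 hvv) hv).1
      (Subgroup.mem_centralizer_singleton_iff.2 hc))
  · intro h hh v hv hvv hvh
    by_contra hv1
    have hn : h ∉ Subgroup.normalizer (Subgroup.centralizer (L : Set G) : Set G) := by
      rw [← hL.2.2.2]
      exact fun h' => hh (hNC h h')
    have hodd := hL.2.1.2 h hn
    have hmem : v ∈ Subgroup.centralizer (L : Set G) ⊓
        (Subgroup.centralizer (L : Set G)).map (MulAut.conj h).toMonoidHom :=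
      ⟨hv, KEq.mem_map.2 hvh⟩
    have h2 : 2 ∣ Nat.card ↥(Subgroup.centralizer (L : Set G) ⊓
        (Subgroup.centralizer (L : Set G)).map (MulAut.conj h).toMonoidHom) := by
      have := orderOf_dvd_natCard (⟨v, hmem⟩ : ↥(Subgroup.centralizer (L : Set G) ⊓
        (Subgroup.centralizer (L : Set G)).map (MulAut.conj h).toMonoidHom))
      rwa [← Subgroup.orderOf_coe, orderOf_two hv1 hvv] at this
    exact (Nat.not_even_iff_odd.2 hodd) (even_iff_two_dvd.2 h2)
  · intro N hNK hNn hodd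
    have hb := hbal t hot
    have hCle : N ≤ Subgroup.centralizer ({t} : Set G) := by
      intro n hn
      rw [Subgroup.mem_centralizer_singleton_iff]
      exact (S.comm t S.tL n (hNK hn)).symm
    have hnorm : (N.subgroupOf (Subgroup.centralizer ({t} : Set G))).Normal := by
      refine ⟨fun n hn g => ?_⟩
      rw [Subgroup.mem_subgroupOf] at hn ⊢
      exact hNn g (Subgroup.mem_centralizer_singleton_iff.1 g.2) n hn
    have hcop : (Nat.card (N.subgroupOf (Subgroup.centralizer ({t} : Set G)))).Coprime 2 := by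
      rw [Nat.card_congr (Subgroup.subgroupOfEquivOfLe hCle).toEquiv]
      exact Nat.coprime_two_right.2 hodd
    have hle : N.subgroupOf (Subgroup.centralizer ({t} : Set G)) ≤
        Cfsg.pPrimeCore 2 (Subgroup.centralizer ({t} : Set G)) := le_sSup ⟨hnorm, hcop⟩
    rw [eq_bot_iff, ← hb]
    intro n hn
    exact ⟨⟨n, hCle hn⟩, hle hn, rfl⟩

/-- The start: the local situation with `K = {1, t}`, and a conjugate of `t` commuting with `t`. -/
theorem start [Finite G] [IsSimpleGroup G] (hG : ¬ IsMulCommutative G)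
    (hF : Fintype.card F = 2 ^ 2) (hL : Cfsg.IsStandardSubgroup L)
    (hZ : Nat.card (Subgroup.center L) = 2) (e : L ⧸ Subgroup.center L ≃* PSU 6 F 2)
    (hbal : ∀ t : G, orderOf t = 2 → Cfsg.centralizerPPrimeCore 2 t = ⊥) :
    ∃ (t : G) (K : Subgroup G) (p : (Fin 6 → F) → G), Sys hF t L K p ∧ (∀ k ∈ K, k = 1 ∨ k = t) ∧
      ∃ s, IsConj t s ∧ Commute s t ∧ s ≠ t := by
  obtain ⟨t, ht1, ht2, htL, htK, hLK⟩ := exists_inv hZ
  obtain ⟨p, T⟩ := exists_std hF hL e hbal ht1 ht2 htL htK hLK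
  obtain ⟨h, h1, h2⟩ := fusion hG (orderOf_two ht1 ht2)
  exact ⟨t, _, p, T.S, fun k hk => K_eq T ⟨h, h1, h2⟩ k hk, h * t * h⁻¹,
    isConj_iff.2 ⟨h, rfl⟩, h1, h2⟩

end Cfsg.Agent.U62.Start
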