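import Cfsg.Agent.U62.Cent
import Cfsg.Agent.U62.Start
import Cfsg.Agent.LieClassical.FieldTransfer
import Cfsg.Agent.S1713

/-!
A simple group with a standard subgroup `2.U_6(2)` is `Fi22`, modulo the fusion statement.
-/

set_option autoImplicit false
set_option linter.unusedSectionVars false

namespace Cfsg.Agent.U62.Assemble

open Cfsg
open Cfsg.Agent.R01.ComLabel (Iso)
open Cfsg.Agent.U62.Sys

/-- The fusion statement. -/
def FusGoal {G : Type*} [Group G] {F : Type*} [Field F] [Fintype F] (hF : Fintype.card F = 2 ^ 2)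
    (L : Subgroup G) : Prop :=
  ∀ (t : G) (K : Subgroup G) (p : (Fin 6 → F) → G), Sys hF t L K p →
    (∀ k ∈ K, k = 1 ∨ k = t) → (∃ s, IsConj t s ∧ Commute s t ∧ s ≠ t) →
    (∀ x, IsConj t x → Commute x t → x = t ∨ ∃ v, Iso F v ∧ x = p v) ∧
      ∀ v, Iso F v → IsConj t (p v)

/-- Conclusion from `C_G(t) = L`. -/
theorem iso_of_centralizer {G : Type*} [Group G] [Finite G] {L : Subgroup G}
    (hL : Cfsg.IsStandardSubgroup L) (hZ : Nat.card (Subgroup.center L) = 2)
    {E : Type*} [Field E] [Fintype E] (hE : Fintype.card E = 4)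
    (e : L ⧸ Subgroup.center L ≃* PSU 6 E 2) {t : G} (tt : t * t = 1) (t1 : t ≠ 1)
    (hC : Subgroup.centralizer ({t} : Set G) = L) (hs : ∃ s, IsConj t s ∧ Commute s t ∧ s ≠ t) :
    Cfsg.Spor.IsoFi22 G := by
  classical
  subst hC
  have ht : orderOf t = 2 := orderOf_eq_prime (by rw [pow_two, tt]) t1
  have hle : Subgroup.zpowers t ≤ Subgroup.centralizer ({t} : Set G) := by
    rw [Subgroup.zpowers_le, Subgroup.mem_centralizer_singleton_iff]
  have hz : (Subgroup.zpowers t).subgroupOf (Subgroup.centralizer ({t} : Set G)) =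
      Subgroup.center (Subgroup.centralizer ({t} : Set G)) := by
    apply Subgroup.eq_of_le_of_card_ge
    · intro x hx
      rw [Subgroup.mem_subgroupOf] at hx
      rw [Subgroup.mem_center_iff]
      intro y
      apply Subtype.ext
      obtain ⟨k, hk⟩ := Subgroup.mem_zpowers_iff.1 hx
      have h1 : Commute (y : G) t := Subgroup.mem_centralizer_singleton_iff.1 y.2
      have h2 := h1.zpow_right k
      rw [hk] at h2
      exact h2.eq
    · rw [hZ, Nat.card_congr (Subgroup.subgroupOfEquivOfLe hle).toEquiv, Nat.card_zpowers, ht]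
  haveI hn : ((Subgroup.zpowers t).subgroupOf (Subgroup.centralizer ({t} : Set G))).Normal := by
    rw [hz]; infer_instance
  let _ : Fintype (GaloisField 2 2) := Fintype.ofFinite _
  have h4 : Fintype.card (GaloisField 2 2) = 4 := by
    rw [← Nat.card_eq_fintype_card, GaloisField.card 2 2 (by norm_num)]
    norm_num
  obtain ⟨s, hts, hst, hne⟩ := hs
  obtain ⟨g, hg⟩ := isConj_iff.1 hts
  exact Cfsg.Agent.S1713.result t ht hL.1 (GaloisField 2 2) h4
    (((QuotientGroup.quotientMulEquivOfEq hz).trans e).trans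
      (Cfsg.Agent.LieClassical.FieldTransfer.psuCongr 6 2
        (FiniteField.ringEquivOfCardEq (hE.trans h4.symm))))
    ⟨g, by rw [hg]; exact Subgroup.mem_centralizer_singleton_iff.2 hst, by rw [hg]; exact hne⟩

theorem main {G : Type*} [Group G] [Finite G] [IsSimpleGroup G] (hG : ¬ IsMulCommutative G)
    (hbal : ∀ t : G, orderOf t = 2 → Cfsg.centralizerPPrimeCore 2 t = ⊥)
    {L : Subgroup G} (hL : Cfsg.IsStandardSubgroup L)
    {E : Type*} [Field E] [Fintype E] (hF : Fintype.card E = 2 ^ 2) (hfus : FusGoal hF L)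
    (hZ : Nat.card ↥(Subgroup.center ↥L) = 2) (e : ↥L ⧸ Subgroup.center ↥L ≃* PSU 6 E 2) :
    Cfsg.Spor.IsoFi22 G := by
  obtain ⟨t, K, p, S, hK, hs⟩ := Start.start hG hF hL hZ e hbal
  obtain ⟨hD, hp⟩ := hfus t K p S hK hs
  refine iso_of_centralizer hL hZ (by rw [hF]; norm_num) e S.tt S.t1 (le_antisymm (fun n hn => ?_)
    fun l hl => ?_) hs
  · exact Cent.mem_L hG S hK hD hp (Subgroup.mem_centralizer_singleton_iff.1 hn)
  · exact Subgroup.mem_centralizer_singleton_iff.2 (Basic.Lt S hl)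

end Cfsg.Agent.U62.Assemble
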