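import Cfsg.Agent.U62.Sys
import Cfsg.Agent.R01.Closing

/-!
Basic consequences of the local situation `Sys`.
-/

set_option autoImplicit false
set_option linter.unusedSectionVars false

namespace Cfsg.Agent.U62.Basic

open Cfsg Cfsg.Agent.LieClassical.HermBasic Cfsg.Agent.ClassicalGeometry.UnitTransv
open Cfsg.Agent.SporadicStructure.UnitTwo
open Cfsg.Agent.R01.PSUSix Cfsg.Agent.R01.InvForm
open Cfsg.Agent.R01.Frames (Hyp)
open Cfsg.Agent.R01.ComLabel (Iso)
open Cfsg.Agent.R01.Closing (comm_of_comm_two)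
open Cfsg.Agent.U62.Semi Cfsg.Agent.U62.Semi2 Cfsg.Agent.U62.Sys

variable {G : Type*} [Group G] {F : Type*} [Field F] [Fintype F] {hF : Fintype.card F = 2 ^ 2}
variable {t : G} {L K : Subgroup G} {p : (Fin 6 → F) → G}

/-- `n` acts on the labels as `φ`. -/
def Acts (p : (Fin 6 → F) → G) (n : G) (φ : (Fin 6 → F) → (Fin 6 → F)) : Prop :=
  ∀ v, Iso F v → n * p v * n⁻¹ = p (φ v)

theorem Fr2.isou {u v : Fin 6 → F} (h : Fr2 u v) : Iso F u := ⟨h.u_ne, h.uu⟩
theorem Fr2.isov {u v : Fin 6 → F} (h : Fr2 u v) : Iso F v := ⟨h.v_ne, h.vv⟩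
theorem Fr3.isou {u v w : Fin 6 → F} (h : Fr3 u v w) : Iso F u := ⟨h.u_ne, h.uu⟩
theorem Fr3.isov {u v w : Fin 6 → F} (h : Fr3 u v w) : Iso F v := ⟨h.v_ne, h.vv⟩
theorem Fr3.isow {u v w : Fin 6 → F} (h : Fr3 u v w) : Iso F w := ⟨h.w_ne, h.ww⟩

theorem not_pt_iff {u v : Fin 6 → F} (hu : Iso F u) (hv : Iso F v)
    (huv : hermForm 6 F 2 u v = 0) (h : ¬ Pt u v) : Fr2 u v := by
  refine ⟨hu.2, hv.2, huv, fun a b hab => ?_⟩
  have hb : b = 0 := by
    by_contra hb
    by_cases ha : a = 0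
    · rw [ha, zero_smul, zero_add] at hab
      exact hv.1 ((smul_eq_zero.1 hab).resolve_left hb)
    · apply h
      refine ⟨-(b⁻¹ * a), neg_ne_zero.2 (mul_ne_zero (inv_ne_zero hb) ha), ?_⟩
      have h1 : b⁻¹ • (a • u + b • v) = 0 := by rw [hab, smul_zero]
      rw [smul_add, smul_smul b⁻¹ b, inv_mul_cancel₀ hb, one_smul, smul_smul] at h1
      rw [neg_smul, eq_neg_iff_add_eq_zero, add_comm]
      exact h1
  subst hb
  rw [zero_smul, add_zero] at hab
  exact ⟨(smul_eq_zero.1 hab).resolve_right hu.1, rfl⟩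

theorem Fr2.not_pt {u v : Fin 6 → F} (h : Fr2 u v) : ¬ Pt u v := fun ⟨c, _, hc⟩ =>
  h.not_mul ⟨c, hc⟩

section S

variable (S : Sys hF t L K p)
include S

theorem Lt {l : G} (hl : l ∈ L) : Commute l t := S.comm l hl t S.tK

theorem Kt {k : G} (hk : k ∈ K) : Commute k t := (S.comm t S.tL k hk).symm

theorem pt {v : Fin 6 → F} (hv : Iso F v) : Commute (p v) t := Lt S (S.pL v hv)

theorem pinv {v : Fin 6 → F} (hv : Iso F v) : (p v)⁻¹ = p v :=
  inv_eq_of_mul_eq_one_left (S.sq v hv)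

theorem peq {u v : Fin 6 → F} (hu : Iso F u) (h : Pt u v) : p v = p u := by
  obtain ⟨c, hc, rfl⟩ := h
  exact S.smul u hu c hc

theorem pcomm {u v : Fin 6 → F} (hu : Iso F u) (hv : Iso F v) (h : hermForm 6 F 2 u v = 0) :
    Commute (p u) (p v) := (S.comm_iff u v hu hv).2 h

theorem acts_p {u : Fin 6 → F} (hu : Iso F u) :
    Acts p (p u) (fun v => v + hermForm 6 F 2 v u • u) := by
  intro v hv
  rw [pinv S hu]
  exact S.conj u v hu hv

theorem acts_commute {n : G} {φ : (Fin 6 → F) → (Fin 6 → F)} {e : ℕ} (he : e = 1 ∨ e = 2)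
    (h : Sem e φ) (ha : Acts p n φ) {v : Fin 6 → F} (hv : Iso F v) :
    Commute n (p v) ↔ Pt v (φ v) := by
  have h1 := ha v hv
  constructor
  · intro hc
    rw [hc.eq, mul_inv_cancel_right] at h1
    exact S.inj _ _ hv (h.iso hF he hv) h1
  · intro hpt
    rw [peq S hv hpt] at h1
    exact mul_inv_eq_iff_eq_mul.1 h1

theorem acts_smul {n : G} {φ : (Fin 6 → F) → (Fin 6 → F)} {e : ℕ} (he : e = 1 ∨ e = 2)
    (h : Sem e φ) (ha : Acts p n φ) {a : F} (ha0 : a ≠ 0) : Acts p n (fun v => a • φ v) := by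
  intro v hv
  rw [ha v hv, S.smul _ (h.iso hF he hv) a ha0]

omit S in
theorem acts_mul {n m : G} {φ ψ : (Fin 6 → F) → (Fin 6 → F)} (hn : Acts p n φ) (hm : Acts p m ψ)
    (hψ : ∀ v, Iso F v → Iso F (ψ v)) : Acts p (n * m) (fun v => φ (ψ v)) := by
  intro v hv
  rw [← hn _ (hψ v hv), ← hm v hv]
  group

theorem mem_K {n : G} {φ : (Fin 6 → F) → (Fin 6 → F)} {e : ℕ} (he : e = 1 ∨ e = 2)
    (h : Sem e φ) (ha : Acts p n φ) (hpt : ∀ v, Iso F v → Pt v (φ v)) : n ∈ K :=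
  S.ker n fun v hv => (acts_commute S he h ha hv).2 (hpt v hv)

/-- Normalised semi-isometries of elements with square in `K`. -/
theorem norm_inv {n : G} (hn : Commute n t) (hnn : n * n ∈ K) : ∃ e φ, (e = 1 ∨ e = 2) ∧
    Sem (F := F) e φ ∧ Acts p n φ ∧ ∀ v, φ (φ v) = v := by
  obtain ⟨e, φ, he, hφ, ha⟩ := S.semi n hn
  have hiso : ∀ v, Iso F v → Iso F (φ v) := fun v hv => hφ.iso hF he hv
  have hpt : ∀ v, Iso F v → Pt v (φ (φ v)) := by
    intro v hv
    have h1 := acts_mul ha ha hiso v hv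
    have h2 : Commute (n * n) (p v) := (S.comm _ (S.pL v hv) _ hnn).symm
    rw [h2.eq, mul_inv_cancel_right] at h1
    exact S.inj _ _ hv (hiso _ (hiso _ hv)) h1
  rcases he with rfl | rfl
  · obtain ⟨-, a, ha0, hs⟩ := scal_all hF (Or.inl rfl) (hφ.comp hφ) hpt
    refine ⟨1, fun v => a • φ v, Or.inl rfl, hφ.smul' hF ha0,
      acts_smul S (Or.inl rfl) hφ ha ha0, fun v => ?_⟩
    simp only
    rw [hφ.smul, pow_one, hs, smul_smul, smul_smul]
    have : a * a * a = 1 := by linear_combination Semi.norm_one hF ha0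
    rw [this, one_smul]
  · obtain ⟨-, a, ha0, hs⟩ := scal_all hF (Or.inl rfl) ((hφ.comp hφ).four hF) hpt
    refine ⟨2, φ, Or.inr rfl, hφ, ha, fun v => ?_⟩
    by_cases hv : v = 0
    · rw [hv, hφ.map_zero, hφ.map_zero]
    have h1 : φ (φ (φ v)) = a • φ v := hs (φ v)
    rw [hs v, hφ.smul] at h1
    obtain ⟨w, hw⟩ := exists_herm_ne_zero hF hv
    have h2 : φ v ≠ 0 := by
      intro h0
      have := hφ.herm v w
      rw [h0, herm_zero_left] at this
      exact hw ((pow_eq_zero_iff two_ne_zero).1 this.symm)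
    have h3 : (a ^ 2 - a) • φ v = 0 := by rw [sub_smul, h1, sub_self]
    have h4 := sub_eq_zero.1 ((smul_eq_zero.1 h3).resolve_right h2)
    have h5 : a = 1 := mul_left_cancel₀ ha0 (by linear_combination h4 : a * a = a * 1)
    rw [hs, h5, one_smul]

/-- A label commuting with a product of two commuting labels commutes with both. -/
theorem comm_two {x y z : Fin 6 → F} (hf : Fr2 x y) (hz : Iso F z)
    (h : Commute (p z) (p x * p y)) : hermForm 6 F 2 z x = 0 ∧ hermForm 6 F 2 z y = 0 := by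
  have hx := Fr2.isou hf
  have hy := Fr2.isov hf
  have h3 : ∀ u, Iso F u → p z * p u = p u * p z ∨ (p u * p z) ^ 3 = 1 := by
    intro u hu
    by_cases h0 : hermForm 6 F 2 u z = 0
    · exact Or.inl (pcomm S hu hz h0).symm.eq
    · exact Or.inr (S.three u z hu hz h0)
  have hxy := pcomm S hx hy hf.uv
  have hne : p x ≠ p y := fun h0 => Fr2.not_pt hf (S.inj _ _ hx hy h0)
  constructor
  · rw [← S.comm_iff z x hz hx]
    exact comm_of_comm_two (S.sq x hx) (S.sq y hy) (S.sq z hz) hxy.eq hne (h3 x hx) (h3 y hy) h.eq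
  · rw [← S.comm_iff z y hz hy]
    refine comm_of_comm_two (S.sq y hy) (S.sq x hx) (S.sq z hz) hxy.symm.eq (Ne.symm hne) (h3 y hy)
      (h3 x hx) ?_
    rw [← hxy.eq]; exact h.eq

/-- Relations between commuting labels. -/
theorem four_sum {v₁ v₂ v₃ v₄ : Fin 6 → F} (h1 : Iso F v₁) (h2 : Iso F v₂) (h3 : Iso F v₃)
    (h4 : Iso F v₄) (h12 : hermForm 6 F 2 v₁ v₂ = 0) (h13 : hermForm 6 F 2 v₁ v₃ = 0)
    (h14 : hermForm 6 F 2 v₁ v₄ = 0) (h23 : hermForm 6 F 2 v₂ v₃ = 0)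
    (h24 : hermForm 6 F 2 v₂ v₄ = 0) (h34 : hermForm 6 F 2 v₃ v₄ = 0)
    (h : p v₁ * p v₂ * p v₃ * p v₄ ∈ K) (z : Fin 6 → F) :
    hermForm 6 F 2 z v₁ • v₁ + hermForm 6 F 2 z v₂ • v₂ + hermForm 6 F 2 z v₃ • v₃ +
      hermForm 6 F 2 z v₄ • v₄ = 0 := by
  have h21 := herm_eq_zero_swap hF h12
  have h31 := herm_eq_zero_swap hF h13
  have h41 := herm_eq_zero_swap hF h14
  have h32 := herm_eq_zero_swap hF h23
  have h42 := herm_eq_zero_swap hF h24
  have h43 := herm_eq_zero_swap hF h34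
  have n1 := h1.2
  have n2 := h2.2
  have n3 := h3.2
  have n4 := h4.2
  let f : (Fin 6 → F) → (Fin 6 → F) := fun z => hermForm 6 F 2 z v₁ • v₁ +
    hermForm 6 F 2 z v₂ • v₂ + hermForm 6 F 2 z v₃ • v₃ + hermForm 6 F 2 z v₄ • v₄
  have hfd : ∀ z, f z = hermForm 6 F 2 z v₁ • v₁ +
    hermForm 6 F 2 z v₂ • v₂ + hermForm 6 F 2 z v₃ • v₃ + hermForm 6 F 2 z v₄ • v₄ := fun _ => rfl
  clear_value f
  have key : ∀ z, Iso F z → f z = 0 := by
    intro z hz
    -- the action of the product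
    have hi : ∀ u, Iso F u → ∀ w, Iso F w → Iso F (w + hermForm 6 F 2 w u • u) := by
      intro u hu w hw
      have h5 : w + hermForm 6 F 2 w u • u = act (T hF u hu.2) w := by rw [act_T]
      rw [h5]
      exact (sem_act (T hF u hu.2)).iso hF (Or.inl rfl) hw
    have hA := acts_mul (acts_mul (acts_mul (acts_p S h1) (acts_p S h2) (hi v₂ h2))
      (acts_p S h3) (hi v₃ h3)) (acts_p S h4) (hi v₄ h4) z hz
    have hc : Commute (p v₁ * p v₂ * p v₃ * p v₄) (p z) := (S.comm _ (S.pL z hz) _ h).symm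
    rw [hc.eq, mul_inv_cancel_right] at hA
    have hz' : Iso F (z + f z) := by
      have e1 : z + f z = (((z + hermForm 6 F 2 z v₄ • v₄) +
          hermForm 6 F 2 (z + hermForm 6 F 2 z v₄ • v₄) v₃ • v₃) +
          hermForm 6 F 2 ((z + hermForm 6 F 2 z v₄ • v₄) +
            hermForm 6 F 2 (z + hermForm 6 F 2 z v₄ • v₄) v₃ • v₃) v₂ • v₂) +
          hermForm 6 F 2 (((z + hermForm 6 F 2 z v₄ • v₄) +
          hermForm 6 F 2 (z + hermForm 6 F 2 z v₄ • v₄) v₃ • v₃) +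
          hermForm 6 F 2 ((z + hermForm 6 F 2 z v₄ • v₄) +
            hermForm 6 F 2 (z + hermForm 6 F 2 z v₄ • v₄) v₃ • v₃) v₂ • v₂) v₁ • v₁ := by
        rw [hfd]
        simp only [herm_add_left, herm_smul_left, h21, h31, h41, h32, h42, h43, mul_zero, add_zero]
        abel
      rw [e1]
      exact hi _ h1 _ (hi _ h2 _ (hi _ h3 _ (hi _ h4 _ hz)))
    have e2 : p (z + f z) = p z := by
      rw [hA]
      congr 1
      rw [hfd]
      simp only [herm_add_left, herm_smul_left, h21, h31, h41, h32, h42, h43, mul_zero, add_zero]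
      abel
    obtain ⟨c, hc0, hc⟩ := S.inj _ _ hz hz' e2.symm
    -- `f z` is a multiple of `z` orthogonal to all
    have h5 : f z = (c - 1) • z := by
      rw [sub_smul, one_smul, ← hc]; abel
    by_contra hne
    have hc1 : c - 1 ≠ 0 := by
      intro h0
      rw [h0, zero_smul] at h5
      exact hne h5
    have hort : ∀ v, hermForm 6 F 2 v₁ v = 0 → hermForm 6 F 2 v₂ v = 0 →
        hermForm 6 F 2 v₃ v = 0 → hermForm 6 F 2 v₄ v = 0 → hermForm 6 F 2 z v = 0 := by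
      intro v a1 a2 a3 a4
      have h6 : hermForm 6 F 2 (f z) v = 0 := by
        rw [hfd]
        simp only [herm_add_left, herm_smul_left, a1, a2, a3, a4, mul_zero, add_zero]
      rw [h5, herm_smul_left] at h6
      exact (mul_eq_zero.1 h6).resolve_left hc1
    apply hne
    rw [hfd, hort v₁ n1 h21 h31 h41, hort v₂ h12 n2 h32 h42, hort v₃ h13 h23 n3 h43,
      hort v₄ h14 h24 h34 n4]
    simp
  -- linearity
  obtain ⟨ω, hω⟩ := exists_omega hF
  have hb := Cfsg.Agent.R01.Frames.hyp_std (F := F) hF hω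
  rw [← hfd]
  have hadd : ∀ a b, f (a + b) = f a + f b := by
    intro a b
    simp only [hfd, herm_add_left, add_smul]
    abel
  have hsm : ∀ (c : F) a, f (c • a) = c • f a := by
    intro c a
    simp only [hfd, herm_smul_left, smul_add, smul_smul]
  rw [hyp_expand hF hb z]
  simp only [Fin.sum_univ_three, hadd, hsm, key _ (hyp_iso_g hF hb _), key _ (hyp_iso_k hF hb _),
    smul_zero, add_zero]

/-- A product of two commuting labels determines the pair of points. -/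
theorem pair {x y x' y' : Fin 6 → F} (hf : Fr2 x y) (hx' : Iso F x') (hy' : Iso F y')
    (hxy' : hermForm 6 F 2 x' y' = 0) (h : p x * p y = p x' * p y') : Pt x x' ∨ Pt y x' := by
  have hx := Fr2.isou hf
  have hy := Fr2.isov hf
  have hcxy := pcomm S hx hy hf.uv
  have hcxy' := pcomm S hx' hy' hxy'
  have hne : p x ≠ p y := fun h0 => Fr2.not_pt hf (S.inj _ _ hx hy h0)
  have hf' : Fr2 x' y' := by
    apply not_pt_iff hx' hy' hxy'
    intro hpt
    rw [peq S hx' hpt, S.sq x' hx'] at h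
    apply hne
    calc p x = p x * p y * p y := by rw [mul_assoc, S.sq y hy, mul_one]
      _ = p y := by rw [h, one_mul]
  obtain ⟨a1, a2⟩ := comm_two S hf hx' (by
    rw [h]; exact (Commute.refl _).mul_right hcxy')
  obtain ⟨b1, b2⟩ := comm_two S hf hy' (by
    rw [h]; exact hcxy'.symm.mul_right (Commute.refl _))
  have hrel : p x * p y * p x' * p y' ∈ K := by
    rw [mul_assoc (p x * p y), ← h]
    have : p x * p y * (p x * p y) = 1 := by
      calc p x * p y * (p x * p y) = p x * (p y * p x) * p y := by group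
        _ = p x * (p x * p y) * p y := by rw [hcxy.eq]
        _ = (p x * p x) * (p y * p y) := by group
        _ = 1 := by rw [S.sq x hx, S.sq y hy, one_mul]
    rw [this]
    exact K.one_mem
  have key := four_sum S hx hy hx' hy' hf.uv (herm_eq_zero_swap hF a1) (herm_eq_zero_swap hF b1)
    (herm_eq_zero_swap hF a2) (herm_eq_zero_swap hF b2) hxy' hrel
  -- dual vectors of `x', y'`
  obtain ⟨g', k', hb', hg0', hg1'⟩ := ext2 hF hf'
  obtain ⟨g, k, hb, hg0, hg1⟩ := ext2 hF hf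
  have k1 := key (k' 0)
  have e1 : hermForm 6 F 2 (k' 0) x' = 1 := by
    have := hb'.kg hF 0 0; rwa [hg0', if_pos rfl] at this
  have e2 : hermForm 6 F 2 (k' 0) y' = 0 := by
    have := hb'.kg hF 0 1; rwa [hg1', if_neg (by decide)] at this
  have e3 : hermForm 6 F 2 (k' 1) x' = 0 := by
    have := hb'.kg hF 1 0; rwa [hg0', if_neg (by decide)] at this
  have e4 : hermForm 6 F 2 (k' 1) y' = 1 := by
    have := hb'.kg hF 1 1; rwa [hg1', if_pos rfl] at this
  rw [e1, e2, one_smul, zero_smul, add_zero] at k1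
  have k2 := key (k' 1)
  rw [e3, e4, one_smul, zero_smul, add_zero] at k2
  obtain ⟨α, hα⟩ : ∃ α, α = hermForm 6 F 2 (k' 0) x := ⟨_, rfl⟩
  obtain ⟨β, hβ⟩ : ∃ β, β = hermForm 6 F 2 (k' 0) y := ⟨_, rfl⟩
  obtain ⟨γ, hγ⟩ : ∃ γ, γ = hermForm 6 F 2 (k' 1) x := ⟨_, rfl⟩
  obtain ⟨δ, hδ⟩ : ∃ δ, δ = hermForm 6 F 2 (k' 1) y := ⟨_, rfl⟩
  rw [← hα, ← hβ] at k1
  rw [← hγ, ← hδ] at k2
  have hx'e : x' = α • x + β • y := by
    have : x' = α • x + β • y + x' + (α • x + β • y) := by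
      rw [add_comm (α • x + β • y) x', add_assoc, vadd_self hF, add_zero]
    rw [this, k1, zero_add]
  have hy'e : y' = γ • x + δ • y := by
    have : y' = γ • x + δ • y + y' + (γ • x + δ • y) := by
      rw [add_comm (γ • x + δ • y) y', add_assoc, vadd_self hF, add_zero]
    rw [this, k2, zero_add]
  have k3 := key (k 0)
  have f1 : hermForm 6 F 2 (k 0) x = 1 := by
    have := hb.kg hF 0 0; rwa [hg0, if_pos rfl] at this
  have f2 : hermForm 6 F 2 (k 0) y = 0 := by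
    have := hb.kg hF 0 1; rwa [hg1, if_neg (by decide)] at this
  rw [hx'e, hy'e, f1, f2, one_smul, zero_smul, add_zero, herm_add_right hF, herm_add_right hF,
    herm_smul_right, herm_smul_right, herm_smul_right, herm_smul_right, f1, f2] at k3
  have k4 : (1 + α ^ 3 + γ ^ 3) • x + (α ^ 2 * β + γ ^ 2 * δ) • y = 0 := by
    rw [← k3]
    module
  obtain ⟨k5, k6⟩ := hf.ind _ _ k4
  by_cases hα0 : α = 0
  · right
    rw [hα0, zero_smul, zero_add] at hx'e
    refine ⟨β, ?_, hx'e⟩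
    rintro rfl
    rw [zero_smul] at hx'e
    exact hx'.1 hx'e
  · left
    have hα3 := pow_three hF hα0
    have hγ0 : γ = 0 := by
      by_contra hγ0
      have hγ3 := pow_three hF hγ0
      rw [hα3, hγ3] at k5
      exact one_ne_zero (by linear_combination k5 - two_eq_zero hF : (1 : F) = 0)
    rw [hγ0] at k6
    have hβ0 : β = 0 := by
      have : α ^ 2 * β = 0 := by linear_combination k6
      exact (mul_eq_zero.1 this).resolve_left (pow_ne_zero 2 hα0)
    rw [hβ0, zero_smul, add_zero] at hx'e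
    exact ⟨α, hα0, hx'e⟩

/-! ### Transitivity -/

theorem trans3 {u v w u' v' w' : Fin 6 → F} (h : Fr3 u v w) (h' : Fr3 u' v' w') :
    ∃ l ∈ L, l * p u * l⁻¹ = p u' ∧ l * p v * l⁻¹ = p v' ∧ l * p w * l⁻¹ = p w' := by
  obtain ⟨g, a, b, c, ha, hb, hc, hu, hv, hw⟩ := trans_frames_SU hF h h'
  obtain ⟨l, hl, hr⟩ := S.real g
  refine ⟨l, hl, ?_, ?_, ?_⟩
  · rw [hr u (Fr3.isou h), hu, S.smul _ (Fr3.isou h') a ha]
  · rw [hr v (Fr3.isov h), hv, S.smul _ (Fr3.isov h') b hb]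
  · rw [hr w (Fr3.isow h), hw, S.smul _ (Fr3.isow h') c hc]

theorem trans2 {u v u' v' : Fin 6 → F} (h : Fr2 u v) (h' : Fr2 u' v') :
    ∃ l ∈ L, l * p u * l⁻¹ = p u' ∧ l * p v * l⁻¹ = p v' := by
  obtain ⟨w, h1⟩ := fr2_ext hF h
  obtain ⟨w', h1'⟩ := fr2_ext hF h'
  obtain ⟨l, hl, h2, h3, -⟩ := trans3 S h1 h1'
  exact ⟨l, hl, h2, h3⟩

theorem trans1 {u u' : Fin 6 → F} (h : Iso F u) (h' : Iso F u') :
    ∃ l ∈ L, l * p u * l⁻¹ = p u' := by
  obtain ⟨v, w, h1⟩ := fr1_ext hF h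
  obtain ⟨v', w', h1'⟩ := fr1_ext hF h'
  obtain ⟨l, hl, h2, -, -⟩ := trans3 S h1 h1'
  exact ⟨l, hl, h2⟩

end S

end Cfsg.Agent.U62.Basic
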