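import Cfsg.Agent.R01.Component
import Cfsg.Agent.U62.Semi2

/-!
A member of `D` normalising a component of the commuting graph on `D` is in the component.
-/

set_option autoImplicit false
set_option linter.unusedSectionVars false

namespace Cfsg.Agent.U62.Comp

open Cfsg Cfsg.Agent.LieClassical.HermBasic Cfsg.Agent.R01.InvForm
open Cfsg.Agent.R01.Closing Cfsg.Agent.R01.ComLabel Cfsg.Agent.R01.Component
open Cfsg.Agent.U62.Semi Cfsg.Agent.U62.Semi2

variable {G : Type*} [Group G] {F : Type*} [Field F] [Fintype F]

/-- A class of involutions with labels, no product of three commuting members being a member. -/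
structure Data (F : Type*) [Field F] (D : Set G) : Prop where
  sq : ∀ a ∈ D, a * a = 1
  conj : ∀ g : G, ∀ a ∈ D, g * a * g⁻¹ ∈ D
  lab : ∀ y ∈ D, ∃ σ : (Fin 6 → F) → G, IsLabel F D y σ
  prod : ∀ a ∈ D, ∀ b ∈ D, ∀ c ∈ D, a ≠ b → a ≠ c → b ≠ c → Commute a b → Commute a c →
    Commute b c → a * b * c ∉ D

variable {D : Set G}

theorem exists_third (hF : Fintype.card F = 2 ^ 2) (X : Data F D) {d d' : G} (hd : d ∈ D)
    (hd' : d' ∈ D) (hne : d' ≠ d) (hc : Commute d' d) :
    ∃ e ∈ D, e ≠ d ∧ e ≠ d' ∧ Commute e d ∧ Commute e d' := by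
  obtain ⟨σ, hσ⟩ := X.lab d hd
  obtain ⟨u, hu, rfl⟩ := hσ.surj d' hd' hne hc
  obtain ⟨v, w, hf⟩ := fr1_ext hF hu
  have hv : Iso F v := ⟨hf.v_ne, hf.vv⟩
  obtain ⟨h1, h2, h3⟩ := hσ.mem v hv
  refine ⟨σ v, h1, h2, ?_, h3, (hσ.commute_iff hF hv hu).2 (herm_eq_zero_swap hF hf.uv)⟩
  intro h
  obtain ⟨c, hc⟩ := hσ.inj u v hu hv h.symm
  exact hf.fr2.not_mul ⟨c, hc⟩

theorem conn_of_mem_M (hF : Fintype.card F = 2 ^ 2) (X : Data F D) {c a : G} (hc : c ∈ D)
    (ha : a ∈ D) (haM : a ∈ M D X.conj c) : Conn D c a := by
  by_contra hcon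
  have haa := X.sq a ha
  have hai : a⁻¹ = a := inv_eq_of_mul_eq_one_left haa
  have hno : ∀ d, Conn D c d → ¬ Commute d a := fun d hd hda =>
    hcon (hd.trans (Conn.of_comm (hd.mem hc) ha hda.eq))
  have hM : ∀ d, Conn D c d → Conn D c (a * d * a) := by
    intro d hd
    have h1 : a ∈ M D X.conj d := by rw [← M_eq_of_conn X.conj hd]; exact haM
    rw [mem_M, hai] at h1
    exact hd.trans h1
  have h1 : ∀ d, Conn D c d → Commute d (a * d * a) := by
    intro d hd
    have hdD := hd.mem hc
    have hdd := X.sq d hdD
    have hdi : d⁻¹ = d := inv_eq_of_mul_eq_one_left hdd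
    have h2 := hM d hd
    rcases three hF X.lab X.sq hdD (hd.symm.trans h2) with h | h
    · exact h
    · exfalso
      -- the conjugate of `a * d * a` by `d`
      have h3 : Conn D c (d * (a * d * a) * d) := by
        have h4 := (hd.symm.trans h2).conj X.conj d
        rw [mul_inv_cancel_right, hdi] at h4
        exact hd.trans h4
      have h5 := X.sq _ (h3.mem hc)
      have h6 : (d * (a * d * a) * d) * a * ((d * (a * d * a) * d) * a) = 1 := by
        rw [← h, pow_succ, pow_two]
        simp only [mul_assoc]
      apply hno _ h3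
      have h7 := eq_inv_of_mul_eq_one_left h6
      rw [mul_inv_rev, hai, inv_eq_of_mul_eq_one_left h5] at h7
      exact h7
  -- the products `d * d ^ a`
  have h2 : ∀ d, Conn D c d → Commute a (d * a * d) := by
    intro d hd
    have hdd := X.sq d (hd.mem hc)
    have h3 := (h1 d hd).eq
    have h4 : d * a * d * a = a * d * a * d := by
      rw [← h3]; simp only [mul_assoc]
    show a * (d * a * d) = d * a * d * a
    rw [h4]; simp only [mul_assoc]
  have hcc := X.sq c hc
  have hci : c⁻¹ = c := inv_eq_of_mul_eq_one_left hcc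
  have hconc := Conn.refl D c
  have hc'D := (hM c hconc).mem hc
  have hcomm := h1 c hconc
  have hne : a * c * a ≠ c := by
    intro h
    apply hno c hconc
    show c * a = a * c
    calc c * a = a * c * a * a := by rw [h]
      _ = a * c := by rw [mul_assoc, haa, mul_one]
  obtain ⟨e, heD, hec, hec', hcom1, hcom2⟩ := exists_third hF X hc hc'D hne hcomm.symm
  have hee := X.sq e heD
  have hei : e⁻¹ = e := inv_eq_of_mul_eq_one_left hee
  have hcone : Conn D c e := Conn.of_comm hc heD hcom1.symm.eq
  have he'D := (hM e hcone).mem hc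
  have hcomE := h1 e hcone
  -- `e ^ a` commutes with `c`
  have hcom3 : Commute (a * e * a) c := by
    have h3 : a * (e * (a * c * a)) * a = a * (a * c * a * e) * a := by rw [hcom2.eq]
    show a * e * a * c = c * (a * e * a)
    calc a * e * a * c = a * (e * (a * c * a)) * a := by
          have : a * (e * (a * c * a)) * a = a * e * a * c * (a * a) := by group
          rw [this, haa, mul_one]
      _ = a * (a * c * a * e) * a := h3
      _ = (a * a) * c * (a * e * a) := by group
      _ = c * (a * e * a) := by rw [haa, one_mul]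
  have hxD : c * a * c ∈ D := by have := X.conj c a ha; rwa [hci] at this
  have hyD : e * a * e ∈ D := by have := X.conj e a ha; rwa [hei] at this
  have hax := h2 c hconc
  have hay := h2 e hcone
  -- `x = w_c a`, `y = w_e a`
  have hx : c * a * c = c * (a * c * a) * a := by
    calc c * a * c = c * a * c * (a * a) := by rw [haa, mul_one]
      _ = _ := by group
  have hy : e * a * e = e * (a * e * a) * a := by
    calc e * a * e = e * a * e * (a * a) := by rw [haa, mul_one]
      _ = _ := by group
  -- `c` commutes with `w_e`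
  have hcwe : Commute c (e * (a * e * a)) := hcom1.symm.mul_right hcom3.symm
  have hawc : Commute a (c * (a * c * a)) := by
    have h3 : c * (a * c * a) = c * a * c * a := by group
    rw [h3]
    exact hax.mul_right (Commute.refl a)
  have hawe : Commute a (e * (a * e * a)) := by
    have h3 : e * (a * e * a) = e * a * e * a := by group
    rw [h3]
    exact hay.mul_right (Commute.refl a)
  have hc'we : Commute (a * c * a) (e * (a * e * a)) :=
    (hawe.mul_left hcwe).mul_left hawe
  have hww : Commute (c * (a * c * a)) (e * (a * e * a)) := hcwe.mul_left hc'we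
  have hxy : Commute (c * a * c) (e * a * e) := by
    rw [hx, hy]
    exact (hww.mul_right hawc.symm).mul_left (hawe.mul_right (Commute.refl a))
  refine X.prod a ha _ hxD _ hyD ?_ ?_ ?_ hax hay hxy ?_
  · intro h
    apply hno c hconc
    show c * a = a * c
    calc c * a = c * (c * a * c) := by rw [← h]
      _ = (c * c) * (a * c) := by group
      _ = a * c := by rw [hcc, one_mul]
  · intro h
    apply hno e hcone
    show e * a = a * e
    calc e * a = e * (e * a * e) := by rw [← h]
      _ = (e * e) * (a * e) := by group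
      _ = a * e := by rw [hee, one_mul]
  · intro h
    rw [hx, hy] at h
    have h3 : c * (a * c * a) = e * (a * e * a) := mul_right_cancel h
    have h4 : e * c * (a * c * a) = a * e * a := by
      rw [mul_assoc, h3, ← mul_assoc, hee, one_mul]
    exact X.prod e heD c hc _ hc'D hec hec' (Ne.symm hne) hcom1 hcom2 hcomm
      (by rw [h4]; exact he'D)
  · have h3 : a * (c * a * c) * (e * a * e) = c * (e * a * e) * c⁻¹ := by
      rw [hci]
      calc a * (c * a * c) * (e * a * e) = (c * a * c) * a * (e * a * e) := by rw [hax.eq]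
        _ = (c * (a * c * a)) * (a * a) * (e * (a * e * a) * a) := by rw [hy, hx]; group
        _ = (c * (a * c * a)) * (e * (a * e * a)) * a := by rw [haa, mul_one]; group
        _ = (e * (a * e * a)) * (c * (a * c * a)) * a := by rw [hww.eq]
        _ = (e * (a * e * a)) * (c * a * c) := by rw [hx]; group
        _ = (e * (a * e * a)) * c * (a * c) := by group
        _ = c * (e * (a * e * a)) * (a * c) := by rw [hcwe.eq]
        _ = c * (e * a * e) * c := by rw [hy]; group
    rw [h3]
    exact X.conj c _ hyD

end Cfsg.Agent.U62.Comp
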