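import Cfsg.Agent.U62.Outer

/-!
Elements of `C(t)` acting linearly on the labels lie in `L K`.
-/

set_option autoImplicit false
set_option linter.unusedSectionVars false

namespace Cfsg.Agent.U62.Det

open Cfsg Cfsg.Agent.LieClassical.HermBasic Cfsg.Agent.ClassicalGeometry.UnitTransv
open Cfsg.Agent.SporadicStructure.UnitTwo
open Cfsg.Agent.R01.PSUSix Cfsg.Agent.R01.InvForm
open Cfsg.Agent.R01.Frames
open Cfsg.Agent.R01.ComLabel (Iso)
open Cfsg.Agent.U62.Semi Cfsg.Agent.U62.Semi2 Cfsg.Agent.U62.Sys Cfsg.Agent.U62.Basic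
open Cfsg.Agent.U62.Lin Cfsg.Agent.U62.Outer
open scoped Matrix

variable {G : Type*} [Group G] {F : Type*} [Field F] [Fintype F] {hF : Fintype.card F = 2 ^ 2}
variable {t : G} {L K : Subgroup G} {p : (Fin 6 → F) → G}

/-- The product over the Baer subplane spanned by `u, v, w`. -/
def sev (p : (Fin 6 → F) → G) (u v w : Fin 6 → F) : G :=
  p u * p v * p w * p (u + v) * p (u + w) * p (v + w) * p (u + v + w)

theorem calc_sev {H : Type*} [CommGroup H] {τ R A C AC A0 A1 A2 C0 C1 C2 D0 D1 D2 : H}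
    (hτ : τ * τ = 1) (hA : A * A = 1) (hC : C * C = 1) (hAC : AC * AC = 1)
    (l1 : R * A * A0 * A1 * A2 = τ) (l2 : R * C * C0 * C1 * C2 = τ)
    (l3 : R * AC * D0 * D1 * D2 = τ) :
    (R * A * C * A0 * C0 * AC * D0) * (R * A * C * A1 * C1 * AC * D1) *
      (R * A * C * A2 * C2 * AC * D2) = τ := by
  calc (R * A * C * A0 * C0 * AC * D0) * (R * A * C * A1 * C1 * AC * D1) *
      (R * A * C * A2 * C2 * AC * D2)
      = (A * A) * (C * C) * (AC * AC) * ((R * A * A0 * A1 * A2) * (R * C * C0 * C1 * C2) *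
          (R * AC * D0 * D1 * D2)) := by ac_rfl
    _ = τ := by rw [l1, l2, l3, hA, hC, hAC, hτ, one_mul, one_mul, one_mul, one_mul]

section S

variable (S : Sys hF t L K p)
include S

theorem sev_cycle {u v w : Fin 6 → F} (h : Fr3 u v w) {ω : F} (hω : ω ^ 2 + ω + 1 = 0) :
    sev p u v w * sev p (ω • u) v w * sev p (ω ^ 2 • u) v w = t := by
  have hω0 : ω ≠ 0 := by rintro rfl; simp at hω
  have hω20 : ω ^ 2 ≠ 0 := pow_ne_zero 2 hω0
  obtain ⟨H, _, f, l, τ, hf, hl, hτ⟩ := comm3 S h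
  have hiso : ∀ a b c : F, (a ≠ 0 ∨ b ≠ 0 ∨ c ≠ 0) → Iso F (a • u + b • v + c • w) :=
    fun a b c h0 => comb_iso S h h0
  have hsq : ∀ a b c : F, (a ≠ 0 ∨ b ≠ 0 ∨ c ≠ 0) → l a b c * l a b c = 1 := by
    intro a b c h0
    apply hf
    rw [map_mul, hl a b c h0, S.sq _ (hiso a b c h0), map_one]
  have hττ : τ * τ = 1 := hf (by rw [map_mul, hτ, S.tt, map_one])
  have hline : ∀ b c : F, (b ≠ 0 ∨ c ≠ 0) →
      l 1 0 0 * l 0 b c * l 1 b c * l ω b c * l (ω ^ 2) b c = τ := by
    intro b c h0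
    apply hf
    have h1 : Fr2 ((1 : F) • u + (0 : F) • v + (0 : F) • w)
        ((0 : F) • u + b • v + c • w) := by
      refine ⟨(hiso _ _ _ (by simp)).2, (hiso _ _ _ (Or.inr h0)).2, comb_ort S h _ _ _ _ _ _,
        fun x y hxy => ?_⟩
      have h2 := h.ind (x * 1) (y * b) (y * c) (by rw [← hxy]; module)
      obtain ⟨h3, h4, h5⟩ := h2
      refine ⟨by simpa using h3, ?_⟩
      rcases h0 with h0 | h0
      · exact (mul_eq_zero.1 h4).resolve_right h0
      · exact (mul_eq_zero.1 h5).resolve_right h0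
    have h2 := S.line _ _ h1 ω hω
    have e1 : (1 : F) • u + (0 : F) • v + (0 : F) • w +
        ((0 : F) • u + b • v + c • w) = (1 : F) • u + b • v + c • w := by module
    have e2 : ω • ((1 : F) • u + (0 : F) • v + (0 : F) • w) +
        ((0 : F) • u + b • v + c • w) = ω • u + b • v + c • w := by module
    have e3 : ω ^ 2 • ((1 : F) • u + (0 : F) • v + (0 : F) • w) +
        ((0 : F) • u + b • v + c • w) = ω ^ 2 • u + b • v + c • w := by module
    rw [e1, e2, e3] at h2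
    rw [map_mul, map_mul, map_mul, map_mul, hτ, hl _ _ _ (by simp), hl _ _ _ (Or.inr h0),
      hl _ _ _ (Or.inr h0), hl _ _ _ (Or.inr h0), hl _ _ _ (Or.inr h0)]
    exact h2
  have key : ∀ a : F, a ≠ 0 → sev p (a • u) v w =
      f (l 1 0 0 * l 0 1 0 * l 0 0 1 * l a 1 0 * l a 0 1 * l 0 1 1 * l a 1 1) := by
    intro a ha
    have c0 : p (a • u) = f (l 1 0 0) := by
      rw [hl 1 0 0 (by simp), S.smul u (Fr3.isou h) a ha]
      congr 1
      module
    have c1 : p v = f (l 0 1 0) := by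
      rw [hl 0 1 0 (by simp)]
      congr 1
      module
    have c2 : p w = f (l 0 0 1) := by
      rw [hl 0 0 1 (by simp)]
      congr 1
      module
    have c3 : p (a • u + v) = f (l a 1 0) := by
      rw [hl a 1 0 (by simp)]
      congr 1
      module
    have c4 : p (a • u + w) = f (l a 0 1) := by
      rw [hl a 0 1 (by simp)]
      congr 1
      module
    have c5 : p (v + w) = f (l 0 1 1) := by
      rw [hl 0 1 1 (by simp)]
      congr 1
      module
    have c6 : p (a • u + v + w) = f (l a 1 1) := by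
      rw [hl a 1 1 (by simp)]
      congr 1
      module
    rw [sev, c0, c1, c2, c3, c4, c5, c6, map_mul, map_mul, map_mul, map_mul, map_mul, map_mul]
  have k1 := key 1 one_ne_zero
  rw [one_smul] at k1
  rw [k1, key ω hω0, key (ω ^ 2) hω20, ← map_mul, ← map_mul, ← hτ]
  congr 1
  exact calc_sev hττ (hsq 0 1 0 (by simp)) (hsq 0 0 1 (by simp)) (hsq 0 1 1 (by simp))
    (hline 1 0 (by simp)) (hline 0 1 (by simp)) (hline 1 1 (by simp))

/-- The product over a Baer subplane and conjugation. -/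
theorem sev_conj {n : G} (hn : Commute n t) {φ : (Fin 6 → F) → (Fin 6 → F)}
    (hφ : ∀ x y, φ (x + y) = φ x + φ y) (ha : Acts p n φ) {u v w : Fin 6 → F} (h : Fr3 u v w) :
    sev p (φ u) (φ v) (φ w) = sev p u v w := by
  have hiso : ∀ a b c : F, (a ≠ 0 ∨ b ≠ 0 ∨ c ≠ 0) → Iso F (a • u + b • v + c • w) :=
    fun a b c h0 => comb_iso S h h0
  have i1 : Iso F (u + v) := by
    have := hiso 1 1 0 (by simp)
    rwa [one_smul, one_smul, zero_smul, add_zero] at this
  have i2 : Iso F (u + w) := by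
    have := hiso 1 0 1 (by simp)
    rwa [one_smul, one_smul, zero_smul, add_zero] at this
  have i3 : Iso F (v + w) := by
    have := hiso 0 1 1 (by simp)
    rwa [one_smul, one_smul, zero_smul, zero_add] at this
  have i4 : Iso F (u + v + w) := by
    have := hiso 1 1 1 (by simp)
    rwa [one_smul, one_smul, one_smul] at this
  have e : n * sev p u v w * n⁻¹ = sev p (φ u) (φ v) (φ w) := by
    rw [sev, sev, ← hφ u v, ← hφ u w, ← hφ v w, ← hφ (u + v) w, ← ha u (Fr3.isou h),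
      ← ha v (Fr3.isov h), ← ha w (Fr3.isow h), ← ha _ i1, ← ha _ i2, ← ha _ i3, ← ha _ i4]
    group
  rw [← e]
  rcases seven_mem S h with h1 | h1
  · have h2 : sev p u v w = 1 := h1
    rw [h2, mul_one, mul_inv_cancel]
  · have h2 : sev p u v w = t := h1
    rw [h2, hn.eq, mul_inv_cancel_right]

theorem no_diag {n : G} (hn : Commute n t) {a : F} (ha : a ^ 3 = 1) (ha1 : a ≠ 1)
    (hact : Acts p n fun v => Matrix.diagonal (dg a) *ᵥ v) : False := by
  obtain ⟨ω, hω⟩ := exists_omega hF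
  have hω0 : ω ≠ 0 := by rintro rfl; simp at hω
  have hω3 := omega_cubed hω
  have hω1 : ω ≠ 1 := by
    rintro rfl
    exact one_ne_zero (by linear_combination hω - two_eq_zero hF : (1 : F) = 0)
  have ha0 : a ≠ 0 := by rintro rfl; simp at ha
  have hb := hyp_std (F := F) hF hω
  have hfr := hyp_fr3 hb
  have hsm : ∀ c : F, c ≠ 0 → Fr3 (c • (E 0 : Fin 6 → F)) (E 1) (E 2) := by
    intro c hc
    have := Fr3_smul hF hfr hc one_ne_zero one_ne_zero
    rwa [one_smul, one_smul] at this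
  -- all classes have the same product
  have hstep : ∀ c : F, c ≠ 0 → sev p ((a * c) • (E 0 : Fin 6 → F)) (E 1) (E 2) =
      sev p (c • (E 0 : Fin 6 → F)) (E 1) (E 2) := by
    intro c hc
    have h1 := sev_conj S hn (φ := fun v => Matrix.diagonal (dg a) *ᵥ v)
      (fun x y => Matrix.mulVec_add _ _ _) hact (hsm c hc)
    simp only [Matrix.mulVec_smul, (dg_E a).1, (dg_E a).2.1, (dg_E a).2.2] at h1
    rwa [smul_smul, mul_comm c a] at h1
  have ha12 : a = ω ∨ a = ω ^ 2 := by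
    have : (a - 1) * ((a - ω) * (a - ω ^ 2)) = 0 := by
      linear_combination ha + (a - a ^ 2) * hω + (a - 1) * hω3
    rcases mul_eq_zero.1 this with h5 | h5
    · exact absurd (sub_eq_zero.1 h5) ha1
    · rcases mul_eq_zero.1 h5 with h5 | h5
      · exact Or.inl (sub_eq_zero.1 h5)
      · exact Or.inr (sub_eq_zero.1 h5)
  have h1 := hstep 1 one_ne_zero
  have h2 := hstep a ha0
  rw [mul_one, one_smul] at h1
  rw [h1] at h2
  have hall : ∀ c : F, c ≠ 0 → sev p (c • (E 0 : Fin 6 → F)) (E 1) (E 2) =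
      sev p (E 0) (E 1) (E 2) := by
    intro c hc
    have hc3 := pow_three hF hc
    have : (c - 1) * ((c - a) * (c - a * a)) = 0 := by
      have e1 : a * a + a + 1 = 0 := by
        have : (a - 1) * (a * a + a + 1) = 0 := by linear_combination ha
        exact (mul_eq_zero.1 this).resolve_left (sub_ne_zero.2 ha1)
      linear_combination hc3 + (c - c ^ 2) * e1 + (c - 1) * ha
    rcases mul_eq_zero.1 this with h5 | h5
    · rw [sub_eq_zero.1 h5, one_smul]
    · rcases mul_eq_zero.1 h5 with h5 | h5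
      · rw [sub_eq_zero.1 h5, h1]
      · rw [sub_eq_zero.1 h5, h2]
  -- the product is `t`
  have ht : sev p (E 0) (E 1) (E 2) = t := by
    have h3 := sev_cycle S hfr hω
    rw [hall ω hω0, hall (ω ^ 2) (pow_ne_zero 2 hω0)] at h3
    rcases seven_mem S hfr with h4 | h4
    · have h5 : sev p (E 0) (E 1) (E 2) = 1 := h4
      rw [h5, one_mul, one_mul] at h3
      exact absurd h3.symm S.t1
    · exact h4
  obtain ⟨u, v, w, hf, h7⟩ := S.seven
  obtain ⟨s, c, hc, s0, s1, s2⟩ := trans_frames hF hω (u := u) (v := v) (w := w)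
    ⟨hf.uu, hf.vv, hf.ww, hf.uv, hf.uw, hf.vw, hf.ind⟩
  obtain ⟨l, hl, hr⟩ := S.real s
  have h8 := sev_conj S (Lt S hl) (φ := act s) (act_add s) hr (hsm c⁻¹ (inv_ne_zero hc))
  rw [act_smul, s0, s1, s2, smul_smul, inv_mul_cancel₀ hc, one_smul, hall c⁻¹ (inv_ne_zero hc),
    ht] at h8
  have h9 : sev p u v w = 1 := h7
  rw [h9] at h8
  exact S.t1 h8.symm

/-- **Linear elements of `C(t)` lie in `L K`.** -/
theorem lin_mem {n : G} (hn : Commute n t) (h : IsLin p n) : ∃ l ∈ L, ∃ k ∈ K, n = l * k := by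
  obtain ⟨φ, hφ, ha⟩ := h
  obtain ⟨M, hM, hd⟩ := exists_mat hF hφ
  have hMh : ∀ x y, hermForm 6 F 2 (M *ᵥ x) (M *ᵥ y) = hermForm 6 F 2 x y := fun x y => by
    rw [hM, hM, hφ.herm, pow_one]
  set a := M.det with hadef
  -- remove the determinant
  have hN : ∀ x y, hermForm 6 F 2 ((M * Matrix.diagonal (dg a)) *ᵥ x)
      ((M * Matrix.diagonal (dg a)) *ᵥ y) = hermForm 6 F 2 x y := by
    intro x y
    rw [← Matrix.mulVec_mulVec, ← Matrix.mulVec_mulVec, hMh, herm_dg hd]
  have hNd : (M * Matrix.diagonal (dg a)).det = 1 := by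
    rw [Matrix.det_mul, det_dg, ← hadef, ← pow_succ', hd]
  obtain ⟨l, hl, hr⟩ := S.real (mk _ hNd hN)
  -- `n⁻¹ l` acts as the diagonal matrix
  have hiso : ∀ v, Iso F v → Iso F (Matrix.diagonal (dg a) *ᵥ v) := by
    intro v hv
    refine ⟨fun h0 => ?_, by rw [herm_dg hd]; exact hv.2⟩
    obtain ⟨y, hy⟩ := exists_herm_ne_zero hF hv.1
    rw [← herm_dg hd, h0, herm_zero_left] at hy
    exact hy rfl
  have hdiag : Acts p (n⁻¹ * l) fun v => Matrix.diagonal (dg a) *ᵥ v := by
    intro v hv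
    have h1 := hr v hv
    rw [act_mk, ← Matrix.mulVec_mulVec, hM, ← ha _ (hiso v hv)] at h1
    calc n⁻¹ * l * p v * (n⁻¹ * l)⁻¹ = n⁻¹ * (l * p v * l⁻¹) * n := by group
      _ = p (Matrix.diagonal (dg a) *ᵥ v) := by rw [h1]; group
  by_cases ha1 : a = 1
  · refine ⟨l, hl, l⁻¹ * n, ?_, by group⟩
    apply S.ker
    intro v hv
    have h1 : n⁻¹ * l * p v * (n⁻¹ * l)⁻¹ = p (Matrix.diagonal (dg a) *ᵥ v) := hdiag v hv
    have e1 : Matrix.diagonal (dg a) *ᵥ v = v := by
      rw [ha1]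
      funext i
      rw [Matrix.mulVec_diagonal]
      fin_cases i <;> simp [dg]
    rw [e1] at h1
    have h2 : Commute (n⁻¹ * l) (p v) := mul_inv_eq_iff_eq_mul.1 h1
    have h3 := h2.inv_left
    have e2 : (n⁻¹ * l)⁻¹ = l⁻¹ * n := by group
    rwa [e2] at h3
  · exact (no_diag S (hn.inv_left.mul_left (Lt S hl)) hd ha1 hdiag).elim

end S

end Cfsg.Agent.U62.Det
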