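import Cfsg.Agent.U62.Seven

/-!
Fusion, first part: `t p(u)` and `c₀ p(u) p(v)` are not conjugate to `t`.
-/

set_option autoImplicit false
set_option linter.unusedSectionVars false

namespace Cfsg.Agent.U62.FusSq

open Cfsg Cfsg.Agent.LieClassical.HermBasic Cfsg.Agent.ClassicalGeometry.UnitTransv
open Cfsg.Agent.SporadicStructure.UnitTwo
open Cfsg.Agent.R01.PSUSix Cfsg.Agent.R01.InvForm
open Cfsg.Agent.R01.Frames (Hyp hyp_std)
open Cfsg.Agent.R01.ComLabel (Iso)
open Cfsg.Agent.U62.Semi Cfsg.Agent.U62.Semi2 Cfsg.Agent.U62.Sys Cfsg.Agent.U62.Basic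
open Cfsg.Agent.U62.Lin Cfsg.Agent.U62.Outer Cfsg.Agent.U62.Seven

variable {G : Type*} [Group G] {F : Type*} [Field F] [Fintype F] {hF : Fintype.card F = 2 ^ 2}
variable {t : G} {L K : Subgroup G} {p : (Fin 6 → F) → G}

section S

variable (S : Sys hF t L K p)
include S

/-- A product of elements of order three centralizing a conjugate `x` of `t` is not a square root of `x`. -/
theorem not_sq (hK : ∀ k ∈ K, k = 1 ∨ k = t) {x w : G} (hx : IsConj t x) (hw : w ∈ Odd3 x) :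
    w * w ≠ x := by
  intro h
  obtain ⟨g, rfl⟩ := isConj_iff.1 hx
  have S' := S.conjugate g
  have h1 := odd3_lin S' hw
  have h2 := odd3_commute hw
  obtain ⟨l, hl, k, hk, rfl⟩ := lin_dec S' h2 h1 (by rw [h]; exact S'.tK)
  obtain ⟨k, hk', rfl⟩ := hk
  rcases hK k hk' with rfl | rfl
  · apply S'.nsq l hl
    simpa using h
  · apply S'.nsq l hl
    have hc : Commute l (g * k * g⁻¹) := S'.comm l hl _ S'.tK
    have e1 : l * (MulAut.conj g).toMonoidHom k * (l * (MulAut.conj g).toMonoidHom k) =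
        l * l * ((g * k * g⁻¹) * (g * k * g⁻¹)) := by
      show l * (g * k * g⁻¹) * (l * (g * k * g⁻¹)) = _
      calc l * (g * k * g⁻¹) * (l * (g * k * g⁻¹)) = l * ((g * k * g⁻¹) * l) * (g * k * g⁻¹) := by
            group
        _ = _ := by rw [← hc.eq]; group
    rw [e1, S'.tt, mul_one] at h
    exact h

/-- The product of two lifts which do not commute has order three. -/
theorem odd_pair {x : G} {a b : Fin 6 → F} (ha : Iso F a) (hb : Iso F b)
    (hab : hermForm 6 F 2 a b ≠ 0) (hax : Commute (p a) x) (hbx : Commute (p b) x) :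
    p a * p b ∈ Odd3 x := odd3_mem (S.three a b ha hb hab) (hax.mul_left hbx)

/-- The product of two lifts joined by a third one. -/
theorem odd_pair' {x : G} {a b c : Fin 6 → F} (ha : Iso F a) (hb : Iso F b) (hc : Iso F c)
    (hab : hermForm 6 F 2 a b ≠ 0) (hbc : hermForm 6 F 2 b c ≠ 0) (hax : Commute (p a) x)
    (hbx : Commute (p b) x) (hcx : Commute (p c) x) : p a * p c ∈ Odd3 x := by
  have h1 := (Odd3 x).mul_mem (odd_pair S ha hb hab hax hbx) (odd_pair S hb hc hbc hbx hcx)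
  have h2 : p a * p b * (p b * p c) = p a * p c := by
    calc p a * p b * (p b * p c) = p a * (p b * p b) * p c := by group
      _ = _ := by rw [S.sq b hb, mul_one]
  rwa [h2] at h1

theorem add_iso {a b : Fin 6 → F} (ha : Iso F a) (hb : Iso F b) (hab : hermForm 6 F 2 a b = 0)
    (h0 : a + b ≠ 0) : Iso F (a + b) := by
  refine ⟨h0, ?_⟩
  rw [herm_add_left, herm_add_right hF, herm_add_right hF, ha.2, hb.2, hab,
    herm_eq_zero_swap hF hab]
  ring

/-- The square root of `t p(u)`. -/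
theorem root_one : ∃ u, Iso F u ∧ ∃ w ∈ Odd3 (t * p u), w * w = t * p u := by
  obtain ⟨ω, hω⟩ := exists_omega hF
  have h2 := two_eq_zero hF
  have hb := hyp_std (F := F) hF hω
  obtain ⟨g, k, hb⟩ : ∃ g k : Fin 3 → (Fin 6 → F), Hyp g k := ⟨_, _, hb⟩
  have hkg := hb.kg hF
  have g0 := hyp_iso_g hF hb 0
  have g1 := hyp_iso_g hF hb 1
  have k1 := hyp_iso_k hF hb 1
  have i1 : Iso F (g 1 + g 0) := by
    have := iso_gg hF hb (i := 1) (j := 0) (by decide) 1
    rwa [one_smul] at this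
  have i2 : Iso F (k 1 + ω • g 0) := by
    refine ⟨fun h0 => ?_, ?_⟩
    · have := congrArg (fun v => hermForm 6 F 2 v (g 1)) h0
      simp [herm_add_left, herm_smul_left, hkg, hb.gg, herm_zero_left] at this
    · simp [herm_add_left, herm_add_right hF, herm_smul_left, herm_smul_right, hkg, hb.gg, hb.kk,
        hb.gk]
  -- the relation
  have hA : p (k 1) * p (k 1 + ω • g 0) * (p (g 1) * p (g 1 + g 0)) *
      (p (k 1) * p (k 1 + ω • g 0) * (p (g 1) * p (g 1 + g 0))) = t * p (g 0) := by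
    have ca : Commute (p (k 1)) (p (k 1 + ω • g 0)) := pcomm S k1 i2 (by
      simp [herm_add_right hF, herm_smul_right, hkg, hb.kk])
    have haa : p (k 1) * p (k 1 + ω • g 0) * (p (k 1) * p (k 1 + ω • g 0)) = 1 := by
      calc p (k 1) * p (k 1 + ω • g 0) * (p (k 1) * p (k 1 + ω • g 0))
          = p (k 1) * (p (k 1 + ω • g 0) * p (k 1)) * p (k 1 + ω • g 0) := by group
        _ = (p (k 1) * p (k 1)) * (p (k 1 + ω • g 0) * p (k 1 + ω • g 0)) := by
          rw [ca.symm.eq]; group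
        _ = 1 := by rw [S.sq _ k1, S.sq _ i2, mul_one]
    have cj : ∀ v, Iso F v → p (k 1) * p (k 1 + ω • g 0) * p v * (p (k 1) * p (k 1 + ω • g 0))⁻¹ =
        p (v + hermForm 6 F 2 v (k 1 + ω • g 0) • (k 1 + ω • g 0) +
          hermForm 6 F 2 (v + hermForm 6 F 2 v (k 1 + ω • g 0) • (k 1 + ω • g 0)) (k 1) • k 1) := by
      intro v hv
      exact acts_mul (acts_p S k1) (acts_p S i2) (fun x hx => by
        have := (acts_list S [k 1 + ω • g 0] (by simpa using i2) (by simpa using i2.2)).2 x hx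
        simpa using this) v hv
    have e1 := cj (g 1) g1
    have e2 := cj (g 1 + g 0) i1
    have v1 : g 1 + hermForm 6 F 2 (g 1) (k 1 + ω • g 0) • (k 1 + ω • g 0) +
        hermForm 6 F 2 (g 1 + hermForm 6 F 2 (g 1) (k 1 + ω • g 0) • (k 1 + ω • g 0)) (k 1) • k 1 =
        ω • g 0 + g 1 := by
      have f1 : hermForm 6 F 2 (g 1) (k 1 + ω • g 0) = 1 := by
        simp [herm_add_right hF, herm_smul_right, hb.gk, hb.gg]
      have f2 : hermForm 6 F 2 (g 1 + (k 1 + ω • g 0)) (k 1) = 1 := by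
        simp [herm_add_left, herm_smul_left, hb.gk, hb.kk]
      rw [f1, one_smul, f2]
      funext i
      simp only [Pi.add_apply, Pi.smul_apply, smul_eq_mul]
      linear_combination (k 1 i) * h2
    have v2 : g 1 + g 0 + hermForm 6 F 2 (g 1 + g 0) (k 1 + ω • g 0) • (k 1 + ω • g 0) +
        hermForm 6 F 2 (g 1 + g 0 + hermForm 6 F 2 (g 1 + g 0) (k 1 + ω • g 0) • (k 1 + ω • g 0))
          (k 1) • k 1 = ω ^ 2 • g 0 + g 1 := by
      have f1 : hermForm 6 F 2 (g 1 + g 0) (k 1 + ω • g 0) = 1 := by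
        simp [herm_add_right hF, herm_add_left, herm_smul_right, hb.gk, hb.gg]
      have f2 : hermForm 6 F 2 (g 1 + g 0 + (k 1 + ω • g 0)) (k 1) = 1 := by
        simp [herm_add_left, herm_smul_left, hb.gk, hb.kk]
      rw [f1, one_smul, f2]
      funext i
      simp only [Pi.add_apply, Pi.smul_apply, smul_eq_mul]
      linear_combination (k 1 i + g 0 i + ω * g 0 i) * h2 - g 0 i * hω
    rw [v1] at e1
    rw [v2] at e2
    have e3 : p (k 1) * p (k 1 + ω • g 0) * (p (g 1) * p (g 1 + g 0)) *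
        (p (k 1) * p (k 1 + ω • g 0))⁻¹ = p (ω • g 0 + g 1) * p (ω ^ 2 • g 0 + g 1) := by
      rw [← e1, ← e2]; group
    have hinv : (p (k 1) * p (k 1 + ω • g 0))⁻¹ = p (k 1) * p (k 1 + ω • g 0) :=
      inv_eq_of_mul_eq_one_left haa
    have e4 : p (k 1) * p (k 1 + ω • g 0) * (p (g 1) * p (g 1 + g 0)) *
        (p (k 1) * p (k 1 + ω • g 0) * (p (g 1) * p (g 1 + g 0))) =
        (p (ω • g 0 + g 1) * p (ω ^ 2 • g 0 + g 1)) * (p (g 1) * p (g 1 + g 0)) := by
      rw [← e3, hinv]; group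
    rw [e4]
    have hfr : Fr2 (g 0) (g 1) := (hyp_fr3 hb).fr2
    have hl := line' S hfr hω
    obtain ⟨H, iH, f, l, τ, hf, hl', hfτ⟩ := comm3 S (hyp_fr3 hb)
    have n1 : (1 : F) ≠ 0 := one_ne_zero
    have q1 : p (g 0) = f (l 1 0 0) := by rw [hl' _ _ _ (Or.inl n1)]; simp
    have q2 : p (g 1) = f (l 0 1 0) := by rw [hl' _ _ _ (Or.inr (Or.inl n1))]; simp
    have q3 : p (g 0 + g 1) = f (l 1 1 0) := by rw [hl' _ _ _ (Or.inl n1)]; simp
    have q4 : ∀ c : F, p (c • g 0 + g 1) = f (l c 1 0) := fun c => by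
      rw [hl' _ _ _ (Or.inr (Or.inl n1))]; simp
    rw [add_comm (g 1) (g 0), ← hl]
    simp only [q1, q2, q3, q4, ← map_mul]
    congr 1
    have hsq : l 1 0 0 * l 1 0 0 = 1 := by
      apply hf
      rw [map_mul, hl' _ _ _ (Or.inl n1), map_one]
      exact S.sq _ (comb_iso S (hyp_fr3 hb) (Or.inl n1))
    calc l ω 1 0 * l (ω ^ 2) 1 0 * (l 0 1 0 * l 1 1 0)
        = (l 1 0 0 * l 1 0 0) * (l ω 1 0 * l (ω ^ 2) 1 0 * (l 0 1 0 * l 1 1 0)) := by
          rw [hsq, one_mul]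
      _ = _ := by ac_rfl
  refine ⟨g 0, g0, _, ?_, hA⟩
  have ct : ∀ v, Iso F v → hermForm 6 F 2 v (g 0) = 0 → Commute (p v) (t * p (g 0)) :=
    fun v hv h => (pt S hv).mul_right (pcomm S hv g0 h)
  have ck1 := ct (k 1) k1 (by simp [hkg])
  have cg1 := ct (g 1) g1 (hb.gg 1 0)
  have c1 := ct _ i1 (by simp [herm_add_left, hb.gg])
  have c2 := ct _ i2 (by simp [herm_add_left, herm_smul_left, hkg, hb.gg])
  refine (Odd3 _).mul_mem ?_ ?_
  · refine odd_pair' S k1 g1 i2 ?_ ?_ ck1 cg1 c2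
    · simp [hkg]
    · simp [herm_add_right hF, herm_smul_right, hb.gk, hb.gg]
  · refine odd_pair' S g1 k1 i1 ?_ ?_ cg1 ck1 c1
    · simp [hb.gk]
    · simp [herm_add_right hF, hkg]

theorem odd3_conj {x w : G} (hw : w ∈ Odd3 x) (g : G) : g * w * g⁻¹ ∈ Odd3 (g * x * g⁻¹) := by
  refine Subgroup.closure_induction (p := fun y _ => g * y * g⁻¹ ∈ Odd3 (g * x * g⁻¹))
    ?_ ?_ ?_ ?_ hw
  · rintro y ⟨h3, hc⟩
    refine odd3_mem ?_ ((Commute.conj_iff g).2 hc)
    rw [conj_pow, h3]; group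
  · have : g * 1 * g⁻¹ = (1 : G) := by group
    rw [this]; exact Subgroup.one_mem _
  · intro y z _ _ hy hz
    have := (Odd3 (g * x * g⁻¹)).mul_mem hy hz
    have e : g * y * g⁻¹ * (g * z * g⁻¹) = g * (y * z) * g⁻¹ := by group
    rwa [e] at this
  · intro y _ hy
    have := (Odd3 (g * x * g⁻¹)).inv_mem hy
    have e : (g * y * g⁻¹)⁻¹ = g * y⁻¹ * g⁻¹ := by group
    rwa [e] at this

/-- `t p(u)` is not conjugate to `t`. -/
theorem one_z (hK : ∀ k ∈ K, k = 1 ∨ k = t) {u : Fin 6 → F} (hu : Iso F u) :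
    ¬ IsConj t (t * p u) := by
  intro hc
  obtain ⟨u', hu', w, hw, hww⟩ := root_one S
  obtain ⟨l, hl, h1⟩ := trans1 S hu' hu
  have e1 : l * (t * p u') * l⁻¹ = t * p u := by
    rw [← h1]
    calc l * (t * p u') * l⁻¹ = (l * t) * p u' * l⁻¹ := by group
      _ = _ := by rw [(Lt S hl).eq]; group
  have h2 := odd3_conj S hw l
  rw [e1] at h2
  refine not_sq S hK hc h2 ?_
  calc l * w * l⁻¹ * (l * w * l⁻¹) = l * (w * w) * l⁻¹ := by group
    _ = _ := by rw [hww, e1]

theorem quad {u v w : Fin 6 → F} (h : Fr3 u v w) {ω : F} (hω : ω ^ 2 + ω + 1 = 0) :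
    p u * p v * (p (u + w) * p (v + w)) =
      Sev p u v w * t * (p (ω • (u + v) + w) * p (ω ^ 2 • (u + v) + w)) := by
  obtain ⟨H, iH, f, l, τ, hf, hl', hfτ⟩ := comm3 S h
  have n1 : (1 : F) ≠ 0 := one_ne_zero
  have q1 : p u = f (l 1 0 0) := by rw [hl' _ _ _ (Or.inl n1)]; simp
  have q2 : p v = f (l 0 1 0) := by rw [hl' _ _ _ (Or.inr (Or.inl n1))]; simp
  have q3 : p w = f (l 0 0 1) := by rw [hl' _ _ _ (Or.inr (Or.inr n1))]; simp
  have q4 : p (u + v) = f (l 1 1 0) := by rw [hl' _ _ _ (Or.inl n1)]; simp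
  have q5 : p (u + w) = f (l 1 0 1) := by rw [hl' _ _ _ (Or.inl n1)]; simp
  have q6 : p (v + w) = f (l 0 1 1) := by rw [hl' _ _ _ (Or.inr (Or.inl n1))]; simp
  have q7 : p (u + v + w) = f (l 1 1 1) := by rw [hl' _ _ _ (Or.inl n1)]; simp
  have q8 : ∀ c : F, p (c • (u + v) + w) = f (l c c 1) := fun c => by
    rw [hl' _ _ _ (Or.inr (Or.inr n1))]; simp [smul_add]
  have hfr : Fr2 (u + v) w := by
    refine ⟨?_, h.ww, ?_, ?_⟩
    · simpa using comb_ort S h 1 1 0 1 1 0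
    · simpa using comb_ort S h 1 1 0 0 0 1
    · intro a b hab
      have := h.ind a a b (by rw [← hab]; module)
      exact ⟨this.1, this.2.2⟩
  have hl := line' S hfr hω
  rw [← hl, Sev]
  simp only [q1, q2, q3, q4, q5, q6, q7, q8, ← map_mul]
  congr 1
  have hsq : ∀ a b c : F, (a ≠ 0 ∨ b ≠ 0 ∨ c ≠ 0) → l a b c * l a b c = 1 := by
    intro a b c h0
    apply hf
    rw [map_mul, hl' _ _ _ h0, map_one]
    exact S.sq _ (comb S h _ _ _ h0)
  have hω0 : ω ≠ 0 := by rintro rfl; simp at hω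
  have s1 := hsq 0 0 1 (Or.inr (Or.inr n1))
  have s2 := hsq 1 1 0 (Or.inl n1)
  have s3 := hsq 1 1 1 (Or.inl n1)
  have s4 := hsq ω ω 1 (Or.inl hω0)
  have s5 := hsq (ω ^ 2) (ω ^ 2) 1 (Or.inl (pow_ne_zero 2 hω0))
  calc l 1 0 0 * l 0 1 0 * (l 1 0 1 * l 0 1 1)
      = (l 1 0 0 * l 0 1 0 * (l 1 0 1 * l 0 1 1)) * ((l 0 0 1 * l 0 0 1) * (l 1 1 0 * l 1 1 0) *
        (l 1 1 1 * l 1 1 1) * (l ω ω 1 * l ω ω 1) *
        (l (ω ^ 2) (ω ^ 2) 1 * l (ω ^ 2) (ω ^ 2) 1)) := by
        rw [s1, s2, s3, s4, s5]; simp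
    _ = _ := by ac_rfl

theorem fr_pq {u v w : Fin 6 → F} (h : Fr3 u v w) {ω : F} (hω : ω ^ 2 + ω + 1 = 0) :
    Fr2 (ω • (u + v) + w) (ω ^ 2 • (u + v) + w) := by
  have h1 := comb_ort S h ω ω 1 ω ω 1
  have h2 := comb_ort S h (ω ^ 2) (ω ^ 2) 1 (ω ^ 2) (ω ^ 2) 1
  have h3 := comb_ort S h ω ω 1 (ω ^ 2) (ω ^ 2) 1
  refine ⟨by simpa [smul_add] using h1, by simpa [smul_add] using h2, by simpa [smul_add] using h3,
    fun a b hab => ?_⟩
  have h4 := h.ind (a * ω + b * ω ^ 2) (a * ω + b * ω ^ 2) (a + b) (by rw [← hab]; module)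
  have h5 := two_eq_zero hF
  have h6 : ω ≠ 0 := by
    rintro rfl
    simp at hω
  have h7 : b = a := by linear_combination h4.2.2 - a * h5
  have h8 : a = 0 := by
    have := h4.1
    rw [h7] at this
    linear_combination a * hω - this
  exact ⟨h8, by rw [h7, h8]⟩

/-- The square root of `c₀ p(u') p(v')`. -/
theorem root_two {u v w : Fin 6 → F} (h : Fr3 u v w) {ω : F} (hω : ω ^ 2 + ω + 1 = 0) :
    ∃ s ∈ Odd3 (Sev p u v w * t * (p (ω • (u + v) + w) * p (ω ^ 2 • (u + v) + w))),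
      s * s = Sev p u v w * t * (p (ω • (u + v) + w) * p (ω ^ 2 • (u + v) + w)) := by
  obtain ⟨g, k, hb, rfl, rfl, rfl⟩ := ext3 hF h
  have h2 := two_eq_zero hF
  have hkg := hb.kg hF
  have g0 := hyp_iso_g hF hb 0
  have g1 := hyp_iso_g hF hb 1
  have g2 := hyp_iso_g hF hb 2
  obtain ⟨x, hx⟩ : ∃ x, x = k 0 + k 1 := ⟨_, rfl⟩
  have xi : Iso F x := by
    have := iso_kk hF hb (i := 0) (j := 1) (by decide) 1
    rwa [one_smul, ← hx] at this
  have gx0 : hermForm 6 F 2 (g 0) x = 1 := by simp [hx, herm_add_right hF, hb.gk]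
  have gx1 : hermForm 6 F 2 (g 1) x = 1 := by simp [hx, herm_add_right hF, hb.gk]
  have gx2 : hermForm 6 F 2 (g 2) x = 0 := by simp [hx, herm_add_right hF, hb.gk]
  have xg0 : hermForm 6 F 2 x (g 0) = 1 := by simp [hx, herm_add_left, hkg]
  have xg1 : hermForm 6 F 2 x (g 1) = 1 := by simp [hx, herm_add_left, hkg]
  have xg2 : hermForm 6 F 2 x (g 2) = 0 := herm_eq_zero_swap hF gx2
  have xwi : Iso F (x + g 2) := by
    refine add_iso S xi g2 xg2 ?_
    intro h0
    have := congrArg (fun v => hermForm 6 F 2 v (g 0)) h0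
    simp only [herm_add_left, herm_zero_left, xg0, hb.gg, add_zero] at this
    exact one_ne_zero this
  have ca : Commute (p x) (p (x + g 2)) := pcomm S xi xwi (by
    rw [herm_add_right hF, xi.2, xg2, add_zero])
  have haa : p x * p (x + g 2) * (p x * p (x + g 2)) = 1 := by
    calc p x * p (x + g 2) * (p x * p (x + g 2))
        = p x * (p (x + g 2) * p x) * p (x + g 2) := by group
      _ = (p x * p x) * (p (x + g 2) * p (x + g 2)) := by rw [ca.symm.eq]; group
      _ = 1 := by rw [S.sq _ xi, S.sq _ xwi, mul_one]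
  have hinv : (p x * p (x + g 2))⁻¹ = p x * p (x + g 2) := inv_eq_of_mul_eq_one_left haa
  have cj : ∀ v, Iso F v → hermForm 6 F 2 v x = 1 → hermForm 6 F 2 v (g 2) = 0 →
      p x * p (x + g 2) * p v * (p x * p (x + g 2))⁻¹ = p (v + g 2) := by
    intro v hv h1 h0
    have h3 := acts_mul (acts_p S xi) (acts_p S xwi) (fun y hy => by
      have := (acts_list S [x + g 2] (by simpa using xwi) (by simpa using xwi.2)).2 y hy
      simpa using this) v hv
    rw [h3]
    have f1 : hermForm 6 F 2 v (x + g 2) = 1 := by rw [herm_add_right hF, h1, h0, add_zero]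
    have f2 : hermForm 6 F 2 (v + (x + g 2)) x = 1 := by
      rw [herm_add_left, herm_add_left, h1, xi.2, gx2]; ring
    simp only [f1, one_smul, f2]
    congr 1
    funext i
    simp only [Pi.add_apply]
    linear_combination (x i) * h2
  have A1 := cj (g 0) g0 gx0 (hb.gg 0 2)
  have A2 := cj (g 1) g1 gx1 (hb.gg 1 2)
  have A3 : p x * p (x + g 2) * (p (g 0) * p (g 1)) * (p x * p (x + g 2))⁻¹ =
      p (g 0 + g 2) * p (g 1 + g 2) := by rw [← A1, ← A2]; group
  have c5 : Commute (p (g 0) * p (g 1)) (p (g 0 + g 2) * p (g 1 + g 2)) := by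
    have i1 : Iso F (g 0 + g 2) := by
      have := comb S h 1 0 1 (Or.inl one_ne_zero)
      rwa [one_smul, one_smul, zero_smul, add_zero] at this
    have i2 : Iso F (g 1 + g 2) := by
      have := comb S h 0 1 1 (Or.inr (Or.inl one_ne_zero))
      rwa [one_smul, one_smul, zero_smul, zero_add] at this
    have c1 : Commute (p (g 0)) (p (g 0 + g 2)) := pcomm S g0 i1 (by
      rw [herm_add_right hF, hb.gg, hb.gg, add_zero])
    have c2 : Commute (p (g 0)) (p (g 1 + g 2)) := pcomm S g0 i2 (by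
      rw [herm_add_right hF, hb.gg, hb.gg, add_zero])
    have c3 : Commute (p (g 1)) (p (g 0 + g 2)) := pcomm S g1 i1 (by
      rw [herm_add_right hF, hb.gg, hb.gg, add_zero])
    have c4 : Commute (p (g 1)) (p (g 1 + g 2)) := pcomm S g1 i2 (by
      rw [herm_add_right hF, hb.gg, hb.gg, add_zero])
    exact (c1.mul_right c2).mul_left (c3.mul_right c4)
  refine ⟨p x * p (x + g 2) * (p (g 0) * p (g 1)), ?_, ?_⟩
  · have ct : ∀ v, Iso F v → hermForm 6 F 2 v (g 0 + g 1) = 0 → hermForm 6 F 2 v (g 2) = 0 →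
        Commute (p v) (Sev p (g 0) (g 1) (g 2) * t *
          (p (ω • (g 0 + g 1) + g 2) * p (ω ^ 2 • (g 0 + g 1) + g 2))) := by
      intro v hv h0 h1
      have hq := fr_pq S h hω
      have c1 := pcomm S hv (Fr2.isou hq) (by
        rw [herm_add_right hF, herm_smul_right, h0, h1]; ring)
      have c2 := pcomm S hv (Fr2.isov hq) (by
        rw [herm_add_right hF, herm_smul_right, h0, h1]; ring)
      refine Commute.mul_right (Commute.mul_right ?_ (pt S hv)) (c1.mul_right c2)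
      rcases sev_mem S h with h3 | h3
      · rw [h3]; exact Commute.one_right _
      · rw [h3]; exact pt S hv
    have n0 : (1 : F) ≠ 0 := one_ne_zero
    have cx := ct x xi (by rw [herm_add_right hF, xg0, xg1]; linear_combination h2) xg2
    have cxw := ct _ xwi (by
      simp only [herm_add_right hF, herm_add_left, xg0, xg1, hb.gg]; linear_combination h2) (by
      rw [herm_add_left, xg2, hb.gg, add_zero])
    have c0 := ct _ g0 (by rw [herm_add_right hF, hb.gg, hb.gg, add_zero]) (hb.gg _ _)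
    have c1 := ct _ g1 (by rw [herm_add_right hF, hb.gg, hb.gg, add_zero]) (hb.gg _ _)
    refine (Odd3 _).mul_mem ?_ ?_
    · refine odd_pair' S xi g0 xwi (by rw [xg0]; exact n0) ?_ cx c0 cxw
      rw [herm_add_right hF, gx0, hb.gg, add_zero]; exact n0
    · refine odd_pair' S g0 xi g1 (by rw [gx0]; exact n0) (by rw [xg1]; exact n0) c0 cx c1
  · rw [← quad S h hω]
    calc p x * p (x + g 2) * (p (g 0) * p (g 1)) * (p x * p (x + g 2) * (p (g 0) * p (g 1)))
        = (p x * p (x + g 2) * (p (g 0) * p (g 1)) * (p x * p (x + g 2))⁻¹) *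
            (p (g 0) * p (g 1)) := by rw [hinv]; group
      _ = _ := by rw [A3, ← c5.eq]

/-- `c₀ p(u) p(v)` is not conjugate to `t`. -/
theorem two (hK : ∀ k ∈ K, k = 1 ∨ k = t) {a b : Fin 6 → F} (h : Fr2 a b) {c₀ : G}
    (hc : c₀ = 1 ∨ c₀ = t) : ¬ IsConj t (c₀ * (p a * p b)) := by
  intro hcj
  obtain ⟨ω, hω⟩ := exists_omega hF
  have hex : ∃ u v w, Fr3 u v w ∧ Sev p u v w * t = c₀ := by
    rcases hc with rfl | rfl
    · obtain ⟨u, v, w, h1, h2⟩ := exists_t S
      exact ⟨u, v, w, h1, by rw [h2, S.tt]⟩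
    · obtain ⟨u, v, w, h1, h2⟩ := exists_one S
      exact ⟨u, v, w, h1, by rw [h2, one_mul]⟩
  obtain ⟨u, v, w, h1, h2⟩ := hex
  obtain ⟨s, hs, hss⟩ := root_two S h1 hω
  rw [h2] at hs hss
  obtain ⟨l, hl, e1, e2⟩ := trans2 S (fr_pq S h1 hω) h
  have hlc : Commute l c₀ := by
    rcases hc with rfl | rfl
    · exact Commute.one_right l
    · exact Lt S hl
  have e3 : l * (c₀ * (p (ω • (u + v) + w) * p (ω ^ 2 • (u + v) + w))) * l⁻¹ =
      c₀ * (p a * p b) := by
    rw [← e1, ← e2]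
    calc _ = (l * c₀) * (p (ω • (u + v) + w) * p (ω ^ 2 • (u + v) + w)) * l⁻¹ := by group
      _ = _ := by rw [hlc.eq]; group
  have h3 := odd3_conj S hs l
  rw [e3] at h3
  refine not_sq S hK hcj h3 ?_
  calc l * s * l⁻¹ * (l * s * l⁻¹) = l * (s * s) * l⁻¹ := by group
    _ = _ := by rw [hss, e3]

end S

end Cfsg.Agent.U62.FusSq
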