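import Mathlib

/-!
Transfer of a sign character to a group in which an involution fixes exactly one coset.
-/

set_option autoImplicit false
set_option linter.unusedSectionVars false

namespace Cfsg.Agent.U62.Transfer

variable {G : Type*} [Group G]

section

variable (M : Subgroup G) {t : G}

/-- The orbits of an involution on the cosets. -/
def orb (tt : t * t = 1) : Setoid (G ⧸ M) where
  r q q' := q' = q ∨ q' = t • q
  iseqv := by
    refine ⟨fun q => Or.inl rfl, ?_, ?_⟩
    · rintro q q' (h | h)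
      · exact Or.inl h.symm
      · right
        rw [h, smul_smul, tt, one_smul]
    · rintro q q' q'' (h | h) (h' | h')
      · exact Or.inl (h'.trans h)
      · exact Or.inr (by rw [h', h])
      · exact Or.inr (by rw [h', h])
      · exact Or.inl (by rw [h', h, smul_smul, tt, one_smul])

open Classical in
/-- An equivariant section. -/
noncomputable def sec (tt : t * t = 1) (q : G ⧸ M) : G :=
  if q = ((1 : G) : G ⧸ M) then 1 else
    if q = (Quotient.mk (orb M tt) q).out then q.out else t * (Quotient.mk (orb M tt) q).out.out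

theorem sec_one (tt : t * t = 1) : sec M tt ((1 : G) : G ⧸ M) = 1 := if_pos rfl

theorem out_cases (tt : t * t = 1) (q : G ⧸ M) : (Quotient.mk (orb M tt) q).out = q ∨
    q = t • (Quotient.mk (orb M tt) q).out := by
  have h : (orb M tt).r (Quotient.mk (orb M tt) q).out q := Quotient.mk_out (s := orb M tt) q
  rcases h with h | h
  · exact Or.inl h.symm
  · exact Or.inr h

theorem coe_sec (tt : t * t = 1) (q : G ⧸ M) : ((sec M tt q : G) : G ⧸ M) = q := by
  unfold sec
  split_ifs with h1 h2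
  · exact h1.symm
  · exact Quotient.out_eq' q
  · rcases out_cases M tt q with h | h
    · exact absurd h.symm h2
    · conv_rhs => rw [h]
      rw [← smul_eq_mul, ← MulAction.Quotient.smul_coe]
      congr 1
      exact Quotient.out_eq' _

theorem sec_smul (tt : t * t = 1) (q : G ⧸ M) (hq : q ≠ ((1 : G) : G ⧸ M)) (hq1 : t • q ≠ q)
    (hq2 : t • q ≠ ((1 : G) : G ⧸ M)) : sec M tt (t • q) = t * sec M tt q := by
  have hmk : Quotient.mk (orb M tt) (t • q) = Quotient.mk (orb M tt) q := by
    apply Quotient.sound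
    exact Or.inr (by rw [smul_smul, tt, one_smul])
  rcases out_cases M tt q with h | h
  · -- `q` is the representative
    rw [sec, if_neg hq2, hmk, h, if_neg hq1, sec, if_neg hq, h, if_pos rfl]
  · have h3 : t • q = (Quotient.mk (orb M tt) q).out := by
      conv_lhs => rw [h]
      rw [smul_smul, tt, one_smul]
    have h4 : q ≠ (Quotient.mk (orb M tt) q).out := by
      rw [← h3]; exact fun h5 => hq1 h5.symm
    rw [sec, if_neg hq2, hmk, if_pos h3, sec, if_neg hq, if_neg h4, ← h3, ← mul_assoc, tt, one_mul]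

end

variable [Finite G] {M : Subgroup G} {t : G}

theorem mem_of_commute (htM : t ∈ M) (hfix : ∀ g : G, g⁻¹ * t * g ∈ M → g ∈ M) {x : G}
    (hx : Commute x t) : x ∈ M := by
  apply hfix
  rw [mul_assoc, ← hx.eq, inv_mul_cancel_left]
  exact htM

theorem transfer_eq (χ : M →* ℤˣ) (tt : t * t = 1) (htM : t ∈ M)
    (hfix : ∀ g : G, g⁻¹ * t * g ∈ M → g ∈ M)
    {x : G} (hx : Commute x t) (hxM : x ∈ M) : χ.transfer x = χ ⟨x, hxM⟩ := by
  classical
  let T : M.LeftTransversal := ⟨Set.range (sec M tt), Subgroup.isComplement_range_left (coe_sec M tt)⟩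
  have hT : ∀ q : G ⧸ M, (T.2.leftQuotientEquiv q : G) = sec M tt q :=
    Subgroup.IsComplement.leftQuotientEquiv_apply (coe_sec M tt)
  have hti : t⁻¹ = t := inv_eq_of_mul_eq_one_left tt
  rw [MonoidHom.transfer_def χ T x]
  unfold Subgroup.leftTransversals.diff
  let _ := M.fintypeQuotientOfFiniteIndex
  -- the factors
  let f : G ⧸ M → ℤˣ := fun q => χ ⟨(T.2.leftQuotientEquiv q : G)⁻¹ *
    ((x • T).2.leftQuotientEquiv q : G), QuotientGroup.leftRel_apply.mp <|
      Quotient.exact' ((T.2.leftQuotientEquiv.symm_apply_apply q).trans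
        ((x • T).2.leftQuotientEquiv.symm_apply_apply q).symm)⟩
  have hf : ∀ q (h : (sec M tt q)⁻¹ * (x * sec M tt (x⁻¹ • q)) ∈ M), f q = χ ⟨_, h⟩ := by
    intro q h
    show χ _ = χ _
    congr 1
    apply Subtype.ext
    show (T.2.leftQuotientEquiv q : G)⁻¹ * ((x • T).2.leftQuotientEquiv q : G) = _
    rw [Subgroup.smul_apply_eq_smul_apply_inv_smul, hT, hT]
    rfl
  have hmem : ∀ q, (sec M tt q)⁻¹ * (x * sec M tt (x⁻¹ • q)) ∈ M := by
    intro q
    rw [← QuotientGroup.eq, coe_sec, ← smul_eq_mul, ← MulAction.Quotient.smul_coe, coe_sec,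
      smul_inv_smul]
  show ∏ q, f q = _
  -- fixed cosets
  have hfx : ∀ q : G ⧸ M, t • q = q → q = ((1 : G) : G ⧸ M) := by
    intro q hq
    induction q using QuotientGroup.induction_on with
    | H g =>
      have h1 : ((t * g : G) : G ⧸ M) = (g : G ⧸ M) := hq
      have h2 : g⁻¹ * (t * g) ∈ M := QuotientGroup.eq.1 h1.symm
      have h3 : g ∈ M := hfix g (by rwa [mul_assoc])
      exact (QuotientGroup.eq.2 (by rwa [inv_one, one_mul])).symm
  have hone : ∀ m ∈ M, m • ((1 : G) : G ⧸ M) = ((1 : G) : G ⧸ M) := by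
    intro m hm
    show ((m * 1 : G) : G ⧸ M) = _
    rw [mul_one]
    exact (QuotientGroup.eq.2 (by rwa [inv_one, one_mul])).symm
  have hne : ∀ m ∈ M, ∀ q : G ⧸ M, q ≠ ((1 : G) : G ⧸ M) → m • q ≠ ((1 : G) : G ⧸ M) := by
    intro m hm q hq h
    apply hq
    rw [← hone m hm] at h
    exact smul_left_cancel m h
  have h1 : f ((1 : G) : G ⧸ M) = χ ⟨x, hxM⟩ := by
    rw [hf _ (hmem _)]
    congr 1
    apply Subtype.ext
    show (sec M tt _)⁻¹ * (x * sec M tt _) = x
    rw [hone x⁻¹ (M.inv_mem hxM), sec_one, inv_one, one_mul, mul_one]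
  have hxt : x⁻¹ * t = t * x⁻¹ := hx.inv_left.eq
  have hstep : ∀ q : G ⧸ M, q ≠ ((1 : G) : G ⧸ M) → f (t • q) = f q := by
    intro q hq
    have hq' := hne x⁻¹ (M.inv_mem hxM) q hq
    rw [hf _ (hmem _), hf _ (hmem _)]
    congr 1
    apply Subtype.ext
    show (sec M tt (t • q))⁻¹ * (x * sec M tt (x⁻¹ • t • q)) = (sec M tt q)⁻¹ *
      (x * sec M tt (x⁻¹ • q))
    rw [sec_smul M tt q hq (fun h => hq (hfx q h)) (hne t htM q hq), smul_smul, hxt, ← smul_smul,
      sec_smul M tt _ hq' (fun h => hq' (hfx _ h)) (hne t htM _ hq'), mul_inv_rev, hti]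
    calc (sec M tt q)⁻¹ * t * (x * (t * sec M tt (x⁻¹ • q)))
        = (sec M tt q)⁻¹ * (t * (x * t)) * sec M tt (x⁻¹ • q) := by group
      _ = (sec M tt q)⁻¹ * (x * sec M tt (x⁻¹ • q)) := by
          rw [hx.eq, ← mul_assoc t t x, tt, one_mul, mul_assoc]
  rw [← Finset.mul_prod_erase Finset.univ f (Finset.mem_univ ((1 : G) : G ⧸ M)), h1]
  have h2 : ∏ q ∈ Finset.univ.erase ((1 : G) : G ⧸ M), f q = 1 := by
    refine Finset.prod_involution (fun q _ => t • q) ?_ ?_ ?_ ?_
    · intro q hq
      rw [hstep q (Finset.ne_of_mem_erase hq), Int.units_mul_self]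
    · intro q hq _ h
      exact (Finset.ne_of_mem_erase hq) (hfx q h)
    · intro q hq
      exact Finset.mem_erase.2 ⟨hne t htM q (Finset.ne_of_mem_erase hq), Finset.mem_univ _⟩
    · intro q _
      show t • t • q = q
      rw [smul_smul, tt, one_smul]
  rw [h2, mul_one]

/-- In a simple group the character is trivial on the centraliser of the involution. -/
theorem eq_one [IsSimpleGroup G] (hG : ¬ IsMulCommutative G) (χ : M →* ℤˣ) (tt : t * t = 1)
    (htM : t ∈ M) (hfix : ∀ g : G, g⁻¹ * t * g ∈ M → g ∈ M) {x : G} (hx : Commute x t)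
    (hxM : x ∈ M) : χ ⟨x, hxM⟩ = 1 := by
  rw [← transfer_eq χ tt htM hfix hx hxM]
  rcases (inferInstance : (χ.transfer.ker).Normal).eq_bot_or_eq_top with h | h
  · exfalso
    apply hG
    have hinj : Function.Injective χ.transfer := (MonoidHom.ker_eq_bot_iff _).1 h
    exact ⟨⟨fun a b => hinj (by rw [map_mul, map_mul, mul_comm])⟩⟩
  · have : x ∈ χ.transfer.ker := by rw [h]; trivial
    exact this


end Cfsg.Agent.U62.Transfer
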