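import Cfsg.Agent.U62.Comp
import Cfsg.Agent.U62.Det
import Cfsg.Agent.U62.Transfer

/-!
From the fusion statements to the component of `t` in the commuting graph on its conjugacy class.
-/

set_option autoImplicit false
set_option linter.unusedSectionVars false

namespace Cfsg.Agent.U62.Glue

open Cfsg Cfsg.Agent.LieClassical.HermBasic
open Cfsg.Agent.SporadicStructure.UnitTwo
open Cfsg.Agent.R01.InvForm
open Cfsg.Agent.R01.Closing (Conn)
open Cfsg.Agent.R01.ComLabel
open Cfsg.Agent.R01.Component (Nb Gam Near conn_iff ncard_Gam three)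
open Cfsg.Agent.U62.Semi Cfsg.Agent.U62.Semi2 Cfsg.Agent.U62.Sys Cfsg.Agent.U62.Basic
open Cfsg.Agent.U62.Lin

variable {G : Type*} [Group G] {F : Type*} [Field F] [Fintype F] {hF : Fintype.card F = 2 ^ 2}
variable {t : G} {L K : Subgroup G} {p : (Fin 6 → F) → G}

/-- The conjugacy class. -/
def D (t : G) : Set G := {x | IsConj t x}

theorem mem_D {t x : G} : x ∈ D t ↔ IsConj t x := Iff.rfl

/-- The component of `t`. -/
def Del (t : G) : Set G := {x | Conn (D t) t x}

theorem mem_Del {t x : G} : x ∈ Del t ↔ Conn (D t) t x := Iff.rfl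

theorem D_conj {t : G} (g a : G) (ha : a ∈ D t) : g * a * g⁻¹ ∈ D t :=
  (ha : IsConj t a).trans (isConj_iff.2 ⟨g, rfl⟩)

theorem self_D (t : G) : t ∈ D t := IsConj.refl t

section S

variable (S : Sys hF t L K p)
include S

theorem label (hD : ∀ x, IsConj t x → Commute x t → x = t ∨ ∃ v, Iso F v ∧ x = p v)
    (hp : ∀ v, Iso F v → IsConj t (p v)) : IsLabel F (D t) t p := by
  refine ⟨fun v hv => ⟨hp v hv, S.net v hv, pt S hv⟩, fun a ha hne hc => ?_, S.smul,
    fun u v hu hv h => ?_, fun u v hu hv => acts_p S hu v hv⟩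
  · rcases hD a ha hc with h | ⟨v, hv, h⟩
    · exact absurd h hne
    · exact ⟨v, hv, h.symm⟩
  · obtain ⟨c, _, hc⟩ := S.inj u v hu hv h
    exact ⟨c, hc⟩

theorem data (hD : ∀ x, IsConj t x → Commute x t → x = t ∨ ∃ v, Iso F v ∧ x = p v)
    (hp : ∀ v, Iso F v → IsConj t (p v)) : Comp.Data F (D t) := by
  have hl := label S hD hp
  have hsq : ∀ a ∈ D t, a * a = 1 := by
    intro a ha
    obtain ⟨g, rfl⟩ := isConj_iff.1 ha
    calc g * t * g⁻¹ * (g * t * g⁻¹) = g * (t * t) * g⁻¹ := by group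
      _ = 1 := by rw [S.tt, mul_one, mul_inv_cancel]
  refine ⟨hsq, fun g a ha => D_conj g a ha, ?_, ?_⟩
  · intro y hy
    obtain ⟨g, rfl⟩ := isConj_iff.1 hy
    exact ⟨_, hl.conjugate (fun a ha g => D_conj g a ha) g⟩
  · intro a ha b hb c hc hab hac hbc cab cac cbc habc
    obtain ⟨g, rfl⟩ := isConj_iff.1 ha
    obtain ⟨b', hb'⟩ : ∃ b', b' = g⁻¹ * b * g := ⟨_, rfl⟩
    obtain ⟨c', hc'⟩ : ∃ c', c' = g⁻¹ * c * g := ⟨_, rfl⟩
    have eb : b = g * b' * g⁻¹ := by rw [hb']; group
    have ec : c = g * c' * g⁻¹ := by rw [hc']; group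
    have hbD : b' ∈ D t := by
      rw [hb']
      have := D_conj g⁻¹ b hb
      rwa [inv_inv] at this
    have hcD : c' ∈ D t := by
      rw [hc']
      have := D_conj g⁻¹ c hc
      rwa [inv_inv] at this
    have hxD : t * b' * c' ∈ D t := by
      have := D_conj g⁻¹ _ habc
      have e : g⁻¹ * (g * t * g⁻¹ * b * c) * g⁻¹⁻¹ = t * b' * c' := by rw [eb, ec]; group
      rwa [e] at this
    rw [eb] at hab hbc cab cbc
    rw [ec] at hac hbc cac cbc
    have hab' : b' ≠ t := fun h => hab (by rw [h])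
    have hac' : c' ≠ t := fun h => hac (by rw [h])
    have hbc' : b' ≠ c' := fun h => hbc (by rw [h])
    have cab' : Commute t b' := (Commute.conj_iff g).1 cab
    have cac' : Commute t c' := (Commute.conj_iff g).1 cac
    have cbc' : Commute b' c' := (Commute.conj_iff g).1 cbc
    obtain ⟨u, hu, hub⟩ := hl.surj b' hbD hab' cab'.symm
    obtain ⟨v, hv, hvc⟩ := hl.surj c' hcD hac' cac'.symm
    have huv : hermForm 6 F 2 u v = 0 := by
      rw [← S.comm_iff u v hu hv, hub, hvc]; exact cbc'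
    have hbb := hsq b' hbD
    have hcc := hsq c' hcD
    have hxt : Commute (t * b' * c') t := ((Commute.refl t).mul_left cab'.symm).mul_left cac'.symm
    by_cases hx : t * b' * c' = t
    · apply hbc'
      have h1 : b' * c' = 1 := by
        have : t * (b' * c') = t * 1 := by rw [← mul_assoc, hx, mul_one]
        exact mul_left_cancel this
      rw [eq_inv_of_mul_eq_one_left h1, inv_eq_of_mul_eq_one_left hcc]
    · obtain ⟨w, hw, hwx⟩ := hl.surj _ hxD hx hxt
      have hwb : Commute (t * b' * c') b' := (cab'.mul_left (Commute.refl b')).mul_left cbc'.symm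
      have hwc : Commute (t * b' * c') c' := (cac'.mul_left cbc').mul_left (Commute.refl c')
      have huw : hermForm 6 F 2 u w = 0 := by
        rw [← S.comm_iff u w hu hw, hub, hwx]; exact hwb.symm
      have hvw : hermForm 6 F 2 v w = 0 := by
        rw [← S.comm_iff v w hv hw, hvc, hwx]; exact hwc.symm
      refine (S.triple u v w hu hv hw huv huw hvw).2 ?_
      rw [hub, hvc, hwx]
      calc b' * c' * (t * b' * c') = b' * (c' * t) * b' * c' := by group
        _ = b' * (t * c') * b' * c' := by rw [cac'.eq]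
        _ = (b' * t) * (c' * b') * c' := by group
        _ = (t * b') * (b' * c') * c' := by rw [cab'.eq, cbc'.eq]
        _ = t * (b' * b') * (c' * c') := by group
        _ = t := by rw [hbb, hcc, mul_one, mul_one]

end S

/-! ### The component -/

theorem t_mem (t : G) : t ∈ Del t := Cfsg.Agent.R01.Closing.Conn.refl _ _

theorem Del_D {t x : G} (h : x ∈ Del t) : x ∈ D t := Cfsg.Agent.R01.Closing.Conn.mem h (self_D t)

/-- The stabiliser of the component. -/
def MM (t : G) : Subgroup G :=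
  Cfsg.Agent.R01.Closing.M (D t) (fun g a ha => D_conj g a ha) t

theorem mem_MM {t g : G} : g ∈ MM t ↔ g * t * g⁻¹ ∈ Del t := Iff.rfl

/-- Elements of the stabiliser preserve the component. -/
theorem conj_mem {t g : G} (hg : g ∈ MM t) {x : G} (hx : x ∈ Del t) : g * x * g⁻¹ ∈ Del t := by
  have h1 : Conn (D t) (g * t * g⁻¹) (g * x * g⁻¹) :=
    Cfsg.Agent.R01.Closing.Conn.conj (fun g a ha => D_conj g a ha) hx g
  exact Cfsg.Agent.R01.Closing.Conn.trans hg h1

theorem conj_mem_iff {t g : G} (hg : g ∈ MM t) (x : G) : x ∈ Del t ↔ g * x * g⁻¹ ∈ Del t := by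
  refine ⟨conj_mem hg, fun h => ?_⟩
  have := conj_mem ((MM t).inv_mem hg) h
  have e : g⁻¹ * (g * x * g⁻¹) * g⁻¹⁻¹ = x := by group
  rwa [e] at this

theorem MM_of_commute {t g : G} (h : Commute g t) : g ∈ MM t := by
  rw [mem_MM, h.eq, mul_inv_cancel_right]
  exact t_mem t

theorem Del_le_MM {t x : G} (hx : x ∈ Del t) : x ∈ MM t := by
  have h1 : x ∈ Cfsg.Agent.R01.Closing.M (D t) (fun g a ha => D_conj g a ha) x :=
    Cfsg.Agent.R01.Closing.mem_M_of_comm _ rfl
  rw [← Cfsg.Agent.R01.Closing.M_eq_of_conn (fun g a ha => D_conj g a ha) hx] at h1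
  exact h1

variable (X : Comp.Data F (D t))
include X

theorem fix_one (hF : Fintype.card F = 2 ^ 2) (g : G) (hg : g⁻¹ * t * g ∈ MM t) : g ∈ MM t := by
  have h1 : g⁻¹ * t * g ∈ D t := by
    have := D_conj g⁻¹ t (self_D t)
    rwa [inv_inv] at this
  have h2 : g⁻¹ * t * g ∈ Del t := Comp.conn_of_mem_M hF X (self_D t) h1 hg
  exact Cfsg.Agent.R01.Closing.mem_M_of_conj_eq (fun g a ha => D_conj g a ha) h2
    (Cfsg.Agent.R01.Closing.Conn.refl _ _) (by group)

theorem three_Del (hF : Fintype.card F = 2 ^ 2) {a b : G} (ha : a ∈ Del t) (hb : b ∈ Del t) :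
    Commute a b ∨ (a * b) ^ 3 = 1 :=
  three hF X.lab X.sq (Del_D ha)
    (Cfsg.Agent.R01.Closing.Conn.trans (Cfsg.Agent.R01.Closing.Conn.symm ha) hb)

theorem ncard_noncomm [Finite G] (hF : Fintype.card F = 2 ^ 2) :
    {e | e ∈ Del t ∧ ¬ Commute e t}.ncard = 2816 := by
  rw [← ncard_Gam hF X.lab (self_D t)]
  congr 1
  ext e
  show (e ∈ Del t ∧ ¬ Commute e t) ↔ e ∈ Gam (D t) t
  rw [Cfsg.Agent.R01.Component.mem_Gam, mem_Del, conn_iff hF X.lab (self_D t)]
  constructor
  · rintro ⟨⟨h1, h2⟩, h3⟩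
    exact ⟨h1, h3, h2⟩
  · rintro ⟨h1, h3, h2⟩
    exact ⟨⟨h1, h2⟩, h3⟩

end Cfsg.Agent.U62.Glue
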