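import Cfsg.Agent.U62.Basic

/-!
Elements acting linearly and semilinearly on the labels; products of commuting labels.
-/

set_option autoImplicit false
set_option linter.unusedSectionVars false

namespace Cfsg.Agent.U62.Lin

open Cfsg Cfsg.Agent.LieClassical.HermBasic Cfsg.Agent.ClassicalGeometry.UnitTransv
open Cfsg.Agent.SporadicStructure.UnitTwo
open Cfsg.Agent.R01.PSUSix Cfsg.Agent.R01.InvForm
open Cfsg.Agent.R01.Frames (Hyp)
open Cfsg.Agent.R01.ComLabel (Iso)
open Cfsg.Agent.U62.Semi Cfsg.Agent.U62.Semi2 Cfsg.Agent.U62.Sys Cfsg.Agent.U62.Basic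

variable {G : Type*} [Group G] {F : Type*} [Field F] [Fintype F] {hF : Fintype.card F = 2 ^ 2}
variable {t : G} {L K : Subgroup G} {p : (Fin 6 → F) → G}

/-- `n` acts linearly. -/
def IsLin (p : (Fin 6 → F) → G) (n : G) : Prop := ∃ φ, Sem (F := F) 1 φ ∧ Acts p n φ

/-- `n` acts semilinearly. -/
def IsSLin (p : (Fin 6 → F) → G) (n : G) : Prop := ∃ φ, Sem (F := F) 2 φ ∧ Acts p n φ

section S

variable (S : Sys hF t L K p)
include S

theorem lin_or {n : G} (hn : Commute n t) : IsLin p n ∨ IsSLin p n := by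
  obtain ⟨e, φ, he, hφ, ha⟩ := S.semi n hn
  rcases he with rfl | rfl
  · exact Or.inl ⟨φ, hφ, ha⟩
  · exact Or.inr ⟨φ, hφ, ha⟩

theorem lin_mul {n m : G} (hn : IsLin p n) (hm : IsLin p m) : IsLin p (n * m) := by
  obtain ⟨φ, hφ, ha⟩ := hn
  obtain ⟨ψ, hψ, hb⟩ := hm
  exact ⟨_, hφ.comp hψ, acts_mul ha hb fun v hv => hψ.iso hF (Or.inl rfl) hv⟩

theorem slin_mul_slin {n m : G} (hn : IsSLin p n) (hm : IsSLin p m) : IsLin p (n * m) := by
  obtain ⟨φ, hφ, ha⟩ := hn
  obtain ⟨ψ, hψ, hb⟩ := hm
  exact ⟨_, (hφ.comp hψ).four hF, acts_mul ha hb fun v hv => hψ.iso hF (Or.inr rfl) hv⟩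

theorem slin_mul_lin {n m : G} (hn : IsSLin p n) (hm : IsLin p m) : IsSLin p (n * m) := by
  obtain ⟨φ, hφ, ha⟩ := hn
  obtain ⟨ψ, hψ, hb⟩ := hm
  exact ⟨_, hφ.comp hψ, acts_mul ha hb fun v hv => hψ.iso hF (Or.inl rfl) hv⟩

theorem lin_mul_slin {n m : G} (hn : IsLin p n) (hm : IsSLin p m) : IsSLin p (n * m) := by
  obtain ⟨φ, hφ, ha⟩ := hn
  obtain ⟨ψ, hψ, hb⟩ := hm
  exact ⟨_, hφ.comp hψ, acts_mul ha hb fun v hv => hψ.iso hF (Or.inr rfl) hv⟩

theorem lin_sq {n : G} (hn : Commute n t) : IsLin p (n * n) := by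
  rcases lin_or S hn with h | h
  · exact lin_mul S h h
  · exact slin_mul_slin S h h

theorem lin_one : IsLin p (1 : G) := ⟨_, sem_id, fun v _ => by group⟩

theorem lin_L {l : G} (hl : l ∈ L) : IsLin p l := by
  obtain ⟨g, hg⟩ := S.lin l hl
  exact ⟨act g, sem_act g, hg⟩

theorem lin_K {k : G} (hk : k ∈ K) : IsLin p k :=
  ⟨_, sem_id, fun v hv => by rw [(S.comm _ (S.pL v hv) k hk).symm.eq, mul_inv_cancel_right]⟩

theorem not_slin_one : ¬ IsSLin p (1 : G) := by
  rintro ⟨φ, hφ, ha⟩
  have := (scal_all hF (Or.inr rfl) hφ fun v hv =>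
    (acts_commute S (Or.inr rfl) hφ ha hv).1 (Commute.one_left _)).1
  exact absurd this (by norm_num)

theorem not_both {n : G} (hn : Commute n t) (h : IsLin p n) (h' : IsSLin p n) : False := by
  rcases lin_or S hn.inv_left with h1 | h1
  · apply not_slin_one S
    have := lin_mul_slin S h1 h'
    rwa [inv_mul_cancel] at this
  · apply not_slin_one S
    have := slin_mul_lin S h1 h
    rwa [inv_mul_cancel] at this

theorem lin_inv {n : G} (hn : Commute n t) (h : IsLin p n) : IsLin p n⁻¹ := by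
  rcases lin_or S hn.inv_left with h1 | h1
  · exact h1
  · exfalso
    apply not_slin_one S
    have := slin_mul_lin S h1 h
    rwa [inv_mul_cancel] at this

theorem lin_cube {n : G} (hn : Commute n t) (h3 : n ^ 3 = 1) : IsLin p n := by
  have h1 := lin_sq S hn
  have h2 := lin_mul S h1 h1
  have e : n * n * (n * n) = n := by
    calc n * n * (n * n) = n ^ 3 * n := by rw [pow_succ, pow_two]; group
      _ = n := by rw [h3, one_mul]
  rwa [e] at h2

/-- Linear elements with square in `K` lie in `L K`. -/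
theorem lin_dec {n : G} (hn : Commute n t) (h : IsLin p n) (hnn : n * n ∈ K) :
    ∃ l ∈ L, ∃ k ∈ K, n = l * k := by
  obtain ⟨e, φ, he, hφ, ha, hφφ⟩ := norm_inv S hn hnn
  rcases he with rfl | rfl
  · obtain ⟨g, k, S0, hyp, hform⟩ := lin_normal hF hφ hφφ
    -- `φ` is in `SU`
    obtain ⟨M, hM, hd3⟩ := exists_mat hF hφ
    have hMM : M * M = 1 := by
      apply Matrix.toLin'.injective
      apply LinearMap.ext
      intro v
      rw [Matrix.toLin'_apply, Matrix.toLin'_apply, ← Matrix.mulVec_mulVec, hM, hM, hφφ,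
        Matrix.one_mulVec]
    have hd2 : M.det * M.det = 1 := by rw [← Matrix.det_mul, hMM, Matrix.det_one]
    have hd : M.det = 1 := by linear_combination hd3 - M.det * hd2
    obtain ⟨l, hl, hr⟩ := S.real (mk M hd (fun x y => by rw [hM, hM, hφ.herm, pow_one]))
    refine ⟨l, hl, l⁻¹ * n, ?_, by group⟩
    apply S.ker
    intro v hv
    have h1 := hr v hv
    rw [act_mk, hM, ← ha v hv] at h1
    rw [commute_iff_eq]
    calc l⁻¹ * n * p v = l⁻¹ * (n * p v * n⁻¹) * n := by group
      _ = l⁻¹ * (l * p v * l⁻¹) * n := by rw [h1]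
      _ = p v * (l⁻¹ * n) := by group
  · exact absurd ⟨φ, hφ, ha⟩ (fun h' => not_both S hn h h')

/-- The action of a product of commuting labels. -/
theorem acts_list (l : List (Fin 6 → F)) (hiso : ∀ u ∈ l, Iso F u)
    (hort : ∀ u ∈ l, ∀ v ∈ l, hermForm 6 F 2 u v = 0) :
    Acts p (l.map p).prod (fun v => v + (l.map fun u => hermForm 6 F 2 v u • u).sum) ∧
      ∀ v, Iso F v → Iso F (v + (l.map fun u => hermForm 6 F 2 v u • u).sum) := by
  induction l with
  | nil => exact ⟨fun v _ => by simp, fun v hv => by simpa using hv⟩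
  | cons u l ih =>
    obtain ⟨h1, h2⟩ := ih (fun x hx => hiso x (List.mem_cons_of_mem _ hx))
      (fun x hx y hy => hort x (List.mem_cons_of_mem _ hx) y (List.mem_cons_of_mem _ hy))
    have hu := hiso u (List.mem_cons_self)
    have hsum : ∀ v, hermForm 6 F 2 ((l.map fun u => hermForm 6 F 2 v u • u).sum) u = 0 := by
      intro v
      have : ∀ l' : List (Fin 6 → F), (∀ x ∈ l', hermForm 6 F 2 x u = 0) →
          hermForm 6 F 2 ((l'.map fun u => hermForm 6 F 2 v u • u).sum) u = 0 := by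
        intro l' hl'
        induction l' with
        | nil => simp [herm_zero_left]
        | cons x l' ih' =>
          rw [List.map_cons, List.sum_cons, herm_add_left, herm_smul_left,
            hl' x List.mem_cons_self, ih' fun y hy => hl' y (List.mem_cons_of_mem _ hy)]
          ring
      exact this l fun x hx => hort x (List.mem_cons_of_mem _ hx) u List.mem_cons_self
    have hform : ∀ v, v + ((u :: l).map fun u => hermForm 6 F 2 v u • u).sum =
        (v + (l.map fun u => hermForm 6 F 2 v u • u).sum) +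
          hermForm 6 F 2 (v + (l.map fun u => hermForm 6 F 2 v u • u).sum) u • u := by
      intro v
      rw [herm_add_left, hsum, add_zero, List.map_cons, List.sum_cons]
      abel
    constructor
    · intro v hv
      rw [List.map_cons, List.prod_cons]
      simp only [hform]
      exact acts_mul (acts_p S hu) h1 h2 v hv
    · intro v hv
      rw [hform]
      have h5 := h2 v hv
      have h6 : ∀ x, x + hermForm 6 F 2 x u • u = act (T hF u hu.2) x := fun x => by rw [act_T]
      rw [h6]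
      exact (sem_act _).iso hF (Or.inl rfl) h5

/-- Linear combinations of a frame. -/
theorem comb_iso {u v w : Fin 6 → F} (h : Fr3 u v w) {a b c : F} (h0 : a ≠ 0 ∨ b ≠ 0 ∨ c ≠ 0) :
    Iso F (a • u + b • v + c • w) := by
  constructor
  · intro h1
    obtain ⟨h2, h3, h4⟩ := h.ind a b c h1
    rcases h0 with h0 | h0 | h0
    · exact h0 h2
    · exact h0 h3
    · exact h0 h4
  · simp only [herm_add_left, herm_add_right hF, herm_smul_left, herm_smul_right, h.uu, h.vv, h.ww,
      h.uv, h.uw, h.vw, herm_eq_zero_swap hF h.uv, herm_eq_zero_swap hF h.uw,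
      herm_eq_zero_swap hF h.vw, mul_zero, add_zero]

theorem comb_ort {u v w : Fin 6 → F} (h : Fr3 u v w) (a b c a' b' c' : F) :
    hermForm 6 F 2 (a • u + b • v + c • w) (a' • u + b' • v + c' • w) = 0 := by
  simp only [herm_add_left, herm_add_right hF, herm_smul_left, herm_smul_right, h.uu, h.vv, h.ww,
      h.uv, h.uw, h.vw, herm_eq_zero_swap hF h.uv, herm_eq_zero_swap hF h.uw,
      herm_eq_zero_swap hF h.vw, mul_zero, add_zero]

/-- The product over a Baer subplane is `1` or `t`. -/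
theorem seven_mem {u v w : Fin 6 → F} (h : Fr3 u v w) :
    p u * p v * p w * p (u + v) * p (u + w) * p (v + w) * p (u + v + w) = 1 ∨
    p u * p v * p w * p (u + v) * p (u + w) * p (v + w) * p (u + v + w) = t := by
  have hc : ∀ x ∈ [u, v, w, u + v, u + w, v + w, u + v + w], ∃ a b c : F,
      (a ≠ 0 ∨ b ≠ 0 ∨ c ≠ 0) ∧ x = a • u + b • v + c • w := by
    intro x hx
    simp only [List.mem_cons, List.not_mem_nil, or_false] at hx
    rcases hx with rfl | rfl | rfl | rfl | rfl | rfl | rfl
    · exact ⟨1, 0, 0, by simp, by simp⟩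
    · exact ⟨0, 1, 0, by simp, by simp⟩
    · exact ⟨0, 0, 1, by simp, by simp⟩
    · exact ⟨1, 1, 0, by simp, by simp⟩
    · exact ⟨1, 0, 1, by simp, by simp⟩
    · exact ⟨0, 1, 1, by simp, by simp⟩
    · exact ⟨1, 1, 1, by simp, by simp⟩
  have hiso : ∀ x ∈ [u, v, w, u + v, u + w, v + w, u + v + w], Iso F x := by
    intro x hx
    obtain ⟨a, b, c, h0, rfl⟩ := hc x hx
    exact comb_iso S h h0
  obtain ⟨hA, -⟩ := acts_list S [u, v, w, u + v, u + w, v + w, u + v + w] hiso (by
    intro x hx y hy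
    obtain ⟨a, b, c, h0, rfl⟩ := hc x hx
    obtain ⟨a', b', c', h0', rfl⟩ := hc y hy
    exact comb_ort S h _ _ _ _ _ _)
  have he : ([u, v, w, u + v, u + w, v + w, u + v + w].map p).prod =
      p u * p v * p w * p (u + v) * p (u + w) * p (v + w) * p (u + v + w) := by
    simp [mul_assoc]
  rw [he] at hA
  apply S.LK
  · exact L.mul_mem (L.mul_mem (L.mul_mem (L.mul_mem (L.mul_mem (L.mul_mem
      (S.pL _ (hiso _ (by simp))) (S.pL _ (hiso _ (by simp)))) (S.pL _ (hiso _ (by simp))))
      (S.pL _ (hiso _ (by simp)))) (S.pL _ (hiso _ (by simp)))) (S.pL _ (hiso _ (by simp))))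
      (S.pL _ (hiso _ (by simp)))
  · apply S.ker
    intro z hz
    have h1 := hA z hz
    have h2 : z + ([u, v, w, u + v, u + w, v + w, u + v + w].map
        fun u => hermForm 6 F 2 z u • u).sum = z := by
      simp only [List.map_cons, List.map_nil, List.sum_cons, List.sum_nil, herm_add_right hF]
      funext i
      simp only [Pi.add_apply, Pi.smul_apply, smul_eq_mul, Pi.zero_apply]
      linear_combination ((2 * hermForm 6 F 2 z u + hermForm 6 F 2 z v + hermForm 6 F 2 z w) * u i +
        (2 * hermForm 6 F 2 z v + hermForm 6 F 2 z u + hermForm 6 F 2 z w) * v i +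
        (2 * hermForm 6 F 2 z w + hermForm 6 F 2 z v + hermForm 6 F 2 z u) * w i) * two_eq_zero hF
    exact mul_inv_eq_iff_eq_mul.1 (h1.trans (congrArg p h2))

end S

/-- Products of elements of order three commuting with `s`. -/
def Odd3 (s : G) : Subgroup G := Subgroup.closure {e | e ^ 3 = 1 ∧ Commute e s}

theorem odd3_commute {s w : G} (hw : w ∈ Odd3 s) : Commute w s := by
  refine Subgroup.closure_induction (p := fun x _ => Commute x s) ?_ ?_ ?_ ?_ hw
  · rintro x ⟨-, hx⟩
    exact hx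
  · exact Commute.one_left s
  · intro x y _ _ hx hy
    exact hx.mul_left hy
  · intro x _ hx
    exact hx.inv_left

theorem odd3_lin (S : Sys hF t L K p) {w : G} (hw : w ∈ Odd3 t) : IsLin p w := by
  have : IsLin p w ∧ Commute w t := by
    refine Subgroup.closure_induction (p := fun x _ => IsLin p x ∧ Commute x t) ?_ ?_ ?_ ?_ hw
    · rintro x ⟨hx3, hx⟩
      exact ⟨lin_cube S hx hx3, hx⟩
    · exact ⟨lin_one S, Commute.one_left t⟩
    · rintro x y _ _ ⟨hx, hx'⟩ ⟨hy, hy'⟩
      exact ⟨lin_mul S hx hy, hx'.mul_left hy'⟩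
    · rintro x _ ⟨hx, hx'⟩
      exact ⟨lin_inv S hx' hx, hx'.inv_left⟩
  exact this.1

theorem odd3_mem {s e : G} (h3 : e ^ 3 = 1) (hc : Commute e s) : e ∈ Odd3 s :=
  Subgroup.subset_closure ⟨h3, hc⟩

end Cfsg.Agent.U62.Lin
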