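import Cfsg.Agent.U62.Basic

/-!
No involution `v ≠ t` of `K` commutes with a conjugate `s ≠ t` of `t`.
-/

set_option autoImplicit false
set_option linter.unusedSectionVars false

namespace Cfsg.Agent.U62.NoInv

open Cfsg Cfsg.Agent.LieClassical.HermBasic Cfsg.Agent.ClassicalGeometry.UnitTransv
open Cfsg.Agent.SporadicStructure.UnitTwo
open Cfsg.Agent.R01.PSUSix Cfsg.Agent.R01.InvForm
open Cfsg.Agent.R01.Frames (Hyp)
open Cfsg.Agent.R01.ComLabel (Iso)
open Cfsg.Agent.U62.Semi Cfsg.Agent.U62.Semi2 Cfsg.Agent.U62.Sys Cfsg.Agent.U62.Basic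

variable {G : Type*} [Group G] {F : Type*} [Field F] [Fintype F] {hF : Fintype.card F = 2 ^ 2}
variable {t : G} {L K : Subgroup G} {p : (Fin 6 → F) → G}

theorem core (S : Sys hF t L K p) {a b : G} (ha : Commute a t) (hb : Commute b t)
    (haa : a * a = 1) (h1 : ∀ x ∈ L, Commute x a → Commute x b)
    (h2 : ∀ x ∈ L, Commute x (a * b) → Commute x b) (nbK : b ∉ K)
    (nabK : a * b ∉ K) : False := by
  obtain ⟨ea, φ, hea, hφ, hAa, hφφ⟩ := norm_inv S ha (by rw [haa]; exact K.one_mem)
  obtain ⟨eb, ψ, heb, hψ, hAb⟩ := S.semi b hb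
  have hisoφ : ∀ v, Iso F v → Iso F (φ v) := fun v hv => hφ.iso hF hea hv
  have hisoψ : ∀ v, Iso F v → Iso F (ψ v) := fun v hv => hψ.iso hF heb hv
  -- translation of the hypotheses
  have H1 : ∀ x, Iso F x → Pt x (φ x) → Pt x (ψ x) := by
    intro x hx hpt
    rw [← acts_commute S heb hψ hAb hx]
    exact (h1 _ (S.pL x hx) ((acts_commute S hea hφ hAa hx).2 hpt).symm).symm
  have H2 : ∀ x, Iso F x → Pt x (φ (ψ x)) → Pt x (ψ x) := by
    intro x hx hpt
    rw [← acts_commute S heb hψ hAb hx]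
    have h3 := acts_mul hAa hAb hisoψ x hx
    rw [peq S hx hpt] at h3
    exact (h2 _ (S.pL x hx) (mul_inv_eq_iff_eq_mul.1 h3 : Commute (a * b) (p x)).symm).symm
  rcases hea with rfl | rfl
  · -- `a` acts linearly
    obtain ⟨g, k, S0, hyp, hform⟩ := lin_normal hF hφ hφφ
    have hkg := hyp.kg hF
    have key := dich hF hyp heb hψ S0 (fun x hx hperp => by
      apply H1 x hx
      rw [hform, Finset.sum_eq_zero, add_zero]
      · exact Pt.refl x
      · intro j hj
        rw [hperp j hj, zero_smul]) (by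
      intro i hi l hl hil c hc
      obtain ⟨x, hxd⟩ : ∃ x, x = k i + c • k l := ⟨_, rfl⟩
      have hx : Iso F x := by rw [hxd]; exact iso_kk hF hyp hil c
      have hφx : φ x = x + (g i + c • g l) := by
        rw [hform x]
        congr 1
        have e1 : ∀ j, hermForm 6 F 2 x (g j) = (if i = j then 1 else 0) +
            (if l = j then c else 0) := by
          intro j
          rw [hxd, herm_add_left, herm_smul_left, hkg, hkg]
          by_cases hlj : l = j <;> simp [hlj]
        simp only [e1, add_smul, Finset.sum_add_distrib, ite_smul, one_smul, zero_smul,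
          Finset.sum_ite_eq, hi, hl, if_true]
      have hx1 : hermForm 6 F 2 x (φ x) = 0 := by
        rw [hφx, herm_add_right hF, hx.2, herm_add_right hF, herm_smul_right, hxd, herm_add_left,
          herm_add_left, herm_smul_left, herm_smul_left, hkg, hkg, hkg, hkg, if_pos rfl, if_pos rfl,
          if_neg hil, if_neg hil.symm]
        linear_combination Semi.norm_one hF hc + two_eq_zero hF
      rw [← hxd]
      have hnp : ¬ Pt x (φ x) := by
        rintro ⟨d, hd, h3⟩
        rw [hφx] at h3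
        have e1 := congrArg (fun v => hermForm 6 F 2 v (g i)) h3
        have e2 := congrArg (fun v => hermForm 6 F 2 v (k i)) h3
        simp only [herm_add_left, herm_smul_left, hyp.gg, hyp.gk, if_true,
          if_neg (Ne.symm hil), mul_zero, add_zero] at e1 e2
        rw [hxd] at e1 e2
        simp only [herm_add_left, herm_smul_left, hkg, hyp.kk, if_true, if_neg (Ne.symm hil),
          mul_zero, add_zero, mul_one, zero_add] at e1 e2
        exact one_ne_zero e2
      have hf2 : Fr2 x (φ x) := not_pt_iff hx (hisoφ x hx) hx1 hnp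
      -- `p x * p (φ x)` commutes with `b`
      have hcx := pcomm S hx (hisoφ x hx) hx1
      have hca : Commute (p x * p (φ x)) a := by
        have e1 := hAa x hx
        have e2 := hAa (φ x) (hisoφ x hx)
        rw [hφφ] at e2
        have e3 : a * (p x * p (φ x)) * a⁻¹ = p x * p (φ x) := by
          calc a * (p x * p (φ x)) * a⁻¹ = (a * p x * a⁻¹) * (a * p (φ x) * a⁻¹) := by group
            _ = p (φ x) * p x := by rw [e1, e2]
            _ = p x * p (φ x) := hcx.symm.eq
        exact (mul_inv_eq_iff_eq_mul.1 e3 : Commute a (p x * p (φ x))).symm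
      have hcb := h1 _ (L.mul_mem (S.pL x hx) (S.pL _ (hisoφ x hx))) hca
      have e4 : p x * p (φ x) = p (ψ x) * p (ψ (φ x)) := by
        rw [← hAb x hx, ← hAb (φ x) (hisoφ x hx)]
        calc p x * p (φ x) = b * (p x * p (φ x)) * b⁻¹ := by
              rw [← hcb.eq, mul_inv_cancel_right]
          _ = b * p x * b⁻¹ * (b * p (φ x) * b⁻¹) := by group
      have e5 : hermForm 6 F 2 (ψ x) (ψ (φ x)) = 0 := by
        rw [hψ.herm, hx1, zero_pow]
        rcases heb with rfl | rfl <;> norm_num
      rcases pair S hf2 (hisoψ x hx) (hisoψ _ (hisoφ x hx)) e5 e4 with h5 | h5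
      · exact Or.inl h5
      · right
        rw [← hφx]; exact h5)
    obtain ⟨rfl, c, hc, h3 | h3⟩ := key
    · exact nbK (mem_K S (Or.inl rfl) hψ hAb fun v _ => ⟨c, hc, h3 v⟩)
    · apply nabK
      apply mem_K S (Or.inl rfl) (hψ.comp hψ |> fun _ => hφ.comp hψ) (acts_mul hAa hAb hisoψ)
      intro v hv
      refine ⟨c, hc, ?_⟩
      have h4 : ψ v = c • φ v := by rw [h3, hform]
      rw [h4, hφ.smul, pow_one, hφφ]
  · -- `a` acts semilinearly
    obtain ⟨g, k, hyp, hg, hk1, hk2, hk0⟩ := semi_normal hF hφ hφφ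
    have hkg := hyp.kg hF
    -- the linear one
    obtain ⟨χ, hχ, hχfix, hχψ⟩ : ∃ χ : (Fin 6 → F) → (Fin 6 → F), Sem 1 χ ∧
        (∀ x, Iso F x → φ x = x → Pt x (χ x)) ∧
        ((eb = 1 ∧ χ = ψ) ∨ (eb = 2 ∧ χ = fun v => φ (ψ v))) := by
      rcases heb with rfl | rfl
      · exact ⟨ψ, hψ, fun x hx hfx => H1 x hx (by rw [hfx]; exact Pt.refl x),
          Or.inl ⟨rfl, rfl⟩⟩
      · refine ⟨fun v => φ (ψ v), (hφ.comp hψ).four hF, fun x hx hfx => ?_, Or.inr ⟨rfl, rfl⟩⟩
        obtain ⟨c, hc, h3⟩ := H1 x hx (by rw [hfx]; exact Pt.refl x)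
        exact ⟨c ^ 2, pow_ne_zero 2 hc, by show φ (ψ x) = _; rw [h3, hφ.smul, hfx]⟩
    have hkj : ∀ j, j ∉ ({0} : Finset (Fin 3)) → φ (k j) = k j := by
      intro j hj
      fin_cases j
      · exact absurd (by simp) hj
      · exact hk1
      · exact hk2
    obtain ⟨c, hc, hcg, hck⟩ := scal' hF hyp hχ {0} (fun i => hχfix _ (hyp_iso_g hF hyp i) (hg i))
      (fun i j hij => by
        have := hχfix _ (iso_gg hF hyp hij 1) (by rw [hφ.add, hφ.smul, hg, hg, one_pow])
        rwa [one_smul] at this)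
      (fun j hj => hχfix _ (hyp_iso_k hF hyp j) (hkj j hj))
      (fun i j hij hj => by
        have := hχfix _ (iso_gk hF hyp hij 1) (by rw [hφ.add, hφ.smul, hg, hkj j hj, one_pow])
        rwa [one_smul] at this)
    have hperp : ∀ x, hermForm 6 F 2 x (g 0) = 0 → χ x = c • x := by
      intro x hx
      have h3 := hyp_expand hF hyp x
      rw [Fin.sum_univ_three, hx, zero_smul, add_zero] at h3
      conv_lhs => rw [h3]
      conv_rhs => rw [h3]
      simp only [hχ.add, hχ.smul, pow_one, hcg, hck 1 (by decide), hck 2 (by decide), smul_add,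
        smul_smul, mul_comm c]
    obtain ⟨-, d, hd, h3⟩ := dich hF hyp (Or.inl rfl) hχ {0} (fun x _ hx =>
      ⟨c, hc, hperp x (hx 0 (by simp))⟩) (by
      intro i hi l hl hil
      rw [Finset.mem_singleton] at hi hl
      exact absurd (hi.trans hl.symm) hil)
    rcases h3 with h3 | h3
    · -- scalar
      rcases hχψ with ⟨rfl, rfl⟩ | ⟨rfl, rfl⟩
      · exact nbK (mem_K S (Or.inl rfl) hψ hAb fun v _ => ⟨d, hd, h3 v⟩)
      · exact nabK (mem_K S (Or.inl rfl) hχ (acts_mul hAa hAb hisoψ) fun v _ => ⟨d, hd, h3 v⟩)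
    · have h4 : ∀ v, χ v = d • (v + hermForm 6 F 2 v (g 0) • g 0) := by
        intro v
        rw [h3, Finset.sum_singleton]
      have hχk : χ (k 0) = d • (k 0 + g 0) := by
        rw [h4, hkg, if_pos rfl, one_smul]
      have hnpt : ¬ Pt (k 0) (χ (k 0)) := by
        rintro ⟨x, hx, h5⟩
        rw [hχk] at h5
        have e1 := congrArg (fun v => hermForm 6 F 2 v (k 0)) h5
        simp only [herm_add_left, herm_smul_left, hyp.kk, hyp.gk, if_true, mul_zero, zero_add,
          mul_one] at e1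
        exact hd e1
      rcases hk0 with hk0 | hk0
      · exact hnpt (hχfix _ (hyp_iso_k hF hyp 0) hk0)
      · rcases hχψ with ⟨rfl, rfl⟩ | ⟨rfl, rfl⟩
        · apply hnpt
          apply H2 _ (hyp_iso_k hF hyp 0)
          refine ⟨d ^ 2, pow_ne_zero 2 hd, ?_⟩
          rw [hχk, hφ.smul, hφ.add, hk0, hg, add_assoc, vadd_self hF, add_zero]
        · have h5 := (scal hF hyp (Or.inr rfl) hψ {0} (fun x hx hp => by
            apply H2 x hx
            exact ⟨c, hc, hperp x (hp 0 (by simp))⟩)).1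
          exact absurd h5 (by norm_num)

/-- **No involution `v ≠ t` of `K` commutes with a conjugate `s ≠ t` of `t`.** -/
theorem no_inv (S : Sys hF t L K p) {s : G} {L' K' : Subgroup G} {p' : (Fin 6 → F) → G}
    (S' : Sys hF s L' K' p')
    (cent : ∀ w ∈ K, w * w = 1 → w ≠ 1 → ∀ c, Commute c w → Commute c t)
    (tight : ∀ w ∈ K, w ∈ K' → w * w = 1 → w = 1)
    {v : G} (hv : v ∈ K) (hvv : v * v = 1) (hv1 : v ≠ 1) (hvt : v ≠ t)
    (hvs : Commute v s) : False := by
  have hvct := Kt S hv
  have hwK : v * t ∈ K := K.mul_mem hv S.tK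
  have hww : v * t * (v * t) = 1 := by
    calc v * t * (v * t) = v * (t * v) * t := by group
      _ = v * (v * t) * t := by rw [hvct.eq]
      _ = (v * v) * (t * t) := by group
      _ = 1 := by rw [hvv, S.tt, one_mul]
  have hw1 : v * t ≠ 1 := by
    intro h
    apply hvt
    calc v = v * (t * t) := by rw [S.tt, mul_one]
      _ = v * t * t := by group
      _ = t := by rw [h, one_mul]
  refine core S' hvs (cent v hv hvv hv1 s hvs.symm).symm hvv ?_ ?_ ?_ ?_
  · intro x _ hx
    exact cent v hv hvv hv1 x hx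
  · intro x _ hx
    exact cent _ hwK hww hw1 x hx
  · intro h
    exact S.t1 (tight t S.tK h S.tt)
  · intro h
    exact hw1 (tight _ hwK h hww)

end Cfsg.Agent.U62.NoInv
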