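import Cfsg.Agent.R01.InvForm
import Cfsg.Agent.R01.Frames
import Cfsg.Agent.R01.ComLabel

/-!
Semi-isometries of the unitary space `F ^ 6`, `|F| = 4`, which fix many isotropic points.
-/

set_option autoImplicit false
set_option linter.unusedSectionVars false

namespace Cfsg.Agent.U62.Semi

open Cfsg Cfsg.Agent.LieClassical.HermBasic Cfsg.Agent.ClassicalGeometry.UnitTransv
open Cfsg.Agent.SporadicStructure.UnitTwo
open Cfsg.Agent.R01.PSUSix Cfsg.Agent.R01.InvForm
open Cfsg.Agent.R01.Frames (Hyp E P hyp_std expand' trans_hyp)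
open Cfsg.Agent.R01.ComLabel (Iso)

variable {F : Type*} [Field F] [Fintype F]

/-- A semi-isometry. -/
structure IsSemi (φ : (Fin 6 → F) → (Fin 6 → F)) (ρ : F ≃+* F) : Prop where
  add : ∀ v w, φ (v + w) = φ v + φ w
  smul : ∀ (c : F) v, φ (c • v) = ρ c • φ v
  herm : ∀ v w, hermForm 6 F 2 (φ v) (φ w) = ρ (hermForm 6 F 2 v w)

section basic

variable {φ ψ : (Fin 6 → F) → (Fin 6 → F)} {ρ σ : F ≃+* F}

theorem IsSemi.map_zero (h : IsSemi φ ρ) : φ 0 = 0 := by
  have := h.smul 0 0
  rwa [zero_smul, _root_.map_zero, zero_smul] at this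

theorem IsSemi.comp (h : IsSemi φ ρ) (h' : IsSemi ψ σ) : IsSemi (fun v => φ (ψ v)) (σ.trans ρ) where
  add v w := by rw [h'.add, h.add]
  smul c v := by rw [h'.smul, h.smul]; rfl
  herm v w := by rw [h.herm, h'.herm]; rfl

theorem isSemi_act (g : SU 6 F 2) : IsSemi (act g) (RingEquiv.refl F) where
  add v w := act_add g v w
  smul c v := act_smul g c v
  herm v w := herm_act g v w

variable (hF : Fintype.card F = 2 ^ 2)
include hF

theorem IsSemi.ne_zero (h : IsSemi φ ρ) {v : Fin 6 → F} (hv : v ≠ 0) : φ v ≠ 0 := by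
  intro h0
  obtain ⟨w, hw⟩ := exists_herm_ne_zero hF hv
  have := h.herm v w
  rw [h0, herm_zero_left] at this
  exact hw ((map_eq_zero ρ).1 this.symm)

theorem rho_cases (ρ : F ≃+* F) : (∀ c, ρ c = c) ∨ (∀ c, ρ c = c ^ 2) := by
  obtain ⟨ω, hω⟩ := exists_omega hF
  have h2 := two_eq_zero hF
  have hω3 := omega_cubed hω
  have hr : ρ ω ^ 2 + ρ ω + 1 = 0 := by
    rw [← map_pow, ← map_add, ← map_one ρ, ← map_add, hω, map_zero]
  have h1 : ρ ω = ω ∨ ρ ω = ω ^ 2 := by
    have : (ρ ω - ω) * (ρ ω - ω ^ 2) = 0 := by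
      linear_combination hr - ρ ω * hω + hω3
    rcases mul_eq_zero.1 this with h5 | h5
    · left; linear_combination h5
    · right; linear_combination h5
  have hall : ∀ c : F, c = 0 ∨ c = 1 ∨ c = ω ∨ c = ω ^ 2 := by
    intro c
    by_cases hc : c = 0
    · exact Or.inl hc
    · right
      have h3 := pow_three hF hc
      have : (c - 1) * ((c - ω) * (c - ω ^ 2)) = 0 := by
        linear_combination h3 + (c - c ^ 2) * hω + (c - 1) * hω3
      rcases mul_eq_zero.1 this with h5 | h5
      · left; linear_combination h5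
      · rcases mul_eq_zero.1 h5 with h5 | h5
        · right; left; linear_combination h5
        · right; right; linear_combination h5
  rcases h1 with h1 | h1
  · left
    intro c
    rcases hall c with rfl | rfl | rfl | rfl
    · rw [map_zero]
    · rw [map_one]
    · exact h1
    · rw [map_pow, h1]
  · right
    intro c
    rcases hall c with rfl | rfl | rfl | rfl
    · rw [map_zero]; ring
    · rw [map_one]; ring
    · exact h1
    · rw [map_pow, h1]

theorem norm_one {a : F} (ha : a ≠ 0) : a * a ^ 2 = 1 := by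
  have := pow_three hF ha
  linear_combination this

theorem IsSemi.smul' (h : IsSemi φ ρ) {a : F} (ha : a ≠ 0) : IsSemi (fun v => a • φ v) ρ where
  add v w := by rw [h.add, smul_add]
  smul c v := by rw [h.smul, smul_smul, smul_smul, mul_comm]
  herm v w := by
    rw [herm_smul_left, herm_smul_right, h.herm]
    linear_combination ρ (hermForm 6 F 2 v w) * norm_one hF ha

/-- Coordinates in a hyperbolic basis. -/
theorem hyp_expand {g k : Fin 3 → (Fin 6 → F)} (h : Hyp g k) (x : Fin 6 → F) :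
    x = ∑ i : Fin 3, (hermForm 6 F 2 x (k i) • g i + hermForm 6 F 2 x (g i) • k i) := by
  obtain ⟨ω, hω⟩ := exists_omega hF
  obtain ⟨s, a, ha, e0, e1, e2, p0, p1, p2⟩ := trans_hyp hF hω h
  have h1 := expand' hF hω (act s⁻¹ x)
  have h2 := congrArg (act s) h1
  rw [act_act_inv] at h2
  have h3 : ∀ y, hermForm 6 F 2 (act s⁻¹ x) y = hermForm 6 F 2 x (act s y) := by
    intro y
    rw [← herm_act s, act_act_inv]
  have ha3 := norm_one hF ha
  simp only [Fin.sum_univ_three] at h2 ⊢
  rw [act_add, act_add, act_add, act_add, act_add, act_smul, act_smul, act_smul, act_smul, act_smul,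
    act_smul, h3, h3, h3, h3, h3, h3, e0, e1, e2, p0, p1, p2, herm_smul_right, herm_smul_right] at h2
  rw [smul_smul, smul_smul] at h2
  have e3 : a ^ 2 * hermForm 6 F 2 x (k 0) * a = hermForm 6 F 2 x (k 0) := by
    linear_combination hermForm 6 F 2 x (k 0) * ha3
  have e4 : a ^ 2 * hermForm 6 F 2 x (g 0) * a = hermForm 6 F 2 x (g 0) := by
    linear_combination hermForm 6 F 2 x (g 0) * ha3
  rw [e3, e4] at h2
  exact h2.symm

end basic

/-! ### The two types of semi-isometries -/

/-- The same point. -/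
def Pt (v w : Fin 6 → F) : Prop := ∃ c : F, c ≠ 0 ∧ w = c • v

/-- Semi-isometries: linear for `e = 1`, semilinear for `e = 2`. -/
structure Sem (e : ℕ) (φ : (Fin 6 → F) → (Fin 6 → F)) : Prop where
  add : ∀ v w, φ (v + w) = φ v + φ w
  smul : ∀ (c : F) v, φ (c • v) = c ^ e • φ v
  herm : ∀ v w, hermForm 6 F 2 (φ v) (φ w) = hermForm 6 F 2 v w ^ e

section Sem

variable {e e' : ℕ} {φ ψ : (Fin 6 → F) → (Fin 6 → F)}

theorem Pt.refl (v : Fin 6 → F) : Pt v v := ⟨1, one_ne_zero, (one_smul _ _).symm⟩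

theorem Pt.symm {v w : Fin 6 → F} (h : Pt v w) : Pt w v := by
  obtain ⟨c, hc, rfl⟩ := h
  exact ⟨c⁻¹, inv_ne_zero hc, by rw [smul_smul, inv_mul_cancel₀ hc, one_smul]⟩

theorem Pt.trans {u v w : Fin 6 → F} (h : Pt u v) (h' : Pt v w) : Pt u w := by
  obtain ⟨c, hc, rfl⟩ := h
  obtain ⟨d, hd, rfl⟩ := h'
  exact ⟨d * c, mul_ne_zero hd hc, by rw [smul_smul]⟩

theorem Sem.comp (h : Sem e φ) (h' : Sem e' ψ) : Sem (e' * e) (fun v => φ (ψ v)) where
  add v w := by rw [h'.add, h.add]
  smul c v := by rw [h'.smul, h.smul, ← pow_mul]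
  herm v w := by rw [h.herm, h'.herm, ← pow_mul]

theorem sem_act (g : SU 6 F 2) : Sem 1 (act g) where
  add v w := act_add g v w
  smul c v := by rw [pow_one, act_smul]
  herm v w := by rw [pow_one, herm_act]

theorem sem_id : Sem 1 (fun v : Fin 6 → F => v) where
  add _ _ := rfl
  smul c v := by rw [pow_one]
  herm v w := by rw [pow_one]

theorem Sem.map_zero (h : Sem e φ) : φ 0 = 0 := by
  have := h.add 0 0
  rw [add_zero] at this
  exact (left_eq_add.1 this)

variable (hF : Fintype.card F = 2 ^ 2)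
include hF

theorem sem_of_isSemi {ρ : F ≃+* F} (h : IsSemi φ ρ) : Sem 1 φ ∨ Sem 2 φ := by
  rcases rho_cases hF ρ with h1 | h1
  · exact Or.inl ⟨h.add, fun c v => by rw [h.smul, h1, pow_one], fun v w => by
      rw [h.herm, h1, pow_one]⟩
  · exact Or.inr ⟨h.add, fun c v => by rw [h.smul, h1], fun v w => by rw [h.herm, h1]⟩

theorem Sem.smul' (h : Sem e φ) {a : F} (ha : a ≠ 0) : Sem e (fun v => a • φ v) where
  add v w := by rw [h.add, smul_add]
  smul c v := by rw [h.smul, smul_smul, smul_smul, mul_comm]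
  herm v w := by
    rw [herm_smul_left, herm_smul_right, h.herm]
    linear_combination hermForm 6 F 2 v w ^ e * norm_one hF ha

/-- The square of a semilinear one is linear. -/
theorem Sem.four (h : Sem (2 * 2) φ) : Sem 1 φ where
  add := h.add
  smul c v := by rw [h.smul, pow_one]; congr 1; exact pow_four hF c
  herm v w := by rw [h.herm, pow_one]; exact pow_four hF _

theorem Sem.iso (he : e = 1 ∨ e = 2) (h : Sem e φ) {v : Fin 6 → F} (hv : Iso F v) : Iso F (φ v) := by
  have he0 : e ≠ 0 := by omega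
  refine ⟨fun h0 => ?_, by rw [h.herm, hv.2, zero_pow he0]⟩
  obtain ⟨w, hw⟩ := exists_herm_ne_zero hF hv.1
  have := h.herm v w
  rw [h0, herm_zero_left] at this
  exact hw ((pow_eq_zero_iff he0).1 this.symm)

theorem Sem.ext (h : Sem e φ) (h' : Sem e ψ) {g k : Fin 3 → (Fin 6 → F)} (hb : Hyp g k)
    (hg : ∀ i, φ (g i) = ψ (g i)) (hk : ∀ i, φ (k i) = ψ (k i)) (v : Fin 6 → F) : φ v = ψ v := by
  rw [hyp_expand hF hb v]
  simp only [Fin.sum_univ_three, h.add, h'.add, h.smul, h'.smul, hg, hk]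

theorem hyp_iso_g {g k : Fin 3 → (Fin 6 → F)} (hb : Hyp g k) (i : Fin 3) : Iso F (g i) := by
  refine ⟨fun h => ?_, hb.gg i i⟩
  have := hb.gk i i
  rw [h, herm_zero_left, if_pos rfl] at this
  exact zero_ne_one this

theorem hyp_iso_k {g k : Fin 3 → (Fin 6 → F)} (hb : Hyp g k) (i : Fin 3) : Iso F (k i) := by
  refine ⟨fun h => ?_, hb.kk i i⟩
  have := hb.gk i i
  rw [h, herm_zero_right hF, if_pos rfl] at this
  exact zero_ne_one this

/-- Fixing the points of some vectors of a hyperbolic basis and of some of their sums. -/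
theorem scal' {g k : Fin 3 → (Fin 6 → F)} (hb : Hyp g k) (h : Sem e φ) (S : Finset (Fin 3))
    (h1 : ∀ i, Pt (g i) (φ (g i))) (h2 : ∀ i j, i ≠ j → Pt (g i + g j) (φ (g i + g j)))
    (h3 : ∀ j, j ∉ S → Pt (k j) (φ (k j)))
    (h4 : ∀ i j, i ≠ j → j ∉ S → Pt (g i + k j) (φ (g i + k j))) :
    ∃ a : F, a ≠ 0 ∧ (∀ i, φ (g i) = a • g i) ∧ ∀ j, j ∉ S → φ (k j) = a • k j := by
  have hkg := hb.kg hF
  choose β hβ0 hβ using h1
  have hββ : ∀ i j, β i = β j := by
    intro i j
    by_cases hij : i = j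
    · rw [hij]
    · obtain ⟨d, -, hd⟩ := h2 i j hij
      rw [h.add, hβ, hβ] at hd
      have e1 := congrArg (fun v => hermForm 6 F 2 v (k i)) hd
      have e2 := congrArg (fun v => hermForm 6 F 2 v (k j)) hd
      simp only [herm_add_left, herm_smul_left, hb.gk, if_true, if_neg hij, if_neg (Ne.symm hij),
        mul_zero, add_zero, zero_add, mul_one, smul_add] at e1 e2
      rw [e1, ← e2]
  refine ⟨β 0, hβ0 0, fun i => by rw [hβ, hββ 0 i], ?_⟩
  intro j hj
  obtain ⟨γ, -, hγ⟩ := h3 j hj
  obtain ⟨i, hij⟩ : ∃ i : Fin 3, i ≠ j := ⟨j + 1, by fin_cases j <;> decide⟩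
  obtain ⟨d, -, hd⟩ := h4 i j hij hj
  rw [h.add, hβ, hγ] at hd
  have e1 := congrArg (fun v => hermForm 6 F 2 v (k i)) hd
  have e2 := congrArg (fun v => hermForm 6 F 2 v (g j)) hd
  simp only [herm_add_left, herm_smul_left, hb.gk, hb.kk, hb.gg, hkg, if_true, smul_add,
    mul_zero, add_zero, zero_add, mul_one] at e1 e2
  rw [hγ, e2, ← e1, hββ 0 i]

/-- Sums of vectors of a hyperbolic basis are isotropic. -/
theorem iso_gg {g k : Fin 3 → (Fin 6 → F)} (hb : Hyp g k) {i j : Fin 3} (hij : i ≠ j) (c : F) :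
    Iso F (g i + c • g j) := by
  refine ⟨fun h0 => ?_, ?_⟩
  · have := congrArg (fun v => hermForm 6 F 2 v (k i)) h0
    simp only [herm_add_left, herm_smul_left, hb.gk, herm_zero_left, if_true,
      if_neg (Ne.symm hij), mul_zero, add_zero] at this
    exact one_ne_zero this
  · rw [herm_add_left, herm_add_right hF, herm_add_right hF, herm_smul_left, herm_smul_left,
      herm_smul_right, herm_smul_right, hb.gg, hb.gg, hb.gg, hb.gg]
    ring

theorem iso_gk {g k : Fin 3 → (Fin 6 → F)} (hb : Hyp g k) {i j : Fin 3} (hij : i ≠ j) (c : F) :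
    Iso F (g i + c • k j) := by
  refine ⟨fun h0 => ?_, ?_⟩
  · have := congrArg (fun v => hermForm 6 F 2 v (k i)) h0
    simp only [herm_add_left, herm_smul_left, hb.gk, hb.kk, herm_zero_left, if_true, mul_zero,
      add_zero] at this
    exact one_ne_zero this
  · rw [herm_add_left, herm_add_right hF, herm_add_right hF, herm_smul_left, herm_smul_left,
      herm_smul_right, herm_smul_right, hb.gg, hb.gk, hb.kk, hb.kg hF, if_neg hij,
      if_neg (Ne.symm hij)]
    ring

theorem iso_kk {g k : Fin 3 → (Fin 6 → F)} (hb : Hyp g k) {i j : Fin 3} (hij : i ≠ j) (c : F) :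
    Iso F (k i + c • k j) := by
  refine ⟨fun h0 => ?_, ?_⟩
  · have := congrArg (fun v => hermForm 6 F 2 v (g i)) h0
    simp only [herm_add_left, herm_smul_left, hb.kg hF, herm_zero_left, if_true,
      if_neg (Ne.symm hij), mul_zero, add_zero] at this
    exact one_ne_zero this
  · rw [herm_add_left, herm_add_right hF, herm_add_right hF, herm_smul_left, herm_smul_left,
      herm_smul_right, herm_smul_right, hb.kk, hb.kk, hb.kk, hb.kk]
    ring

/-- Fixing all isotropic points orthogonal to some members of a hyperbolic basis. -/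
theorem scal {g k : Fin 3 → (Fin 6 → F)} (hb : Hyp g k) (he : e = 1 ∨ e = 2) (h : Sem e φ)
    (S : Finset (Fin 3))
    (hS : ∀ x, Iso F x → (∀ j ∈ S, hermForm 6 F 2 x (g j) = 0) → Pt x (φ x)) :
    e = 1 ∧ ∃ a : F, a ≠ 0 ∧ (∀ i, φ (g i) = a • g i) ∧ ∀ j, j ∉ S → φ (k j) = a • k j := by
  obtain ⟨ω, hω⟩ := exists_omega hF
  have hkg := hb.kg hF
  have hω0 : ω ≠ 0 := by rintro rfl; simp at hω
  have hkj : ∀ j, j ∉ S → ∀ l ∈ S, hermForm 6 F 2 (k j) (g l) = 0 := by
    intro j hj l hl
    rw [hkg, if_neg]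
    rintro rfl
    exact hj hl
  have hperp : ∀ i j (c : F), ∀ l ∈ S, hermForm 6 F 2 (g i + c • g j) (g l) = 0 := by
    intro i j c l _
    rw [herm_add_left, herm_smul_left, hb.gg, hb.gg]; ring
  obtain ⟨a, ha, hg, hk⟩ := scal' hF hb h S (fun i => hS _ (hyp_iso_g hF hb i) fun j _ => hb.gg i j)
    (fun i j hij => by
      have := hS _ (iso_gg hF hb hij 1) (hperp i j 1)
      rwa [one_smul] at this)
    (fun j hj => hS _ (hyp_iso_k hF hb j) (hkj j hj))
    (fun i j hij hj => by
      have := hS _ (iso_gk hF hb hij 1) (fun l hl => by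
        rw [herm_add_left, herm_smul_left, hb.gg, hkj j hj l hl]; ring)
      rwa [one_smul] at this)
  refine ⟨?_, a, ha, hg, hk⟩
  obtain ⟨d, -, hd⟩ := hS _ (iso_gg hF hb (show (0 : Fin 3) ≠ 1 by decide) ω) (hperp 0 1 ω)
  rw [h.add, h.smul, hg, hg] at hd
  have e1 := congrArg (fun v => hermForm 6 F 2 v (k 0)) hd
  have e2 := congrArg (fun v => hermForm 6 F 2 v (k 1)) hd
  simp only [herm_add_left, herm_smul_left, hb.gk, if_true, smul_add,
    if_neg (show ¬ (0 : Fin 3) = 1 by decide), if_neg (show ¬ (1 : Fin 3) = 0 by decide),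
    mul_zero, add_zero, zero_add, mul_one] at e1 e2
  rcases he with rfl | rfl
  · rfl
  · exfalso
    have h2 : ω ^ 2 * a = ω * a := by rw [e2, e1, mul_comm]
    have h3 := mul_right_cancel₀ ha h2
    have h4 : ω * (ω - 1) = 0 := by linear_combination h3
    rcases mul_eq_zero.1 h4 with h4 | h4
    · exact hω0 h4
    · have h5 : ω = 1 := by linear_combination h4
      rw [h5] at hω
      have h6 : (1 : F) = 0 := by linear_combination hω - two_eq_zero hF
      exact one_ne_zero h6

/-- A semi-isometry fixing all isotropic points is a scalar. -/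
theorem scal_all (he : e = 1 ∨ e = 2) (h : Sem e φ) (hS : ∀ x, Iso F x → Pt x (φ x)) :
    e = 1 ∧ ∃ a : F, a ≠ 0 ∧ ∀ v, φ v = a • v := by
  obtain ⟨ω, hω⟩ := exists_omega hF
  have hb := hyp_std (F := F) hF hω
  obtain ⟨h1, a, ha, hg, hk⟩ := scal hF hb he h ∅ (fun x hx _ => hS x hx)
  subst h1
  refine ⟨rfl, a, ha, ?_⟩
  exact Sem.ext hF h ((sem_id (F := F)).smul' hF ha) hb hg (fun i => hk i (by simp))

/-- The rows of the matrix of a linear isometry. -/
theorem rows_aux {m n : Fin 3 → F} {i l : Fin 3} {ω : F} (hω : ω ^ 2 + ω + 1 = 0)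
    (h : ∀ c : F, c ≠ 0 → (∀ j, m j + c * n j = 0) ∨
      (∀ j, m j + c * n j = (if i = j then 1 else 0) + c * (if l = j then 1 else 0))) :
    (∀ j, m j = 0 ∧ n j = 0) ∨
      (∀ j, m j = (if i = j then 1 else 0) ∧ n j = (if l = j then 1 else 0)) := by
  have hω0 : ω ≠ 0 := by rintro rfl; simp at hω
  have hω3 := omega_cubed hω
  have h2 := two_eq_zero hF
  have hω1 : ω ≠ 1 := by
    rintro rfl
    exact one_ne_zero (by linear_combination hω - h2 : (1 : F) = 0)
  have hω2 : ω ^ 2 ≠ 1 := by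
    intro h3
    exact hω1 (by linear_combination hω3 - ω * h3)
  have hω12 : ω ^ 2 ≠ ω := by
    intro h3
    exact hω1 (mul_left_cancel₀ hω0 (by linear_combination h3 : ω * ω = ω * 1))
  have key : ∀ c d : F, c ≠ d →
      ((∀ j, m j + c * n j = 0) → (∀ j, m j + d * n j = 0) → ∀ j, m j = 0 ∧ n j = 0) ∧
      ((∀ j, m j + c * n j = (if i = j then 1 else 0) + c * (if l = j then 1 else 0)) →
        (∀ j, m j + d * n j = (if i = j then 1 else 0) + d * (if l = j then 1 else 0)) →
        ∀ j, m j = (if i = j then 1 else 0) ∧ n j = (if l = j then 1 else 0)) := by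
    intro c d hcd
    have hcd' : c - d ≠ 0 := sub_ne_zero.2 hcd
    constructor
    · intro a b j
      have h3 : (c - d) * n j = 0 := by linear_combination a j - b j
      have h4 := (mul_eq_zero.1 h3).resolve_left hcd'
      refine ⟨?_, h4⟩
      have := a j
      rwa [h4, mul_zero, add_zero] at this
    · intro a b j
      have h3 : (c - d) * (n j - (if l = j then 1 else 0)) = 0 := by
        linear_combination a j - b j
      have h4 := sub_eq_zero.1 ((mul_eq_zero.1 h3).resolve_left hcd')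
      refine ⟨?_, h4⟩
      have := a j
      rw [h4] at this
      exact add_right_cancel this
  rcases h 1 one_ne_zero with a | a <;> rcases h ω hω0 with b | b
  · exact Or.inl ((key 1 ω hω1.symm).1 a b)
  · rcases h (ω ^ 2) (pow_ne_zero 2 hω0) with c | c
    · exact Or.inl ((key 1 (ω ^ 2) hω2.symm).1 a c)
    · exact Or.inr ((key (ω ^ 2) ω hω12).2 c b)
  · rcases h (ω ^ 2) (pow_ne_zero 2 hω0) with c | c
    · exact Or.inl ((key (ω ^ 2) ω hω12).1 c b)
    · exact Or.inr ((key 1 (ω ^ 2) hω2.symm).2 a c)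
  · exact Or.inr ((key 1 ω hω1.symm).2 a b)

/-- A semi-isometry which behaves like the involution `v ↦ v + ∑_{j ∈ S} h(v, g j) g j` is, up to a
scalar, this involution or the identity. -/
theorem dich {g k : Fin 3 → (Fin 6 → F)} (hb : Hyp g k) (he : e = 1 ∨ e = 2) (h : Sem e φ)
    (S : Finset (Fin 3))
    (h1 : ∀ x, Iso F x → (∀ j ∈ S, hermForm 6 F 2 x (g j) = 0) → Pt x (φ x))
    (h2 : ∀ i ∈ S, ∀ l ∈ S, i ≠ l → ∀ c : F, c ≠ 0 → Pt (k i + c • k l) (φ (k i + c • k l)) ∨
      Pt (k i + c • k l + (g i + c • g l)) (φ (k i + c • k l))) :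
    e = 1 ∧ ∃ a : F, a ≠ 0 ∧ ((∀ v, φ v = a • v) ∨
      (∀ v, φ v = a • (v + ∑ j ∈ S, hermForm 6 F 2 v (g j) • g j))) := by
  obtain ⟨ω, hω⟩ := exists_omega hF
  obtain ⟨rfl, a, ha, hga, hka⟩ := scal hF hb he h S h1
  refine ⟨rfl, a, ha, ?_⟩
  have hkg := hb.kg hF
  obtain ⟨ψ, hψ, hψd⟩ : ∃ ψ : (Fin 6 → F) → (Fin 6 → F), Sem 1 ψ ∧ ∀ v, ψ v = a⁻¹ • φ v :=
    ⟨_, h.smul' hF (inv_ne_zero ha), fun _ => rfl⟩
  have hψg : ∀ i, ψ (g i) = g i := fun i => by
    rw [hψd, hga, smul_smul, inv_mul_cancel₀ ha, one_smul]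
  have hψk : ∀ j, j ∉ S → ψ (k j) = k j := fun j hj => by
    rw [hψd, hka j hj, smul_smul, inv_mul_cancel₀ ha, one_smul]
  have hherm : ∀ v w, hermForm 6 F 2 (ψ v) (ψ w) = hermForm 6 F 2 v w := fun v w => by
    rw [hψ.herm, pow_one]
  obtain ⟨m, hm⟩ : ∃ m : Fin 3 → Fin 3 → F, ∀ i j, hermForm 6 F 2 (ψ (k i)) (k j) = m i j :=
    ⟨_, fun _ _ => rfl⟩
  have hkgm : ∀ i j, hermForm 6 F 2 (ψ (k i)) (g j) = if i = j then 1 else 0 := by
    intro i j
    rw [← hkg i j, ← hherm (k i) (g j), hψg]
  have hmform : ∀ i, ψ (k i) = k i + ∑ j, m i j • g j := by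
    intro i
    rw [hyp_expand hF hb (ψ (k i)), Finset.sum_add_distrib, add_comm]
    congr 1
    · simp only [hkgm, ite_smul, one_smul, zero_smul, Finset.sum_ite_eq, Finset.mem_univ, if_true]
    · simp only [hm]
  have hm0 : ∀ i j, j ∉ S → m i j = 0 := by
    intro i j hj
    have := hherm (k i) (k j)
    rw [hψk j hj, hb.kk, hm] at this
    exact this
  have hm0' : ∀ i j, i ∉ S → m i j = 0 := by
    intro i j hi
    rw [← hm, hψk i hi, hb.kk]
  have hmh : ∀ i j, m i j = m j i ^ 2 := by
    intro i j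
    have h3 := hherm (k i) (k j)
    rw [hb.kk, hmform j, herm_add_right hF, herm_sum_right hF] at h3
    simp only [herm_smul_right, hkgm, hm] at h3
    simp only [mul_ite, mul_one, mul_zero, Finset.sum_ite_eq, Finset.mem_univ, if_true] at h3
    exact eq_of_add_eq_zero hF h3
  have hrow : ∀ i ∈ S, ∀ l ∈ S, i ≠ l → (∀ j, m i j = 0 ∧ m l j = 0) ∨
      (∀ j, m i j = (if i = j then 1 else 0) ∧ m l j = (if l = j then 1 else 0)) := by
    intro i hi l hl hil
    apply rows_aux hF hω
    intro c hc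
    have hadd : ψ (k i + c • k l) = ψ (k i) + c • ψ (k l) := by
      rw [hψ.add, hψ.smul, pow_one]
    have hk1 : ∀ j, hermForm 6 F 2 (ψ (k i + c • k l)) (k j) = m i j + c * m l j := by
      intro j
      rw [hadd, herm_add_left, herm_smul_left, hm, hm]
    have hg1 : hermForm 6 F 2 (ψ (k i + c • k l)) (g i) = 1 := by
      rw [hadd, herm_add_left, herm_smul_left, hkgm, hkgm, if_pos rfl, if_neg hil.symm]
      ring
    rcases h2 i hi l hl hil c hc with ⟨d, hd, h5⟩ | ⟨d, hd, h5⟩
    · left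
      have h6 : ψ (k i + c • k l) = (a⁻¹ * d) • (k i + c • k l) := by
        rw [← smul_smul, ← h5, hψd]
      have h7 : a⁻¹ * d = 1 := by
        rw [h6, herm_smul_left, herm_add_left, herm_smul_left, hkg, hkg, if_pos rfl,
          if_neg hil.symm] at hg1
        linear_combination hg1
      intro j
      rw [← hk1, h6, h7, one_smul, herm_add_left, herm_smul_left, hb.kk, hb.kk]
      ring
    · right
      have h6 : ψ (k i + c • k l) = (a⁻¹ * d) • (k i + c • k l + (g i + c • g l)) := by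
        rw [← smul_smul, ← h5, hψd]
      have h7 : a⁻¹ * d = 1 := by
        rw [h6, herm_smul_left, herm_add_left, herm_add_left, herm_add_left, herm_smul_left,
          herm_smul_left, hkg, hkg, hb.gg, hb.gg, if_pos rfl, if_neg hil.symm] at hg1
        linear_combination hg1
      intro j
      rw [← hk1, h6, h7, one_smul, herm_add_left, herm_add_left, herm_add_left, herm_smul_left,
        herm_smul_left, hb.kk, hb.kk, hb.gk, hb.gk]
      ring
  -- back to `φ`
  have hback : ∀ v, φ v = a • ψ v := fun v => by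
    rw [hψd, smul_smul, mul_inv_cancel₀ ha, one_smul]
  have hid : (∀ i j, m i j = 0) → ∀ v, φ v = a • v := by
    intro hz v
    rw [hback]
    congr 1
    refine Sem.ext hF hψ (sem_id (F := F)) hb hψg (fun i => ?_) v
    rw [hmform]
    simp only [hz, zero_smul, Finset.sum_const_zero, add_zero]
  by_cases hS : ∃ i0, i0 ∈ S
  swap
  · left
    exact hid fun i j => hm0 i j fun hj => hS ⟨j, hj⟩
  obtain ⟨i0, hi0⟩ := hS
  have hm00 : m i0 i0 = 0 ∨ m i0 i0 = 1 := zero_or_one_of_fixed hF (hmh i0 i0).symm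
  rcases hm00 with hz | hz
  · left
    apply hid
    have hrow0 : ∀ l ∈ S, i0 ≠ l → ∀ j, m i0 j = 0 ∧ m l j = 0 := by
      intro l hl hil
      rcases hrow i0 hi0 l hl hil with h5 | h5
      · exact h5
      · have := (h5 i0).1
        rw [hz, if_pos rfl] at this
        exact absurd this zero_ne_one
    intro i j
    by_cases hi : i ∈ S
    · by_cases hii : i0 = i
      · subst hii
        by_cases hj : j ∈ S
        · by_cases hij : i0 = j
          · rw [← hij]; exact hz
          · exact (hrow0 j hj hij j).1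
        · exact hm0 _ _ hj
      · exact (hrow0 i hi hii j).2
    · exact hm0' _ _ hi
  · right
    have hrow0 : ∀ l ∈ S, i0 ≠ l → ∀ j, m i0 j = (if i0 = j then 1 else 0) ∧
        m l j = (if l = j then 1 else 0) := by
      intro l hl hil
      rcases hrow i0 hi0 l hl hil with h5 | h5
      · have := (h5 i0).1
        rw [hz] at this
        exact absurd this one_ne_zero
      · exact h5
    have hall : ∀ i ∈ S, ∀ j, m i j = if i = j then 1 else 0 := by
      intro i hi j
      by_cases hii : i0 = i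
      · subst hii
        by_cases hj : j ∈ S
        · by_cases hij : i0 = j
          · rw [← hij, if_pos rfl]; exact hz
          · exact (hrow0 j hj hij j).1
        · rw [hm0 _ _ hj, if_neg]
          rintro rfl
          exact hj hi
      · exact (hrow0 i hi hii j).2
    intro v
    rw [hback]
    congr 1
    have hA : Sem 1 (fun v : Fin 6 → F => v + ∑ j ∈ S, hermForm 6 F 2 v (g j) • g j) := by
      refine ⟨fun v w => ?_, fun c v => ?_, fun v w => ?_⟩
      · simp only [herm_add_left, add_smul, Finset.sum_add_distrib]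
        abel
      · simp only [herm_smul_left, pow_one, smul_add, Finset.smul_sum, smul_smul]
      · have e1 : ∀ (u : Fin 6 → F) (i : Fin 3),
            hermForm 6 F 2 (∑ j ∈ S, hermForm 6 F 2 u (g j) • g j) (g i) = 0 := by
          intro u i
          rw [herm_sum_left]
          exact Finset.sum_eq_zero fun j _ => by rw [herm_smul_left, hb.gg, mul_zero]
        have e2 : hermForm 6 F 2 (∑ j ∈ S, hermForm 6 F 2 v (g j) • g j)
            (∑ j ∈ S, hermForm 6 F 2 w (g j) • g j) = 0 := by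
          rw [herm_sum_right hF]
          exact Finset.sum_eq_zero fun j _ => by rw [herm_smul_right, e1, mul_zero]
        have e3 : hermForm 6 F 2 v (∑ j ∈ S, hermForm 6 F 2 w (g j) • g j) =
            ∑ j ∈ S, hermForm 6 F 2 w (g j) ^ 2 * hermForm 6 F 2 v (g j) := by
          rw [herm_sum_right hF]
          exact Finset.sum_congr rfl fun j _ => by rw [herm_smul_right]
        have e4 : hermForm 6 F 2 (∑ j ∈ S, hermForm 6 F 2 v (g j) • g j) w =
            ∑ j ∈ S, hermForm 6 F 2 w (g j) ^ 2 * hermForm 6 F 2 v (g j) := by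
          rw [herm_sum_left]
          exact Finset.sum_congr rfl fun j _ => by
            rw [herm_smul_left, herm_swap hF w (g j)]; ring
        simp only [pow_one]
        rw [herm_add_left, herm_add_right hF, herm_add_right hF, e2, e3, e4]
        linear_combination (∑ j ∈ S, hermForm 6 F 2 w (g j) ^ 2 * hermForm 6 F 2 v (g j)) *
          two_eq_zero hF
    refine Sem.ext hF hψ hA hb (fun i => ?_) (fun i => ?_) v
    · rw [hψg]
      simp only [hb.gg, zero_smul, Finset.sum_const_zero, add_zero]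
    · rw [hmform]
      simp only [hkg]
      congr 1
      rw [← Finset.sum_subset (Finset.subset_univ S)]
      · apply Finset.sum_congr rfl
        intro j hj
        by_cases hi : i ∈ S
        · rw [hall i hi]
        · rw [hm0' i j hi, if_neg]
          rintro rfl
          exact hi hj
      · intro j _ hj
        rw [hm0 i j hj, zero_smul]

end Sem

end Cfsg.Agent.U62.Semi
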