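import Cfsg.Agent.U62.Outer

/-!
The products over the Baer subplanes of a totally isotropic plane.
-/

set_option autoImplicit false
set_option linter.unusedSectionVars false

namespace Cfsg.Agent.U62.Seven

open Cfsg Cfsg.Agent.LieClassical.HermBasic Cfsg.Agent.ClassicalGeometry.UnitTransv
open Cfsg.Agent.SporadicStructure.UnitTwo
open Cfsg.Agent.R01.PSUSix Cfsg.Agent.R01.InvForm
open Cfsg.Agent.R01.Frames (Hyp)
open Cfsg.Agent.R01.ComLabel (Iso)
open Cfsg.Agent.U62.Semi Cfsg.Agent.U62.Semi2 Cfsg.Agent.U62.Sys Cfsg.Agent.U62.Basic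
open Cfsg.Agent.U62.Lin Cfsg.Agent.U62.Outer

variable {G : Type*} [Group G] {F : Type*} [Field F] [Fintype F] {hF : Fintype.card F = 2 ^ 2}
variable {t : G} {L K : Subgroup G} {p : (Fin 6 → F) → G}

/-- The product over the Baer subplane of a frame. -/
def Sev (p : (Fin 6 → F) → G) (u v w : Fin 6 → F) : G :=
  p u * p v * p w * p (u + v) * p (u + w) * p (v + w) * p (u + v + w)

section S

variable (S : Sys hF t L K p)
include S

theorem sev_mem {u v w : Fin 6 → F} (h : Fr3 u v w) : Sev p u v w = 1 ∨ Sev p u v w = t :=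
  seven_mem S h

theorem comb {u v w : Fin 6 → F} (h : Fr3 u v w) (a b c : F) (h0 : a ≠ 0 ∨ b ≠ 0 ∨ c ≠ 0) :
    Iso F (a • u + b • v + c • w) := comb_iso S h h0

theorem sev_conj {m : G} (hm : Commute m t) {φ : (Fin 6 → F) → (Fin 6 → F)} (hφ : Sem 1 φ)
    (ha : Acts p m φ) {u v w : Fin 6 → F} (h : Fr3 u v w) :
    Sev p (φ u) (φ v) (φ w) = Sev p u v w := by
  have hu := Fr3.isou h
  have hv := Fr3.isov h
  have hw := Fr3.isow h
  have huv : Iso F (u + v) := by
    have := comb S h 1 1 0 (Or.inl one_ne_zero)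
    rwa [one_smul, one_smul, zero_smul, add_zero] at this
  have huw : Iso F (u + w) := by
    have := comb S h 1 0 1 (Or.inl one_ne_zero)
    rwa [one_smul, one_smul, zero_smul, add_zero] at this
  have hvw : Iso F (v + w) := by
    have := comb S h 0 1 1 (Or.inr (Or.inl one_ne_zero))
    rwa [one_smul, one_smul, zero_smul, zero_add] at this
  have huvw : Iso F (u + v + w) := by
    have := comb S h 1 1 1 (Or.inl one_ne_zero)
    rwa [one_smul, one_smul, one_smul] at this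
  have h1 : m * Sev p u v w * m⁻¹ = Sev p (φ u) (φ v) (φ w) := by
    rw [Sev, Sev, ← hφ.add, ← hφ.add, ← hφ.add, ← hφ.add, ← ha u hu, ← ha v hv, ← ha w hw,
      ← ha _ huv, ← ha _ huw, ← ha _ hvw, ← ha _ huvw]
    group
  rw [← h1]
  rcases sev_mem S h with h2 | h2
  · rw [h2]; group
  · rw [h2, hm.eq, mul_inv_cancel_right]

/-- The line relation. -/
theorem line' {a b : Fin 6 → F} (h : Fr2 a b) {ω : F} (hω : ω ^ 2 + ω + 1 = 0) :
    p a * p b * p (a + b) * p (ω • a + b) * p (ω ^ 2 • a + b) = t := S.line a b h ω hω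

omit S in
theorem calc_T {H : Type*} [CommGroup H] {τ A B W AB A0 A1 A2 B0 B1 B2 D0 D1 D2 : H}
    (hτ : τ * τ = 1) (hA : A * A = 1) (hB : B * B = 1) (hAB : AB * AB = 1)
    (l1 : W * A * A0 * A1 * A2 = τ) (l2 : W * B * B0 * B1 * B2 = τ)
    (l3 : W * AB * D0 * D1 * D2 = τ) :
    (A * B * W * AB * A0 * B0 * D0) * (A * B * W * AB * A1 * B1 * D1) *
      (A * B * W * AB * A2 * B2 * D2) = τ := by
  calc (A * B * W * AB * A0 * B0 * D0) * (A * B * W * AB * A1 * B1 * D1) *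
      (A * B * W * AB * A2 * B2 * D2) = (A * A) * (B * B) * (AB * AB) *
      ((W * A * A0 * A1 * A2) * (W * B * B0 * B1 * B2) * (W * AB * D0 * D1 * D2)) := by ac_rfl
    _ = τ := by rw [hA, hB, hAB, l1, l2, l3, hτ]; simp

/-- The product over the three classes of Baer subplanes. -/
theorem three_classes {u v w : Fin 6 → F} (h : Fr3 u v w) {ω : F} (hω : ω ^ 2 + ω + 1 = 0) :
    Sev p u v w * Sev p u v (ω • w) * Sev p u v (ω ^ 2 • w) = t := by
  obtain ⟨H, iH, f, l, τ, hf, hl, hfτ⟩ := comm3 S h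
  have hω0 : ω ≠ 0 := by rintro rfl; simp at hω
  have hω3 : ω ^ 3 = 1 := omega_cubed hω
  have hw := Fr3.isow h
  have n1 : (1 : F) ≠ 0 := one_ne_zero
  have q1 : p u = f (l 1 0 0) := by rw [hl _ _ _ (Or.inl n1)]; simp
  have q2 : p v = f (l 0 1 0) := by rw [hl _ _ _ (Or.inr (Or.inl n1))]; simp
  have q3 : p w = f (l 0 0 1) := by rw [hl _ _ _ (Or.inr (Or.inr n1))]; simp
  have q4 : p (u + v) = f (l 1 1 0) := by rw [hl _ _ _ (Or.inl n1)]; simp
  have q5 : ∀ c : F, p (u + c • w) = f (l 1 0 c) := fun c => by rw [hl _ _ _ (Or.inl n1)]; simp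
  have q6 : ∀ c : F, p (v + c • w) = f (l 0 1 c) := fun c => by
    rw [hl _ _ _ (Or.inr (Or.inl n1))]; simp
  have q7 : ∀ c : F, p (u + v + c • w) = f (l 1 1 c) := fun c => by
    rw [hl _ _ _ (Or.inl n1)]; simp
  have q5' : p (u + w) = f (l 1 0 1) := by rw [← q5, one_smul]
  have q6' : p (v + w) = f (l 0 1 1) := by rw [← q6, one_smul]
  have q7' : p (u + v + w) = f (l 1 1 1) := by rw [← q7, one_smul]
  have r1 : p (ω • w) = f (l 0 0 1) := by rw [S.smul w hw ω hω0, q3]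
  have r2 : p (ω ^ 2 • w) = f (l 0 0 1) := by rw [S.smul w hw _ (pow_ne_zero 2 hω0), q3]
  have hsq : ∀ a b c : F, (a ≠ 0 ∨ b ≠ 0 ∨ c ≠ 0) → l a b c * l a b c = 1 := by
    intro a b c h0
    apply hf
    rw [map_mul, hl _ _ _ h0, map_one]
    exact S.sq _ (comb S h _ _ _ h0)
  have hτ : τ * τ = 1 := hf (by rw [map_mul, hfτ, map_one]; exact S.tt)
  have fr : ∀ x, (∃ a b : F, (a ≠ 0 ∨ b ≠ 0) ∧ x = a • u + b • v) → Fr2 w x := by
    rintro x ⟨a, b, hab, rfl⟩
    have hx : Iso F (a • u + b • v) := by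
      have := comb S h a b 0 (by tauto)
      rwa [zero_smul, add_zero] at this
    refine ⟨h.ww, hx.2, ?_, ?_⟩
    · rw [herm_add_right hF, herm_smul_right, herm_smul_right, herm_eq_zero_swap hF h.uw,
        herm_eq_zero_swap hF h.vw]
      ring
    · intro c d hcd
      obtain ⟨h1, h2, h3⟩ := h.ind (d * a) (d * b) c (by rw [← hcd]; module)
      refine ⟨h3, ?_⟩
      rcases hab with h4 | h4
      · exact (mul_eq_zero.1 h1).resolve_right h4
      · exact (mul_eq_zero.1 h2).resolve_right h4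
  have L1 : l 0 0 1 * l 1 0 0 * l 1 0 1 * l 1 0 ω * l 1 0 (ω ^ 2) = τ := by
    apply hf
    rw [hfτ, ← line' S (fr u ⟨1, 0, Or.inl n1, by simp⟩) hω]
    simp only [map_mul, ← q1, ← q3, ← q5, one_smul]
    rw [add_comm w u, add_comm (ω • w) u, add_comm (ω ^ 2 • w) u]
  have L2 : l 0 0 1 * l 0 1 0 * l 0 1 1 * l 0 1 ω * l 0 1 (ω ^ 2) = τ := by
    apply hf
    rw [hfτ, ← line' S (fr v ⟨0, 1, Or.inr n1, by simp⟩) hω]
    simp only [map_mul, ← q2, ← q3, ← q6, one_smul]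
    rw [add_comm w v, add_comm (ω • w) v, add_comm (ω ^ 2 • w) v]
  have L3 : l 0 0 1 * l 1 1 0 * l 1 1 1 * l 1 1 ω * l 1 1 (ω ^ 2) = τ := by
    apply hf
    rw [hfτ, ← line' S (fr (u + v) ⟨1, 1, Or.inl n1, by simp⟩) hω]
    simp only [map_mul, ← q4, ← q3, ← q7, one_smul]
    rw [add_comm w (u + v), add_comm (ω • w) (u + v), add_comm (ω ^ 2 • w) (u + v)]
  have hT := calc_T hτ (hsq 1 0 0 (Or.inl n1)) (hsq 0 1 0 (Or.inr (Or.inl n1)))
    (hsq 1 1 0 (Or.inl n1)) L1 L2 L3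
  have hT' := congrArg f hT
  rw [hfτ] at hT'
  rw [← hT', Sev, Sev, Sev, r1, r2]
  simp only [q1, q2, q3, q4, q5, q6, q7, q5', q6', q7', map_mul]

theorem fr3_smul {u v w : Fin 6 → F} (h : Fr3 u v w) {c : F} (hc : c ≠ 0) : Fr3 u v (c • w) := by
  have := Cfsg.Agent.R01.InvForm.Fr3_smul hF h (a := 1) (b := 1) (c := c) one_ne_zero one_ne_zero hc
  rwa [one_smul, one_smul] at this

/-- There is a frame whose product is `t`. -/
theorem exists_t : ∃ u v w, Fr3 u v w ∧ Sev p u v w = t := by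
  obtain ⟨ω, hω⟩ := exists_omega hF
  have hω0 : ω ≠ 0 := by rintro rfl; simp at hω
  obtain ⟨u, v, w, h, -⟩ := S.seven
  have h1 := three_classes S h hω
  by_contra hcon
  push Not at hcon
  have e0 := (sev_mem S h).resolve_right (hcon _ _ _ h)
  have f1 := fr3_smul S h hω0
  have f2 := fr3_smul S h (pow_ne_zero 2 hω0)
  have e1 := (sev_mem S f1).resolve_right (hcon _ _ _ f1)
  have e2 := (sev_mem S f2).resolve_right (hcon _ _ _ f2)
  rw [e0, e1, e2, one_mul, one_mul] at h1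
  exact S.t1 h1.symm

theorem exists_one : ∃ u v w, Fr3 u v w ∧ Sev p u v w = 1 := S.seven

end S

end Cfsg.Agent.U62.Seven
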