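import Cfsg.Agent.U62.SgnTwo
import Cfsg.Agent.U62.Outer
import Cfsg.Agent.R01.Component

/-!
The sign of a semilinear element of `C(t)` on the 3510 members of the component `Δ`: the sign on the members which
commute with `t` is `-1`.
-/

set_option autoImplicit false
set_option linter.unusedSectionVars false

namespace Cfsg.Agent.U62.SgnOne

open Cfsg Cfsg.Agent.LieClassical.HermBasic Cfsg.Agent.ClassicalGeometry.UnitTransv
open Cfsg.Agent.SporadicStructure.UnitTwo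
open Cfsg.Agent.R01.PSUSix Cfsg.Agent.R01.InvForm
open Cfsg.Agent.R01.Frames (Hyp E P hyp_std expand' trans_hyp)
open Cfsg.Agent.R01.ComLabel (Iso IsLabel)
open Cfsg.Agent.R01.HermSix (IsHypBasis dec co bitF bitF_sq dec_surj)
open Cfsg.Agent.R01.HermCode (pts isPt mult cnj)
open Cfsg.Agent.R01.Component (Nb)
open Cfsg.Agent.U62.Semi Cfsg.Agent.U62.Semi2 Cfsg.Agent.U62.Sys Cfsg.Agent.U62.Basic Cfsg.Agent.U62.Lin
open Cfsg.Agent.U62.SgnTwo (pm pm_fix pm_pow_two Gm sign_gam sign_pm_split)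

variable {G : Type*} [Group G] {F : Type*} [Field F] [Fintype F] {hF : Fintype.card F = 2 ^ 2}
variable {t : G} {L K : Subgroup G} {p : (Fin 6 → F) → G} {Δ : Set G}

/-- The data of the component. -/
structure Dl (F : Type*) [Field F] (t : G) (Δ : Set G) (p : (Fin 6 → F) → G) : Prop where
  sq : ∀ a ∈ Δ, a * a = 1
  three : ∀ a ∈ Δ, ∀ b ∈ Δ, Commute a b ∨ (a * b) ^ 3 = 1
  tmem : t ∈ Δ
  conj : ∀ a ∈ Δ, ∀ b ∈ Δ, b * a * b⁻¹ ∈ Δ
  card : (Gm Δ t).ncard = 2816
  mem : ∀ v, Iso F v → p v ∈ Δ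
  surj : ∀ a ∈ Δ, Commute a t → a = t ∨ ∃ v, Iso F v ∧ p v = a

section S

variable (S : Sys hF t L K p)
include S

/-- The labelling of the neighbours of `t`. -/
theorem label (D : Dl F t Δ p) : IsLabel F Δ t p where
  mem v hv := ⟨D.mem v hv, S.net v hv, pt S hv⟩
  surj a ha hne hc := by
    rcases D.surj a ha hc with h | h
    · exact absurd h hne
    · exact h
  smul v hv c hc := S.smul v hv c hc
  inj u v hu hv h := by
    obtain ⟨c, -, hc⟩ := S.inj u v hu hv h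
    exact ⟨c, hc⟩
  conj u v hu hv := acts_p S hu v hv

/-- Normalisation of a semilinear element: modulo `L` it fixes the vectors of a hyperbolic basis. -/
theorem exists_norm {n : G} (hn : IsSLin p n) : ∃ l ∈ L, ∃ (ψ : (Fin 6 → F) → (Fin 6 → F))
    (g k : Fin 3 → (Fin 6 → F)), Sem 2 ψ ∧ Acts p (l * n) ψ ∧ Hyp g k ∧ (∀ i, ψ (g i) = g i) ∧
      ∀ i, ψ (k i) = k i := by
  obtain ⟨φ, hφ, ha⟩ := hn
  obtain ⟨ω, hω⟩ := exists_omega hF
  have hb := hyp_std (F := F) hF hω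
  -- the image of the standard basis
  have hb' : Hyp (fun i => φ (E i)) (fun i => φ (P ω i)) := by
    refine ⟨fun i j => ?_, fun i j => ?_, fun i j => ?_⟩
    · show hermForm 6 F 2 (φ (E i)) (φ (E j)) = 0
      rw [hφ.herm, hb.gg]; ring
    · show hermForm 6 F 2 (φ (P ω i)) (φ (P ω j)) = 0
      rw [hφ.herm, hb.kk]; ring
    · show hermForm 6 F 2 (φ (E i)) (φ (P ω j)) = _
      rw [hφ.herm, hb.gk]
      split_ifs <;> ring
  obtain ⟨s, a, ha0, e0, e1, e2, p0, p1, p2⟩ := trans_hyp hF hω hb'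
  obtain ⟨l, hl, hr⟩ := S.real s⁻¹
  have ha3 := pow_three hF ha0
  have hinv : ∀ {x y : Fin 6 → F}, act s x = y → act s⁻¹ y = x := by
    rintro x _ rfl
    rw [act_inv_act]
  -- the composite
  have hψ : Sem (F := F) 2 (fun v => act s⁻¹ (φ v)) := (sem_act s⁻¹).comp hφ
  have hacts : Acts p (l * n) (fun v => act s⁻¹ (φ v)) :=
    acts_mul hr ha fun v hv => hφ.iso hF (Or.inr rfl) hv
  have hsc : ∀ {x y : Fin 6 → F}, act s x = a • φ y → x = y → act s⁻¹ (φ (a • y)) = a • y := by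
    intro x y h1 h2
    have h3 := hinv h1
    rw [act_smul] at h3
    rw [hφ.smul, act_smul]
    have h4 : a ^ 2 • act s⁻¹ (φ y) = a • (a • act s⁻¹ (φ y)) := by rw [smul_smul, pow_two]
    rw [h4, h3, h2]
  refine ⟨l, hl, fun v => act s⁻¹ (φ v), ![a • E 0, E 1, E 2], ![a • P ω 0, P ω 1, P ω 2], hψ, hacts, ?_, ?_, ?_⟩
  · have hn := norm_one hF ha0
    have h01 : (0 : Fin 3) ≠ 1 := by decide
    have h02 : (0 : Fin 3) ≠ 2 := by decide
    have h12 : (1 : Fin 3) ≠ 2 := by decide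
    refine ⟨fun i j => ?_, fun i j => ?_, fun i j => ?_⟩
    · fin_cases i <;> fin_cases j <;>
        simp [herm_smul_left, herm_smul_right, hb.gg]
    · fin_cases i <;> fin_cases j <;>
        simp [herm_smul_left, herm_smul_right, hb.kk]
    · fin_cases i <;> fin_cases j <;>
        simp [herm_smul_left, herm_smul_right, hb.gk]
      linear_combination hn
  · intro i
    fin_cases i
    · exact hsc e0 rfl
    · exact hinv e1
    · exact hinv e2
  · intro i
    fin_cases i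
    · exact hsc p0 rfl
    · exact hinv p1
    · exact hinv p2

end S

/-! ### Codes -/

include hF in
theorem hyp_basis {g k : Fin 3 → (Fin 6 → F)} (h : Hyp g k) :
    IsHypBasis ![g 0, g 1, g 2, k 2, k 1, k 0] := by
  have kg := h.kg hF
  intro i j
  fin_cases i <;> fin_cases j <;> simp [h.gg, h.kk, h.gk, kg, Fin.ext_iff]

theorem cnj_lt {c : ℕ} (hc : c < 4096) : cnj c < 4096 := by
  have h1 : (c >>> 1) &&& 1365 ≤ 1365 := Nat.and_le_right
  exact Nat.xor_lt_two_pow (n := 12) hc (by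
    show (c >>> 1) &&& 1365 < 2 ^ 12
    omega)

include hF in
/-- A semilinear map fixing a basis is the conjugation of codes. -/
theorem dec_cnj {ω : F} (hω : ω ^ 2 + ω + 1 = 0) {ψ : (Fin 6 → F) → (Fin 6 → F)} (hψ : Sem 2 ψ)
    {b : Fin 6 → (Fin 6 → F)} (hfix : ∀ i, ψ (b i) = b i) (c : ℕ) :
    ψ (dec b ω c) = dec b ω (cnj c) := by
  rw [dec, dec]
  have hsum : ∀ f : Fin 6 → F, ψ (∑ k : Fin 6, f k • b k) = ∑ k : Fin 6, f k ^ 2 • b k := by
    intro f
    simp only [Fin.sum_univ_six, hψ.add, hψ.smul, hfix]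
  rw [hsum]
  refine Finset.sum_congr rfl fun k _ => ?_
  congr 1
  rw [co, co, bitF_sq hF hω]
  have hk := k.2
  rw [Cfsg.Agent.R01.HermCode.testBit_cnj _ _ (by omega), Cfsg.Agent.R01.HermCode.testBit_cnj _ _ (by omega)]
  have e1 : (2 * (k : ℕ) + 1) % 2 = 1 := by omega
  have e2 : (2 * (k : ℕ)) % 2 = 0 := by omega
  simp [e1, e2, Bool.xor_comm]

/-- The number of rational points. -/
theorem count_rat : (pts.filter (fun c => mult c (cnj c))).length = 63 := by decide +kernel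

section S

variable (S : Sys hF t L K p)
include S

/-- The number of members commuting with `t` and `x`. -/
theorem ncard_fix (D : Dl F t Δ p) {x : G} {ψ : (Fin 6 → F) → (Fin 6 → F)} (hψ : Sem 2 ψ) (ha : Acts p x ψ)
    {g k : Fin 3 → (Fin 6 → F)} (hb : Hyp g k) (hg : ∀ i, ψ (g i) = g i) (hk : ∀ i, ψ (k i) = k i) :
    {a | a ∈ Nb Δ t ∧ Commute a x}.ncard = 63 := by
  obtain ⟨ω, hω⟩ := exists_omega hF
  have hB := hyp_basis (hF := hF) hb
  have hfix : ∀ i, ψ ((![g 0, g 1, g 2, k 2, k 1, k 0] : Fin 6 → (Fin 6 → F)) i) =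
      (![g 0, g 1, g 2, k 2, k 1, k 0] : Fin 6 → (Fin 6 → F)) i := by
    intro i
    fin_cases i
    · exact hg 0
    · exact hg 1
    · exact hg 2
    · exact hk 2
    · exact hk 1
    · exact hk 0
  rw [Cfsg.Agent.R01.Component.ncard_filter hF hω (label S D) hB (fun a => Commute a x) (fun c => mult c (cnj c)),
    count_rat]
  intro c hc
  obtain ⟨h1, h2, h3⟩ := (Cfsg.Agent.R01.HermSix.isPt_iff_dec hF hω hB).1 hc
  have hiso : Iso F (dec ![g 0, g 1, g 2, k 2, k 1, k 0] ω c) := ⟨h2, h3⟩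
  have h4 := dec_cnj (hF := hF) hω hψ hfix c
  have h5 := hψ.iso hF (Or.inr rfl) hiso
  have h6 : Commute (p (dec ![g 0, g 1, g 2, k 2, k 1, k 0] ω c)) x ↔ Commute x (p (dec ![g 0, g 1, g 2, k 2, k 1, k 0] ω c)) :=
    ⟨fun h => h.symm, fun h => h.symm⟩
  rw [h6, acts_commute S (Or.inr rfl) hψ ha hiso,
    Cfsg.Agent.R01.HermSix.mult_iff hF hω hB h1 (cnj_lt h1) (by rw [← h4]; exact h5.1), ← h4]
  constructor
  · rintro ⟨y, -, hy⟩
    exact ⟨y, hy⟩
  · rintro ⟨y, hy⟩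
    refine ⟨y, ?_, hy⟩
    rintro rfl
    rw [zero_smul] at hy
    exact h5.1 hy

theorem ncard_nb (D : Dl F t Δ p) : (Nb Δ t).ncard = 693 := by
  obtain ⟨ω, hω⟩ := exists_omega hF
  have hB := hyp_basis (hF := hF) (hyp_std (F := F) hF hω)
  have h := Cfsg.Agent.R01.Component.ncard_filter hF hω (label S D) hB (fun _ => True) (fun _ => true) (fun _ _ => by simp)
  rw [List.filter_true, Cfsg.Agent.R01.HermCode.pts_length] at h
  simpa using h

/-- The sign on the members commuting with `t`. -/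
theorem sign_one [Finite G] (hK : ∀ k ∈ K, k = 1 ∨ k = t) (D : Dl F t Δ p) {x : G} (xt : Commute x t)
    {ψ : (Fin 6 → F) → (Fin 6 → F)} (hψ : Sem 2 ψ) (ha : Acts p x ψ) {g k : Fin 3 → (Fin 6 → F)} (hb : Hyp g k)
    (hg : ∀ i, ψ (g i) = g i) (hk : ∀ i, ψ (k i) = k i) (hxx : x * x = 1 ∨ x * x = t)
    (h : ∀ e, e ∈ {e | e ∈ Δ ∧ Commute e t} ↔ x * e * x⁻¹ ∈ {e | e ∈ Δ ∧ Commute e t})
    [Fintype {e | e ∈ Δ ∧ Commute e t}] [DecidableEq {e | e ∈ Δ ∧ Commute e t}] :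
    Equiv.Perm.sign (pm x {e | e ∈ Δ ∧ Commute e t} h) = -1 := by
  have hc : {e | e ∈ Δ ∧ Commute e t}.ncard = 694 := by
    have h1 : {e | e ∈ Δ ∧ Commute e t} = insert t (Nb Δ t) := by
      ext e
      simp only [Set.mem_ofPred_eq, Set.mem_insert_iff, Cfsg.Agent.R01.Component.mem_Nb]
      constructor
      · rintro ⟨a, b⟩
        by_cases hh : e = t
        · exact Or.inl hh
        · exact Or.inr ⟨a, hh, b⟩
      · rintro (rfl | ⟨a, b, c⟩)
        · exact ⟨D.tmem, Commute.refl _⟩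
        · exact ⟨a, c⟩
    rw [h1, Set.ncard_insert_of_notMem (fun h0 => h0.2.1 rfl), ncard_nb S D]
  have hf : {e | (e ∈ Δ ∧ Commute e t) ∧ Commute e x}.ncard = 64 := by
    have h1 : {e | (e ∈ Δ ∧ Commute e t) ∧ Commute e x} = insert t {a | a ∈ Nb Δ t ∧ Commute a x} := by
      ext e
      simp only [Set.mem_ofPred_eq, Set.mem_insert_iff, Cfsg.Agent.R01.Component.mem_Nb]
      constructor
      · rintro ⟨⟨a, b⟩, c⟩
        by_cases hh : e = t
        · exact Or.inl hh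
        · exact Or.inr ⟨⟨a, hh, b⟩, c⟩
      · rintro (rfl | ⟨⟨a, b, c⟩, d⟩)
        · exact ⟨⟨D.tmem, Commute.refl _⟩, xt.symm⟩
        · exact ⟨⟨a, c⟩, d⟩
    rw [h1, Set.ncard_insert_of_notMem (fun h0 => h0.1.2.1 rfl), ncard_fix S D hψ ha hb hg hk]
  have h2 : (pm x {e | e ∈ Δ ∧ Commute e t} h) ^ 2 = 1 := pm_pow_two h fun e he => by
    rcases hxx with h0 | h0 <;> rw [h0]
    · exact Commute.one_right e
    · exact he.2
  have hfix : Fintype.card (Function.fixedPoints (pm x {e | e ∈ Δ ∧ Commute e t} h)) = 64 := by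
    rw [← hf, ← Nat.card_eq_fintype_card, ← Nat.card_coe_set_eq]
    exact Nat.card_congr
      { toFun := fun e => ⟨(e : {e | e ∈ Δ ∧ Commute e t}), (e : {e | e ∈ Δ ∧ Commute e t}).2, (pm_fix h _).1 e.2⟩
        invFun := fun e => ⟨⟨e, e.2.1⟩, (pm_fix h _).2 e.2.2⟩
        left_inv := fun e => rfl
        right_inv := fun e => rfl }
  have hFc : Fintype.card {e | e ∈ Δ ∧ Commute e t} = 694 := by
    rw [← Nat.card_eq_fintype_card, Nat.card_coe_set_eq, hc]
  rw [Equiv.Perm.sign_of_pow_two_eq_one h2, hFc, hfix]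
  decide

end S

end Cfsg.Agent.U62.SgnOne
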