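import Cfsg.Agent.U62.Assemble
import Cfsg.Agent.U62.Fus

/-!
A simple group with a standard subgroup `L` with `|Z(L)| = 2` and `L / Z(L)` isomorphic to `PSU(6, 2)` is `Fi22`.
-/

set_option autoImplicit false

namespace Cfsg.Agent.U62.U62Main

open Cfsg

theorem main {G : Type*} [Group G] [Finite G] [IsSimpleGroup G] (hG : ¬ IsMulCommutative G)
    (hbal : ∀ t : G, orderOf t = 2 → Cfsg.centralizerPPrimeCore 2 t = ⊥)
    {L : Subgroup G} (hL : Cfsg.IsStandardSubgroup L)
    {E : Type*} [Field E] [Fintype E] (hE : Fintype.card E = 4)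
    (hZ : Nat.card ↥(Subgroup.center ↥L) = 2) (e : ↥L ⧸ Subgroup.center ↥L ≃* PSU 6 E 2) :
    Cfsg.Spor.IsoFi22 G :=
  Assemble.main hG hbal hL (by rw [hE]; norm_num) (fun _ _ _ S hK hs => Fus.main S hK hs) hZ e

end Cfsg.Agent.U62.U62Main
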